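/-
A group with root elements satisfying additivity and the commutator formula for all roots: the
monomial and torus elements and their action.
-/
import Cfsg.Agent.H38.CT.Descent

set_option autoImplicit false

namespace Cfsg.Agent.H38.St

open Cfsg.Lie Cfsg.Lie.ChevalleyDatum Cfsg.Agent.Chevalley Cfsg.Agent.H38.CT

variable {D : ChevalleyDatum}

/-- every fundamental root has a neighbour -/
def Adj (D : ChevalleyDatum) : Prop :=
  ∀ a < D.rank, ∃ b < D.rank, a ≠ b ∧ D.cartan a (D.simple b) ≠ 0 ∧ D.cartan b (D.simple a) ≠ 0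

variable (C : Cert D) {F : Type*} [Field F]

/-- conjugating a root element in the matrix group by `n_a(t)` -/
theorem gl_nU_conj {a s : ℕ} (ha : a < D.rank) (hs : s < D.nroots) (t : Fˣ) (u : F) :
    ∃ v, C.nU F (D.simple a) t * C.xU F s u * (C.nU F (D.simple a) t)⁻¹ = C.xU F (C.w a s) v := by
  set c : ℕ → Fˣ := fun m => if m = a then t else 1
  set d : GL D.Idx F := dU (C.chi F c)
  have hd : ∀ {r}, r < D.nroots → ∀ x, d * C.xU F r x * d⁻¹ = C.xU F r ((C.chiR F c r : F) * x) :=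
    fun hr x => C.dU_conj_xU F hr (C.scales_chi F c hr) x
  have hd' : ∀ {r}, r < D.nroots → ∀ x,
      d⁻¹ * C.xU F r x * d = C.xU F r (((C.chiR F c r)⁻¹ : Fˣ) * x) := fun {r} hr x => by
    have := hd hr (((C.chiR F c r)⁻¹ : Fˣ) * x)
    rw [← mul_assoc ((C.chiR F c r : Fˣ) : F), ← Units.val_mul, mul_inv_cancel, Units.val_one,
      one_mul] at this
    rw [← this]
    group
  refine ⟨(C.chiR F c (C.w a s) : F) * ((C.sg a s : F) * (((C.chiR F c s)⁻¹ : Fˣ) * u)), ?_⟩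
  have e : C.nU F (D.simple a) t = d * C.nS F a * d⁻¹ := C.nU_simple F a ha t
  rw [e, ← hd (C.w_lt a ha s hs).1, ← C.nS_conj_xU F ha hs, ← hd' hs]
  group

/-- a full system: all roots, with an adjacency for every fundamental root -/
structure Full (G : Type*) [Group G] extends Sys C F G where
  all : ∀ {r}, r < D.nroots → Sub r
  adj : Adj D

namespace Full

variable {C} {G : Type*} [Group G] (S : Full C (F := F) G)

/-- `n_i` -/
def nn (i : ℕ) : G := S.toSys.n i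

/-- `h_{p_i}(t)` -/
def hS (i : ℕ) (t : F) : G := S.N (D.simple i) t * S.N (D.simple i) (-1)

/-- the subgroup generated by the torus elements of the fundamental roots -/
def H : Subgroup G :=
  Subgroup.closure {g | ∃ (i : ℕ) (t : F), i < D.rank ∧ t ≠ 0 ∧ g = S.hS i t}

theorem sub_simple {i : ℕ} (hi : i < D.rank) : S.Sub (D.simple i) := S.all (C.simple_lt i hi).1

theorem N_inv {r : ℕ} (hr : r < D.nroots) (t : F) : (S.N r t)⁻¹ = S.N r (-t) := by
  simp only [Sys.N, mul_inv_rev, S.f_inv (S.all hr), S.f_inv (S.all (C.neg_lt hr)), inv_neg,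
    _root_.neg_neg, mul_assoc]

theorem rho_nn {i : ℕ} (hi : i < D.rank) : S.rho (S.nn i) = C.nS F i := S.rho_n (S.sub_simple hi)

theorem rho_hS {i : ℕ} (hi : i < D.rank) (t : F) : S.rho (S.hS i t) = C.hU F (D.simple i) t := by
  rw [hS, map_mul, S.rho_N (S.sub_simple hi), S.rho_N (S.sub_simple hi), C.hU_eq]

theorem hS_mem {i : ℕ} (hi : i < D.rank) {t : F} (ht : t ≠ 0) : S.hS i t ∈ S.H :=
  Subgroup.subset_closure ⟨i, t, hi, ht, rfl⟩

theorem hS_one {i : ℕ} (hi : i < D.rank) : S.hS i 1 = 1 := by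
  rw [hS, ← S.N_inv (C.simple_lt i hi).1, mul_inv_cancel]

theorem N_eq_hS {i : ℕ} (hi : i < D.rank) (t : F) : S.N (D.simple i) t = S.hS i t * S.nn i := by
  rw [hS, ← S.N_inv (C.simple_lt i hi).1]
  exact (inv_mul_cancel_right _ _).symm

theorem nn_conj {i r : ℕ} (hi : i < D.rank) (hr : r < D.nroots) (t : F) :
    S.nn i * S.f r t * (S.nn i)⁻¹ = S.f (C.w i r) ((C.sg i r : F) * t) := by
  by_cases hp : r = D.simple i ∨ r = D.neg (D.simple i)
  · obtain ⟨b, hb, hab, hA, hB⟩ := S.adj i hi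
    exact S.toSys.simple_conj_self hi hb hab hA hB (S.sub_simple hi) (S.sub_simple hb)
      (fun r hr => ⟨S.all (C.w_lt i hi r (S.sub_lt hr)).1, S.all (C.w_lt b hb r (S.sub_lt hr)).1⟩)
      hp t
  · push Not at hp
    exact S.toSys.simple_conj hi (S.sub_simple hi) (S.all hr) (S.all (C.w_lt i hi r hr).1) hp.1 hp.2 t

theorem nn_conj_N {i r : ℕ} (hi : i < D.rank) (hr : r < D.nroots) (t : F) :
    S.nn i * S.N r t * (S.nn i)⁻¹ = S.N (C.w i r) ((C.sg i r : F) * t) := by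
  have a := S.nn_conj hi hr t
  have b := S.nn_conj hi (C.neg_lt hr) (-t⁻¹)
  have es : (C.sg i (D.neg r) : F) * -t⁻¹ = -((C.sg i r : F) * t)⁻¹ := by
    rw [C.sg_neg hi hr]
    rcases C.sg_pm i r with h | h <;> simp [h, inv_neg]
  rw [C.w_neg hi hr, es] at b
  calc S.nn i * S.N r t * (S.nn i)⁻¹
      = (S.nn i * S.f r t * (S.nn i)⁻¹) * (S.nn i * S.f (D.neg r) (-t⁻¹) * (S.nn i)⁻¹) *
          (S.nn i * S.f r t * (S.nn i)⁻¹) := by rw [Sys.N]; group
    _ = _ := by rw [a, b]; rfl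

/-- `n_a(t)` moves root elements as the reflection does -/
theorem N_act_ne {a s : ℕ} (ha : a < D.rank) (hs : s < D.nroots) (h1 : s ≠ D.simple a)
    (h2 : s ≠ D.neg (D.simple a)) {t : F} (ht : t ≠ 0) (u : F) :
    ∃ v, S.N (D.simple a) t * S.f s u * (S.N (D.simple a) t)⁻¹ = S.f (C.w a s) v := by
  obtain ⟨v, hv⟩ := gl_nU_conj C ha hs (Units.mk0 t ht) u
  rw [Units.val_mk0] at hv
  obtain ⟨k, hk, hka, hne⟩ := exists_other C ha hs h1 h2
  obtain ⟨σ, hσ⟩ : ∃ σ : ℤ, 0 < σ * C.cf s k := by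
    rcases lt_or_gt_of_ne hne with h | h
    · exact ⟨-1, by omega⟩
    · exact ⟨1, by omega⟩
  have h0 : lev C (fun m => if m = k then σ else 0) (D.simple a) = 0 := by
    rw [lev_simple C _ ha, if_neg (Ne.symm hka)]
  refine ⟨v, S.toSys.conj_eq (h := S.N (D.simple a) t) (lam := fun m => if m = k then σ else 0)
    (S.toSys.N_mem_L0 (S.sub_simple ha) h0 t) (S.all hs) (S.all (C.w_lt a ha s hs).1) ?_ ?_ ?_⟩
  · rwa [lev_delta C hk]
  · rw [lev_delta C hk, C.cf_w a ha s hs k hk, if_neg hka, sub_zero]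
    exact hσ
  · rw [S.rho_N (S.sub_simple ha)]
    exact hv

theorem N_act_self {a r : ℕ} (ha : a < D.rank) (hr : r = D.simple a ∨ r = D.neg (D.simple a))
    {t : F} (ht : t ≠ 0) (u : F) :
    ∃ v, S.N (D.simple a) t * S.f r u * (S.N (D.simple a) t)⁻¹ = S.f (C.w a r) v := by
  obtain ⟨b, hb, hab, hA, hB⟩ := S.adj a ha
  have hpa := (C.simple_lt a ha).1
  have hpb := (C.simple_lt b hb).1
  obtain ⟨hr', σ, hσ, hcf⟩ : r < D.nroots ∧ ∃ σ : ℤ, (σ = 1 ∨ σ = -1) ∧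
      ∀ j < D.rank, C.cf r j = σ * (if j = a then 1 else 0) := by
    rcases hr with rfl | rfl
    · exact ⟨hpa, 1, Or.inl rfl, fun j hj => by rw [C.cf_simple a ha j hj, one_mul]⟩
    · exact ⟨C.neg_lt hpa, -1, Or.inr rfl, fun j hj => by
        rw [C.cf_neg _ hpa j hj, C.cf_simple a ha j hj]; ring⟩
  have hσσ : σ * σ = 1 := by rcases hσ with rfl | rfl <;> norm_num
  have hcar : ∀ i < D.rank, D.cartan i r = σ * D.cartan i (D.simple a) := by
    intro i hi
    rw [C.cartan_lin i hi r hr', list_sum_range_map, Finset.sum_eq_single a]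
    · rw [hcf a ha, if_pos rfl]; ring
    · intro j hj hne
      rw [hcf j (Finset.mem_range.1 hj), if_neg hne, mul_zero, zero_mul]
    · simp [ha]
  obtain ⟨q, hqdef⟩ : ∃ q, q = C.w b r := ⟨_, rfl⟩
  have hq' : q < D.nroots := hqdef ▸ (C.w_lt b hb r hr').1
  have hqb : C.cf q b ≠ 0 := by
    rw [hqdef, C.cf_w b hb r hr' b hb, if_pos rfl, hcar b hb, hcf b hb, if_neg (Ne.symm hab)]
    intro e
    rcases hσ with rfl | rfl <;> simp [hB] at e
  have hq1 := out_ne C ha hb hq' (Ne.symm hab) hqb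
  have hb1 := simple_ne C ha hb hab
  have hb2 : D.neg (D.simple b) ≠ D.simple a ∧ D.neg (D.simple b) ≠ D.neg (D.simple a) := by
    have : C.cf (D.neg (D.simple b)) b ≠ 0 := by
      rw [C.cf_neg _ hpb b hb, C.cf_simple b hb b hb, if_pos rfl]
      norm_num
    exact out_ne C ha hb (C.neg_lt hpb) (Ne.symm hab) this
  set A := D.cartan a (D.simple b) with hAdef
  set lam : ℕ → ℤ := fun m => if m = a then -σ else if m = b then -σ * A else 0 with hlam
  have la : lam a = -σ := if_pos rfl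
  have lb : lam b = -σ * A := by simp [hlam, Ne.symm hab]
  have hb0 : lev C lam (C.w a (D.simple b)) = 0 := by
    rw [lev_w C lam ha hpb, lev_simple C lam hb, ← hAdef, la, lb]
    ring
  have hM : (S.N (D.simple a) t) * S.nn b * (S.N (D.simple a) t)⁻¹ ∈ S.toSys.L0 lam := by
    obtain ⟨v1, e1⟩ := S.N_act_ne ha hpb hb1.1 hb1.2 ht 1
    obtain ⟨v2, e2⟩ := S.N_act_ne ha (C.neg_lt hpb) hb2.1 hb2.2 ht (-(1 : F)⁻¹)
    have hwb := (C.w_lt a ha _ hpb).1
    have hm : (S.N (D.simple a) t) * S.nn b * (S.N (D.simple a) t)⁻¹ = S.f (C.w a (D.simple b)) v1 *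
        S.f (C.w a (D.neg (D.simple b))) v2 * S.f (C.w a (D.simple b)) v1 := by
      rw [← e1, ← e2]
      show (S.N (D.simple a) t) * (S.f _ 1 * S.f _ (-(1 : F)⁻¹) * S.f _ 1) * (S.N (D.simple a) t)⁻¹ = _
      group
    rw [hm, C.w_neg ha hpb]
    have h0' : lev C lam (D.neg (C.w a (D.simple b))) = 0 := by
      rw [lev_neg C lam hwb, hb0, neg_zero]
    exact mul_mem (mul_mem (S.toSys.f_mem_L0 lam (S.all hwb) hb0 v1)
      (S.toSys.f_mem_L0 lam (S.all (C.neg_lt hwb)) h0' v2)) (S.toSys.f_mem_L0 lam (S.all hwb) hb0 v1)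
  have hlr : lev C lam r = -1 := by
    rw [show lev C lam r = σ * lev C lam (D.simple a) + 0 * lev C lam (D.simple a) from
      lev_comb C lam (fun j hj => by rw [hcf j hj, C.cf_simple a ha j hj]; ring),
      lev_simple C lam ha, la]
    linear_combination -hσσ
  have hlq : lev C lam (C.w a q) = 1 := by
    rw [lev_w C lam ha hq', hqdef, C.cartan_w hb ha hr', lev_w C lam hb hr', hlr, hcar a ha,
      hcar b hb, C.cartan_self a ha, la, lb, ← hAdef]
    linear_combination (2 : ℤ) * hσσ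
  have e0 : S.nn b * S.f q ((C.sg b q : F) * u) * (S.nn b)⁻¹ = S.f r u := by
    rw [S.nn_conj hb hq', hqdef, (C.w_lt b hb r hr').2, ← mul_assoc, ← Int.cast_mul, C.sg_sq,
      Int.cast_one, one_mul]
  obtain ⟨v, e2⟩ := S.N_act_ne ha hq' hq1.1 hq1.2 ht ((C.sg b q : F) * u)
  obtain ⟨w, hw⟩ := gl_nU_conj C ha hr' (Units.mk0 t ht) u
  rw [Units.val_mk0] at hw
  refine ⟨w, ?_⟩
  calc (S.N (D.simple a) t) * S.f r u * (S.N (D.simple a) t)⁻¹
      = ((S.N (D.simple a) t) * S.nn b * (S.N (D.simple a) t)⁻¹) * S.f (C.w a q) v * ((S.N (D.simple a) t) * S.nn b * (S.N (D.simple a) t)⁻¹)⁻¹ := by rw [← e2, ← e0]; group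
    _ = _ := by
      refine S.toSys.conj_eq hM (S.all (C.w_lt a ha q hq').1) (S.all (C.w_lt a ha r hr').1)
        (by omega) ?_ ?_
      · rw [lev_w C lam ha hr', hlr, hcar a ha, C.cartan_self a ha, la]
        linarith
      · rw [← hw, ← S.rho_N (S.sub_simple ha), ← S.rho_f (S.all hr') u, ← e0,
          ← S.rho_f (S.all (C.w_lt a ha q hq').1) v, ← e2]
        simp only [map_mul, map_inv]
        group

theorem N_act {a s : ℕ} (ha : a < D.rank) (hs : s < D.nroots) {t : F} (ht : t ≠ 0) (u : F) :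
    ∃ v, S.N (D.simple a) t * S.f s u * (S.N (D.simple a) t)⁻¹ = S.f (C.w a s) v := by
  by_cases h : s = D.simple a ∨ s = D.neg (D.simple a)
  · exact S.N_act_self ha h ht u
  · push Not at h
    exact S.N_act_ne ha hs h.1 h.2 ht u

theorem f_eq_of_rho {r : ℕ} (hr : r < D.nroots) {u v : F}
    (h : S.rho (S.f r u) = S.rho (S.f r v)) : u = v := by
  rw [S.rho_f (S.all hr), S.rho_f (S.all hr)] at h
  have : C.xU F r (u - v) = 1 := by
    rw [sub_eq_add_neg, ← C.xU_add, h, C.xU_add, add_neg_cancel, C.xU_zero]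
  exact sub_eq_zero.1 ((C.xU_eq_one_iff F hr _).1 this)

/-- the action of the torus elements -/
theorem hS_conj {i r : ℕ} (hi : i < D.rank) (hr : r < D.nroots) {t : F} (ht : t ≠ 0) (u : F) :
    S.hS i t * S.f r u * (S.hS i t)⁻¹ = S.f r (t ^ D.cartan i r * u) := by
  have hw := (C.w_lt i hi r hr)
  obtain ⟨v1, e1⟩ := S.N_act hi hr (neg_ne_zero.2 one_ne_zero) u
  obtain ⟨v, e2⟩ := S.N_act hi hw.1 ht v1
  rw [hw.2, ← e1] at e2
  have e3 : S.hS i t * S.f r u * (S.hS i t)⁻¹ = S.f r v := by rw [← e2, hS]; group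
  rw [e3]
  congr 1
  refine S.f_eq_of_rho hr ?_
  rw [← e3, map_mul, map_mul, map_inv, S.rho_hS hi, S.rho_f (S.all hr), S.rho_f (S.all hr)]
  have := C.hU_conj_xU F (C.simple_lt i hi).1 hr (Units.mk0 t ht) u
  rwa [C.pairing_simple hi, Units.val_zpow_eq_zpow_val, Units.val_mk0] at this

theorem hS_conj_N {i r : ℕ} (hi : i < D.rank) (hr : r < D.nroots) {t : F} (ht : t ≠ 0) (u : F) :
    S.hS i t * S.N r u * (S.hS i t)⁻¹ = S.N r (t ^ D.cartan i r * u) := by
  have a := S.hS_conj hi hr ht u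
  have b := S.hS_conj hi (C.neg_lt hr) ht (-u⁻¹)
  rw [cartan_neg C hi hr, zpow_neg, show (t ^ D.cartan i r)⁻¹ * -u⁻¹ = -(t ^ D.cartan i r * u)⁻¹ by
    rw [mul_inv_rev]; ring] at b
  calc S.hS i t * S.N r u * (S.hS i t)⁻¹
      = (S.hS i t * S.f r u * (S.hS i t)⁻¹) * (S.hS i t * S.f (D.neg r) (-u⁻¹) * (S.hS i t)⁻¹) *
          (S.hS i t * S.f r u * (S.hS i t)⁻¹) := by rw [Sys.N]; group
    _ = _ := by rw [a, b]; rfl

theorem hS_conj_hS {i j : ℕ} (hi : i < D.rank) (hj : j < D.rank) {t : F} (ht : t ≠ 0) (u : F) :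
    S.hS i t * S.hS j u * (S.hS i t)⁻¹ =
      S.hS j (t ^ D.cartan i (D.simple j) * u) * (S.hS j (t ^ D.cartan i (D.simple j)))⁻¹ := by
  have hp := (C.simple_lt j hj).1
  rw [show S.hS j u = S.N (D.simple j) u * S.N (D.simple j) (-1) from rfl,
    show S.hS i t * (S.N (D.simple j) u * S.N (D.simple j) (-1)) * (S.hS i t)⁻¹ =
      (S.hS i t * S.N (D.simple j) u * (S.hS i t)⁻¹) *
        (S.hS i t * S.N (D.simple j) (-1) * (S.hS i t)⁻¹) by group,
    S.hS_conj_N hi hp ht, S.hS_conj_N hi hp ht, S.N_eq_hS hj (_ * u), mul_neg, mul_one,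
    ← S.N_inv hp, S.N_eq_hS hj (t ^ D.cartan i (D.simple j))]
  group

theorem nn_conj_hS {i j : ℕ} (hi : i < D.rank) (hj : j < D.rank) {t : F} (ht : t ≠ 0) :
    S.nn i * S.hS j t * (S.nn i)⁻¹ = (S.hS i (t ^ D.cartan j (D.simple i)))⁻¹ * S.hS j t := by
  have hp := (C.simple_lt i hi).1
  have e := S.hS_conj_N hj hp ht (1 : F)
  rw [mul_one, S.N_eq_hS hi (t ^ D.cartan j (D.simple i))] at e
  have e' : S.hS j t * S.nn i * (S.hS j t)⁻¹ = S.hS i (t ^ D.cartan j (D.simple i)) * S.nn i := e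
  calc S.nn i * S.hS j t * (S.nn i)⁻¹
      = S.nn i * (S.hS j t * S.nn i * (S.hS j t)⁻¹)⁻¹ * S.hS j t := by group
    _ = _ := by rw [e']; group

theorem H_conj {g : G} (hg : g ∈ S.H) {r : ℕ} (hr : r < D.nroots) :
    ∀ u, ∃ v, g * S.f r u * g⁻¹ = S.f r v := by
  refine Subgroup.closure_induction_left (p := fun g _ => ∀ u, ∃ v, g * S.f r u * g⁻¹ = S.f r v)
    (fun u => ⟨u, by group⟩) ?_ ?_ hg
  · rintro x ⟨i, t, hi, ht, rfl⟩ y - ih u
    obtain ⟨v, e⟩ := ih u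
    exact ⟨t ^ D.cartan i r * v, by rw [← S.hS_conj hi hr ht v, ← e]; group⟩
  · rintro x ⟨i, t, hi, ht, rfl⟩ y - ih u
    obtain ⟨v, e⟩ := ih u
    refine ⟨(t ^ D.cartan i r)⁻¹ * v, ?_⟩
    have := S.hS_conj hi hr ht ((t ^ D.cartan i r)⁻¹ * v)
    rw [← mul_assoc, mul_inv_cancel₀ (zpow_ne_zero _ ht), one_mul, ← e] at this
    rw [show (S.hS i t)⁻¹ * y * S.f r u * ((S.hS i t)⁻¹ * y)⁻¹ =
      (S.hS i t)⁻¹ * (y * S.f r u * y⁻¹) * S.hS i t by group, ← this]
    group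

theorem nn_conj_H {i : ℕ} (hi : i < D.rank) {g : G} (hg : g ∈ S.H) :
    S.nn i * g * (S.nn i)⁻¹ ∈ S.H := by
  have : S.H ≤ S.H.comap (MulAut.conj (S.nn i)).toMonoidHom := by
    refine (Subgroup.closure_le _).2 ?_
    rintro x ⟨j, t, hj, ht, rfl⟩
    show S.nn i * S.hS j t * (S.nn i)⁻¹ ∈ S.H
    rw [S.nn_conj_hS hi hj ht]
    exact mul_mem (inv_mem (S.hS_mem hi (zpow_ne_zero _ ht))) (S.hS_mem hj ht)
  exact this hg

theorem nn_sq {i : ℕ} (hi : i < D.rank) : S.nn i * S.nn i = (S.hS i (-1))⁻¹ := by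
  have hp := (C.simple_lt i hi).1
  rw [hS, mul_inv_rev, S.N_inv hp, _root_.neg_neg]
  rfl

theorem rho_H {g : G} (hg : g ∈ S.H) : S.rho g ∈ D.diagonalSubgroup F := by
  have : S.H ≤ (D.diagonalSubgroup F).comap S.rho := by
    refine (Subgroup.closure_le _).2 ?_
    rintro x ⟨i, t, hi, ht, rfl⟩
    show S.rho (S.hS i t) ∈ D.diagonalSubgroup F
    rw [S.rho_hS hi]
    exact C.hU_mem F (C.simple_lt i hi).1 ht
  exact this hg

end Full

end Cfsg.Agent.H38.St
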