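/-
The root-subgroup system, hence the Bruhat normal form, of a group with root elements satisfying
additivity and the commutator formula; the kernel of its map to the matrix group.
-/
import Cfsg.Agent.H38.St.Core
import Cfsg.Agent.H37.Chev.Result

set_option autoImplicit false

namespace Cfsg.Agent.H38.St

open Cfsg.Lie Cfsg.Lie.ChevalleyDatum Cfsg.Agent.Chevalley Cfsg.Agent.H38.CT
open Cfsg.Agent.H37.RootSys (XS posSet negSet mem_posSet mem_negSet x_mem_XS XS_le)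

variable {D : ChevalleyDatum}

/-- the finite facts giving the relations of the monomial elements -/
def RelOK (C : Cert D) {n : ℕ} (M : CoxeterMatrix (Fin n)) : Prop :=
  ∀ i j : Fin n,
    (M i j = 1 ∧ i = j) ∨ (M i j = 2 ∧ C.w i (D.simple j) = D.simple j) ∨
    (M i j = 3 ∧ C.w j (C.w i (D.simple j)) = D.simple i) ∨
    (M i j = 4 ∧ C.w i (C.w j (C.w i (D.simple j))) = D.simple j) ∨
    (M i j = 6 ∧ C.w i (C.w j (C.w i (C.w j (C.w i (D.simple j))))) = D.simple j)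

/-- kernel check of `RelOK` -/
def relOKB (D : ChevalleyDatum) (w : ℕ → ℕ → ℕ) {n : ℕ} (M : CoxeterMatrix (Fin n)) : Bool :=
  (List.finRange n).all fun i => (List.finRange n).all fun j =>
    let p := D.simple j
    ((M i j == 1) && (i == j)) || ((M i j == 2) && (w i p == p)) ||
    ((M i j == 3) && (w j (w i p) == D.simple i)) || ((M i j == 4) && (w i (w j (w i p)) == p)) ||
    ((M i j == 6) && (w i (w j (w i (w j (w i p)))) == p))

theorem relOK_of_check (C : Cert D) {n : ℕ} (M : CoxeterMatrix (Fin n)) {w : ℕ → ℕ → ℕ}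
    (hw : C.w = w) (h : relOKB D w M = true) : RelOK C M := by
  subst hw
  simp only [relOKB, List.all_eq_true, List.mem_finRange, forall_const, Bool.or_eq_true,
    Bool.and_eq_true, beq_iff_eq] at h
  intro i j
  rcases h i j with (((h | h) | h) | h) | h
  · exact Or.inl h
  · exact Or.inr (Or.inl h)
  · exact Or.inr (Or.inr (Or.inl h))
  · exact Or.inr (Or.inr (Or.inr (Or.inl h)))
  · exact Or.inr (Or.inr (Or.inr (Or.inr h)))

section Algebra

theorem rel_two {Q : Type*} [Group Q] {a b : Q} (hb : b * b = 1) (h : a * b * a⁻¹ = b)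
    (ha : a * a = 1) : (a * b) ^ 2 = 1 := by
  rw [inv_eq_of_mul_eq_one_right ha] at h
  calc (a * b) ^ 2 = a * b * a * b := by simp [pow_succ, mul_assoc]
    _ = 1 := by rw [h, hb]

theorem rel_three {Q : Type*} [Group Q] {a b : Q} (ha : a * a = 1) (hb : b * b = 1)
    (h : b * a * b * a⁻¹ * b⁻¹ = a) : (a * b) ^ 3 = 1 := by
  rw [inv_eq_of_mul_eq_one_right ha, inv_eq_of_mul_eq_one_right hb] at h
  calc (a * b) ^ 3 = a * (b * a * b * a * b) := by simp [pow_succ, mul_assoc]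
    _ = 1 := by rw [h, ha]

theorem rel_four {Q : Type*} [Group Q] {a b : Q} (ha : a * a = 1) (hb : b * b = 1)
    (h : a * b * a * b * a⁻¹ * b⁻¹ * a⁻¹ = b) : (a * b) ^ 4 = 1 := by
  rw [inv_eq_of_mul_eq_one_right ha, inv_eq_of_mul_eq_one_right hb] at h
  calc (a * b) ^ 4 = a * b * a * b * a * b * a * b := by simp [pow_succ, mul_assoc]
    _ = 1 := by rw [h, hb]

theorem rel_six {Q : Type*} [Group Q] {a b : Q} (ha : a * a = 1) (hb : b * b = 1)
    (h : a * b * a * b * a * b * a⁻¹ * b⁻¹ * a⁻¹ * b⁻¹ * a⁻¹ = b) : (a * b) ^ 6 = 1 := by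
  rw [inv_eq_of_mul_eq_one_right ha, inv_eq_of_mul_eq_one_right hb] at h
  calc (a * b) ^ 6 = a * b * a * b * a * b * a * b * a * b * a * b := by
        simp [pow_succ, mul_assoc]
    _ = 1 := by rw [h, hb]

end Algebra

variable {F : Type*} [Field F] (Q : H37.Chev.Data D F) {G : Type*} [Group G]

namespace Full

variable {Q} (S : Full Q.K (F := F) G)

theorem mem_normalizer {i : ℕ} (hi : i < D.rank) :
    S.nn i ∈ Subgroup.normalizer (S.H : Set G) := by
  rw [Subgroup.mem_normalizer_iff]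
  intro h
  refine ⟨fun hh => S.nn_conj_H hi hh, fun hh => ?_⟩
  have hsq : S.nn i * S.nn i ∈ S.H := by
    rw [S.nn_sq hi]
    exact inv_mem (S.hS_mem hi (neg_ne_zero.2 one_ne_zero))
  have := mul_mem (mul_mem (inv_mem hsq) (S.nn_conj_H hi hh)) hsq
  simpa [mul_assoc] using this

theorem rel (hrel : RelOK Q.K Q.X.M) (i j : Fin Q.X.n) :
    (S.nn i * S.nn j) ^ Q.X.M i j ∈ S.H := by
  have hi : (i : ℕ) < D.rank := Q.rank_eq.symm ▸ i.isLt
  have hj : (j : ℕ) < D.rank := Q.rank_eq.symm ▸ j.isLt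
  let NH := Subgroup.normalizer (S.H : Set G)
  haveI : (S.H.subgroupOf NH).Normal := Subgroup.normal_in_normalizer
  let π : NH →* NH ⧸ S.H.subgroupOf NH := QuotientGroup.mk' _
  have hπ : ∀ g : NH, π g = 1 ↔ (g : G) ∈ S.H := fun g => by
    rw [QuotientGroup.mk'_apply, QuotientGroup.eq_one_iff, Subgroup.mem_subgroupOf]
  set a : NH := ⟨S.nn i, S.mem_normalizer hi⟩
  set b : NH := ⟨S.nn j, S.mem_normalizer hj⟩
  have ha : π a * π a = 1 := by
    rw [← map_mul, hπ]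
    show S.nn i * S.nn i ∈ S.H
    rw [S.nn_sq hi]
    exact inv_mem (S.hS_mem hi (neg_ne_zero.2 one_ne_zero))
  have hb : π b * π b = 1 := by
    rw [← map_mul, hπ]
    show S.nn j * S.nn j ∈ S.H
    rw [S.nn_sq hj]
    exact inv_mem (S.hS_mem hj (neg_ne_zero.2 one_ne_zero))
  -- a conjugate of a monomial element at a simple root is that element modulo the torus
  have hN : ∀ {k : ℕ}, k < D.rank → ∀ e : F, e ≠ 0 → S.N (D.simple k) e * (S.nn k)⁻¹ ∈ S.H :=
    fun hk e he => by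
      rw [S.N_eq_hS hk, mul_inv_cancel_right]
      exact S.hS_mem hk he
  have hc : ∀ {k r : ℕ} {e : F}, k < D.rank → r < D.nroots → e ≠ 0 →
      ∃ e' : F, e' ≠ 0 ∧ S.nn k * S.N r e * (S.nn k)⁻¹ = S.N (Q.K.w k r) e' := fun {k r e} hk hr he =>
    ⟨(Q.K.sg k r : F) * e, mul_ne_zero (by
      rcases Q.K.sg_pm k r with h | h <;> simp [h]) he, S.nn_conj_N hk hr e⟩
  have hpj := (Q.K.simple_lt j hj).1
  have goal : (π a * π b) ^ Q.X.M i j = 1 → (S.nn i * S.nn j) ^ Q.X.M i j ∈ S.H := by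
    intro h
    rw [← map_mul, ← map_pow, hπ] at h
    simpa [a, b] using h
  have fin : ∀ (g : NH) {k : ℕ} (hk : k < D.rank) (e : F), e ≠ 0 →
      (g : G) = S.N (D.simple k) e → π g = π ⟨S.nn k, S.mem_normalizer hk⟩ := by
    intro g k hk e he hg
    rw [← mul_inv_eq_one, ← map_inv, ← map_mul, hπ]
    show (g : G) * (S.nn k)⁻¹ ∈ S.H
    rw [hg]
    exact hN hk e he
  apply goal
  obtain ⟨e1, n1, c1⟩ := hc (k := i) hi hpj (one_ne_zero (α := F))
  have l1 := (Q.K.w_lt i hi _ hpj).1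
  obtain ⟨e2, n2, c2⟩ := hc (k := j) hj l1 n1
  have l2 := (Q.K.w_lt j hj _ l1).1
  obtain ⟨e3, n3, c3⟩ := hc (k := i) hi l2 n2
  have l3 := (Q.K.w_lt i hi _ l2).1
  obtain ⟨e4, n4, c4⟩ := hc (k := j) hj l3 n3
  have l4 := (Q.K.w_lt j hj _ l3).1
  obtain ⟨e5, n5, c5⟩ := hc (k := i) hi l4 n4
  have d1 : S.nn i * S.nn j * (S.nn i)⁻¹ = S.N (Q.K.w i (D.simple j)) e1 := c1
  rcases hrel i j with ⟨hM, hij⟩ | ⟨hM, hw⟩ | ⟨hM, hw⟩ | ⟨hM, hw⟩ | ⟨hM, hw⟩
  · rw [hM, pow_one]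
    subst hij
    exact ha
  · rw [hM]
    refine rel_two hb ?_ ha
    rw [← map_inv, ← map_mul, ← map_mul]
    exact fin _ hj e1 n1 (hw ▸ d1)
  · rw [hM]
    refine rel_three ha hb ?_
    simp only [← map_inv, ← map_mul]
    refine fin _ hi e2 n2 ?_
    rw [← hw, ← c2, ← d1]
    simp only [Subgroup.coe_mul, Subgroup.coe_inv, a, b]
    group
  · rw [hM]
    refine rel_four ha hb ?_
    simp only [← map_inv, ← map_mul]
    refine fin _ hj e3 n3 ?_
    rw [← hw, ← c3, ← c2, ← d1]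
    simp only [Subgroup.coe_mul, Subgroup.coe_inv, a, b]
    group
  · rw [hM]
    refine rel_six ha hb ?_
    simp only [← map_inv, ← map_mul]
    refine fin _ hj e5 n5 ?_
    rw [← hw, ← c5, ← c4, ← c3, ← c2, ← d1]
    simp only [Subgroup.coe_mul, Subgroup.coe_inv, a, b]
    group

/-- the preimage in the Chevalley group of the image of a product of root elements -/
theorem rho_XS {A : Set ℕ} (hA : ∀ r ∈ A, r < D.nroots) {g : G} (hg : g ∈ XS S.f A) :
    ∃ g' ∈ XS (H37.RootSys.xG Q.K F) A, (g' : GL D.Idx F) = S.rho g := by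
  have : XS S.f A ≤ ((XS (H37.RootSys.xG Q.K F) A).map (D.group F).subtype).comap S.rho :=
    XS_le fun r hr t => ⟨H37.RootSys.xG Q.K F r t, x_mem_XS hr t, by
      rw [S.rho_f (S.all (hA r hr))]; rfl⟩
  exact this hg

theorem XS_le_U {A : Set ℕ} {σ : ℤ} (hA : ∀ r ∈ A, r < D.nroots ∧ sgnR D r = σ) :
    XS S.f A ≤ S.toSys.U (fun _ => σ) 1 :=
  XS_le fun r hr t => by
    refine S.toSys.f_mem_U _ (S.all (hA r hr).1) ?_ t
    have h := ht_ne Q.K (hA r hr).1
    rw [(hA r hr).2, CT.ht, lev, Finset.mul_sum] at h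
    simp only [lev]
    simp only [one_mul] at h
    omega

theorem inj_pos {g : G} (hg : g ∈ XS S.f (↑(posSet D) : Set ℕ)) (h : S.rho g = 1) : g = 1 := by
  refine S.toSys.inj (lam := fun _ => 1) (S.XS_le_U (σ := 1) (fun r hr => ?_) hg) h
  obtain ⟨h1, h2⟩ := mem_posSet.1 hr
  exact ⟨h1, if_pos h2⟩

theorem inj_neg {g : G} (hg : g ∈ XS S.f (↑(negSet D) : Set ℕ)) (h : S.rho g = 1) : g = 1 := by
  refine S.toSys.inj (lam := fun _ => -1) (S.XS_le_U (σ := -1) (fun r hr => ?_) hg) h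
  obtain ⟨h1, h2⟩ := mem_negSet.1 hr
  exact ⟨h1, if_neg (fun h => by simp only [CT.Pos] at h; omega)⟩

theorem comm_mem {r s : ℕ} (hr : r < D.nroots) (hs : s < D.nroots) (h1 : r ≠ s)
    (h2 : r ≠ D.neg s) (t u : F) :
    S.f r t * S.f s u * (S.f r t)⁻¹ * (S.f s u)⁻¹ ∈
      XS S.f {k | H37.RootSys.Combo Q.K r s k} := by
  have e : S.f r t * S.f s u * (S.f r t)⁻¹ * (S.f s u)⁻¹ =
      ((D.commWord F s r (-u) (-t)).map fun p => S.f p.1 p.2).prod := by
    rw [← S.comm (S.all hs) (S.all hr) h1 h2 (-u) (-t), ← S.f_inv (S.all hr), ← S.f_inv (S.all hs),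
      inv_inv, inv_inv]
  rw [e]
  refine Subgroup.list_prod_mem _ fun g hg => ?_
  simp only [commWord, List.map_map, List.mem_map] at hg
  obtain ⟨c, hc, rfl⟩ := hg
  obtain ⟨⟨h3, h5, h6⟩, h4⟩ := Q.K.commTerms_cf hc
  refine x_mem_XS (S := {k | H37.RootSys.Combo Q.K r s k})
    ⟨h3, c.2.2.2, c.2.2.1, h6, h5, fun i hi => ?_⟩ _
  rw [h4 i hi]
  ring

/-- the root-subgroup system -/
def rsys (hrel : RelOK Q.K Q.X.M)
    (hgen : ∀ P : Subgroup G, (∀ r, r < D.nroots → ∀ t, S.f r t ∈ P) → P = ⊤) :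
    H37.RootSys.Sys Q.X.good G F where
  P := posSet D
  x := S.f
  T := H37.RootSys.Combo Q.K
  x_add r hr a b := (S.add (S.all (mem_posSet.1 hr).1) a b).symm
  T_pos := fun hr hs h => Q.sys.T_pos hr hs h
  comm := by
    intro r s hr hs hne t u
    rw [mem_posSet] at hr hs
    refine S.comm_mem hr.1 hs.1 hne ?_ t u
    rw [Q.K.neg_eq s hs.1]
    have := Q.K.two_half
    omega
  sep := by
    intro k hk t h
    obtain ⟨g', hg', e⟩ := S.rho_XS (fun r hr => (mem_posSet.1 hr.1).1) h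
    rw [S.rho_f (S.all (mem_posSet.1 hk).1)] at e
    obtain rfl : g' = H37.RootSys.xG Q.K F k t := Subtype.ext e
    exact Q.sys.sep hk t hg'
  P_eq := rfl
  T_neg := fun hr hs h => Q.sys.T_neg hr hs h
  T_gen := fun hi hr hs h => Q.sys.T_gen hi hr hs h
  x_add' r hr a b := (S.add (S.all hr) a b).symm
  H := S.H
  h_conj h hh r hr t := S.H_conj hh hr t
  ns := S.nn
  n_conj_H i hi h hh := S.nn_conj_H (Q.rank_eq.symm ▸ hi) hh
  sq i hi := by
    rw [S.nn_sq (Q.rank_eq.symm ▸ hi)]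
    exact inv_mem (S.hS_mem (Q.rank_eq.symm ▸ hi) (neg_ne_zero.2 one_ne_zero))
  rel := S.rel hrel
  n_conj i hi r hr t := by
    rw [H37.RootSys.sigma_eq_w Q.X.good Q.K hi hr]
    exact ⟨_, S.nn_conj (Q.rank_eq.symm ▸ hi) hr t⟩
  sl2 i hi t ht := by
    have hi' : i < D.rank := Q.rank_eq.symm ▸ hi
    have hp := (Q.K.simple_lt i hi').1
    have hne : -t⁻¹ ≠ (0 : F) := neg_ne_zero.2 (inv_ne_zero ht)
    refine ⟨t⁻¹, t⁻¹, S.hS i (-t⁻¹), S.hS_mem hi' hne, ?_⟩
    rw [H37.RootSys.neg_simple_eq Q.X.good Q.K hi, mul_assoc (S.f _ _) (S.hS _ _) _,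
      ← S.N_eq_hS hi', Sys.N, inv_neg, inv_inv, _root_.neg_neg]
    simp only [← mul_assoc, S.add (S.all hp), add_neg_cancel, S.toSys.f_zero (S.all hp), one_mul]
    rw [mul_assoc, S.add (S.all hp), neg_add_cancel, S.toSys.f_zero (S.all hp), mul_one]
  UH u hu hh := by
    refine S.inj_pos hu ?_
    obtain ⟨u', hu', e⟩ := S.rho_XS (fun r hr => (mem_posSet.1 hr).1) hu
    have h1 : u' ∈ Q.sys.H := by
      show (u' : GL D.Idx F) ∈ D.diagonalSubgroup F
      rw [e]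
      exact S.rho_H hh
    rw [← e, Q.sys.UH u' hu' h1, OneMemClass.coe_one]
  UHV u hu h hh v hv e := by
    refine S.inj_neg hv ?_
    obtain ⟨u', hu', eu⟩ := S.rho_XS (fun r hr => (mem_posSet.1 hr).1) hu
    obtain ⟨v', hv', ev⟩ := S.rho_XS (fun r hr => (mem_negSet.1 hr).1) hv
    have hh' : S.rho h ∈ D.diagonalSubgroup F := S.rho_H hh
    have e' : u' * (u'⁻¹ * v') = v' := mul_inv_cancel_left _ _
    have h1 : u'⁻¹ * v' ∈ Q.sys.H := by
      show ((u'⁻¹ * v' : ↥(D.group F)) : GL D.Idx F) ∈ D.diagonalSubgroup F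
      rw [Subgroup.coe_mul, Subgroup.coe_inv, eu, ev, ← e, map_mul, inv_mul_cancel_left]
      exact hh'
    rw [← ev, Q.sys.UHV u' hu' _ h1 v' hv' e', OneMemClass.coe_one]
  top P hX _ hN := hgen P (by
    have hrank : ∀ {i}, i < D.rank → S.nn i ∈ P := fun {i} hi => hN i (Q.rank_eq ▸ hi)
    intro r hr t
    have key : ∀ r < D.nroots, ∀ t, S.f r t ∈ P := by
      refine Q.K.root_induction (P := fun r => ∀ t, S.f r t ∈ P)
        (fun i hi t => hX _ (Q.K.simple_lt i hi).1 (Q.K.simple_lt i hi).2 t) ?_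
      intro i hi r hr ih t
      have := mul_mem (mul_mem (hrank hi) (ih ((Q.K.sg i r : F) * t))) (inv_mem (hrank hi))
      rwa [S.nn_conj hi hr, ← mul_assoc, ← Int.cast_mul, Q.K.sg_sq, Int.cast_one, one_mul] at this
    exact key r hr t)

variable (hrel : RelOK Q.K Q.X.M)
  (hgen : ∀ P : Subgroup G, (∀ r, r < D.nroots → ∀ t, S.f r t ∈ P) → P = ⊤)
include hrel hgen

theorem rho_mem_group (g : G) : S.rho g ∈ D.group F := by
  have := hgen ((D.group F).comap S.rho) fun r hr t => by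
    rw [Subgroup.mem_comap, S.rho_f (S.all hr)]
    exact Q.K.xU_mem_group F r t
  have hg : g ∈ (D.group F).comap S.rho := this ▸ Subgroup.mem_top g
  exact hg

theorem rho_rep (w : Q.X.M.Group) : ∃ d ∈ D.diagonalSubgroup F,
    S.rho ((S.rsys hrel hgen).rep w) = d * ((Q.sys.rep w : ↥(D.group F)) : GL D.Idx F) := by
  refine H37.RootSys.Sys.gen_induction (p := fun w => ∃ d ∈ D.diagonalSubgroup F,
    S.rho ((S.rsys hrel hgen).rep w) = d * ((Q.sys.rep w : ↥(D.group F)) : GL D.Idx F)) ?_ ?_ w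
  · refine ⟨1, one_mem _, ?_⟩
    rw [H37.RootSys.Sys.rep_one, H37.RootSys.Sys.rep_one, map_one, OneMemClass.coe_one, one_mul]
  · rintro i w ⟨d, hd, e⟩
    have hi : (i : ℕ) < D.rank := Q.rank_eq.symm ▸ i.isLt
    obtain ⟨h, hh, e1⟩ := (S.rsys hrel hgen).ns_rep (i := i) w
    obtain ⟨k, hk, e2⟩ := Q.sys.ns_rep (i := i) w
    have e1' := congrArg S.rho e1
    rw [map_mul, map_mul, show (S.rsys hrel hgen).ns i = S.nn i from rfl, S.rho_nn hi, e] at e1'
    have e2' := congrArg (Subtype.val (p := fun g => g ∈ D.group F)) e2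
    rw [Subgroup.coe_mul, Subgroup.coe_mul] at e2'
    have e2'' : Q.K.nS F i * ((Q.sys.rep w : ↥(D.group F)) : GL D.Idx F) =
        (k : GL D.Idx F) * ((Q.sys.rep (Q.X.M.simple i * w) : ↥(D.group F)) : GL D.Idx F) := e2'
    refine ⟨(S.rho h)⁻¹ * (Q.K.nS F i * d * (Q.K.nS F i)⁻¹) * (k : GL D.Idx F), ?_, ?_⟩
    · exact mul_mem (mul_mem (inv_mem (S.rho_H hh)) (H37.RootSys.nS_conj_diag Q.K hi hd)) hk
    · have e3 := eq_inv_mul_of_mul_eq e1'.symm
      rw [e3, mul_assoc, ← e2'']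
      group

/-- the kernel lies in the torus -/
theorem ker_le {g : G} (h : S.rho g = 1) : g ∈ S.H := by
  set R := S.rsys hrel hgen
  obtain ⟨u, hu, k, hk, w, v, hv, e⟩ := R.normalForm.exists_eq g
  obtain ⟨u', hu', eu⟩ := S.rho_XS (fun r hr => (mem_posSet.1 hr).1) hu
  obtain ⟨v', hv', ev⟩ := S.rho_XS (fun r hr =>
    (H37.RootSys.Sys.mem_flip.1 hr).1) hv
  obtain ⟨d, hd, ew⟩ := S.rho_rep hrel hgen w
  have hk' : S.rho k * d ∈ D.diagonalSubgroup F := mul_mem (S.rho_H hk) hd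
  have hkg : S.rho k * d ∈ D.group F := H37.diagonal_le_group Q.ord hk'
  have e' : u' * ⟨S.rho k * d, hkg⟩ * Q.sys.rep w * v' = 1 * 1 * Q.sys.rep 1 * 1 := by
    refine Subtype.ext ?_
    simp only [Subgroup.coe_mul, Q.sys.rep_one, OneMemClass.coe_one, mul_one, one_mul, eu, ev]
    rw [← h, e]
    simp only [map_mul, show R.normalForm.n w = R.rep w from rfl]
    rw [show S.rho (R.rep w) = d * ((Q.sys.rep w : ↥(D.group F)) : GL D.Idx F) from ew]
    group
  obtain ⟨hw, hu1, -, hv1⟩ := Q.sys.normalForm.unique (u := u') (u' := 1)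
    (h := ⟨S.rho k * d, hkg⟩) (h' := 1) (v := v') (v' := 1) (w := w) (w' := 1)
    hu' (one_mem _) hk' (one_mem _) hv' (one_mem _) e'
  subst hw
  have hu0 : u = 1 := S.inj_pos hu (by rw [← eu, hu1, OneMemClass.coe_one])
  have hv0 : v = 1 := by
    have hbot : R.normalForm.Uw 1 = ⊥ := R.Uw_one
    rw [hbot, Subgroup.mem_bot] at hv
    exact hv
  rw [e, hu0, hv0, one_mul, mul_one, show R.normalForm.n 1 = 1 from R.rep_one, mul_one]
  exact hk

/-- the kernel is central -/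
theorem ker_central {g : G} (h : S.rho g = 1) : g ∈ Subgroup.center G := by
  have hg := S.ker_le hrel hgen h
  have := hgen (Subgroup.centralizer {g}) fun r hr t => by
    obtain ⟨v, e⟩ := S.H_conj hg hr t
    obtain rfl : v = t := by
      refine S.f_eq_of_rho hr ?_
      rw [← e, map_mul, map_mul, map_inv, h, one_mul, inv_one, mul_one]
    rw [Subgroup.mem_centralizer_iff]
    rintro x rfl
    exact mul_inv_eq_iff_eq_mul.1 e
  rw [Subgroup.mem_center_iff]
  intro x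
  have hx : x ∈ Subgroup.centralizer {g} := this ▸ Subgroup.mem_top x
  exact (Subgroup.mem_centralizer_iff.1 hx g rfl).symm

end Full

/-- the centre of the Chevalley group is trivial -/
theorem center_group (Q : H37.Chev.Data D F) : Subgroup.center ↥(D.group F) = ⊥ := by
  rw [eq_bot_iff, ← Q.core_eq_bot]
  intro z hz
  have hzB : z ∈ Q.amb.B := by
    obtain ⟨u, hu, k, hk, w, v, hv, e⟩ := Q.sys.normalForm.exists_eq z
    have hzc : ∀ x : ↥(D.group F), x * z = z * x := Subgroup.mem_center_iff.1 hz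
    -- move `u` to the right
    have e' : z = k * Q.sys.rep w * (v * u) := by
      calc z = u⁻¹ * (u * z) := by group
        _ = u⁻¹ * (z * u) := by rw [hzc]
        _ = _ := by rw [e]; show _ = _; simp [mul_assoc]; rfl
    by_cases hw : w = 1
    · rw [hw, Q.sys.rep_one, mul_one] at e'
      rw [e', show Q.amb.B = Q.amb.U ⊔ Q.amb.H from Q.amb.B_eq_sup]
      exact mul_mem (Subgroup.mem_sup_right hk)
        (Subgroup.mem_sup_left (mul_mem (Q.sys.Uw_le w hv) hu))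
    exfalso
    obtain ⟨i, hi, hneg⟩ := Q.X.good.exists_descent (inv_ne_one.2 hw)
    obtain ⟨hp, hlt, -⟩ := Q.X.good.simple_spec hi
    set x := Q.sys.x (D.simple i) 1
    have hvu : v * u ∈ Q.sys.U := mul_mem (Q.sys.Uw_le w hv) hu
    obtain ⟨t₁, e₁⟩ := Q.sys.h_conj k⁻¹ (inv_mem hk) _ hlt 1
    obtain ⟨t₂, e₂⟩ := Q.sys.rep_conj w⁻¹ _ hlt t₁
    obtain ⟨c, hc, ec⟩ := Q.sys.rep_inv w
    obtain ⟨t₃, e₃⟩ := Q.sys.h_conj c hc _ (Fin.isLt (Q.X.good.hom w⁻¹ ⟨_, hlt⟩)) t₂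
    set y := Q.sys.x (Q.X.good.hom w⁻¹ ⟨D.simple i, hlt⟩).val t₃
    have hxe : z⁻¹ * x * z = x := by rw [mul_assoc, hzc, inv_mul_cancel_left]
    have hy : y = (v * u) * x * (v * u)⁻¹ := by
      calc y = c * (Q.sys.rep w⁻¹ * (k⁻¹ * x * (k⁻¹)⁻¹) * (Q.sys.rep w⁻¹)⁻¹) * c⁻¹ := by
            rw [e₁, e₂, e₃]
        _ = (Q.sys.rep w)⁻¹ * (k⁻¹ * x * k) * Q.sys.rep w := by
            rw [show (Q.sys.rep w⁻¹) = c⁻¹ * (Q.sys.rep w)⁻¹ by rw [ec, inv_mul_cancel_left]]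
            group
        _ = (v * u) * (z⁻¹ * x * z) * (v * u)⁻¹ := by rw [e']; group
        _ = _ := by rw [hxe]
    have hyU : y ∈ Q.sys.U := by
      rw [hy]
      exact mul_mem (mul_mem hvu (Q.sys.x_mem_U hlt hp 1)) (inv_mem hvu)
    have hy1 : y = 1 := Q.sys.x_neg_eq_one (Fin.isLt _) hneg hyU
    rw [hy, conj_eq_one_iff] at hy1
    exact Q.sys.x_one_ne hlt hp hy1
  intro x
  rw [show x * z * x⁻¹ = z by rw [Subgroup.mem_center_iff.1 hz x, mul_inv_cancel_right]]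
  exact hzB

end Cfsg.Agent.H38.St
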