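/-
Steinberg's group and its cover by (R1), (R2) as full systems.
-/
import Cfsg.Agent.H38.St.Bruhat
import Cfsg.Agent.H38.CT.Iso
import Cfsg.Agent.H38.CT.Check
import Cfsg.Agent.H37.Chev.All
import Cfsg.Prelude.Def_SteinbergCover

set_option autoImplicit false
set_option maxRecDepth 100000

namespace Cfsg.Agent.H38.St

open Cfsg.Lie Cfsg.Lie.ChevalleyDatum Cfsg.Agent.Chevalley Cfsg.Agent.H38.CT

/-- kernel check of `Adj` -/
theorem adj_of_check {D : ChevalleyDatum} (h : CT.chkAdj D = true) : Adj D := by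
  simp only [CT.chkAdj, List.all_eq_true, List.mem_range, List.any_eq_true, Bool.and_eq_true,
    Bool.not_eq_true', beq_eq_false_iff_ne] at h
  intro a ha
  obtain ⟨b, hb, ⟨e1, e2⟩, e3⟩ := h a ha
  exact ⟨b, hb, e1, e2, e3⟩

/-- the data of a group together with the finite facts needed for Steinberg's presentation -/
theorem exists_stData {D : ChevalleyDatum}
    (hD : D ∈ [chevG2, chevB2, chevD4, chevF4, chevE6, chevE7, chevE8]) (F : Type*) [Field F] :
    ∃ Q : H37.Chev.Data D F, RelOK Q.K Q.X.M ∧ Adj D := by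
  simp only [List.mem_cons, List.not_mem_nil, or_false] at hD
  rcases hD with rfl | rfl | rfl | rfl | rfl | rfl | rfl
  · exact ⟨H37.Chev.dataG2 F, relOK_of_check G2.cert H37.Chev.typeG2.M (w := G2.tab.w) rfl
      (by decide +kernel), adj_of_check (by decide +kernel)⟩
  · exact ⟨H37.Chev.dataB2 F, relOK_of_check B2.cert H37.Chev.typeB2.M (w := B2.tab.w) rfl
      (by decide +kernel), adj_of_check (by decide +kernel)⟩
  · exact ⟨H37.Chev.dataD4 F, relOK_of_check D4.cert H37.Chev.typeD4.M (w := D4.tab.w) rfl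
      (by decide +kernel), adj_of_check (by decide +kernel)⟩
  · exact ⟨H37.Chev.dataF4 F, relOK_of_check F4.cert H37.Chev.typeF4.M (w := F4.tab.w) rfl
      (by decide +kernel), adj_of_check (by decide +kernel)⟩
  · exact ⟨H37.Chev.dataE6 F, relOK_of_check E6.cert H37.Chev.typeE6.M (w := E6.tab.w) rfl
      (by decide +kernel), adj_of_check (by decide +kernel)⟩
  · exact ⟨H37.Chev.dataE7 F, relOK_of_check E7.cert H37.Chev.typeE7.M (w := E7.tab.w) rfl
      (by decide +kernel), adj_of_check (by decide +kernel)⟩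
  · exact ⟨H37.Chev.dataE8 F, relOK_of_check E8.cert H37.Chev.typeE8.M (w := E8.tab.w) rfl
      (by decide +kernel), adj_of_check (by decide +kernel)⟩

variable {D : ChevalleyDatum} (C : Cert D) {F : Type*} [Field F]

/-- Steinberg's group -/
def stFull (hA : Adj D) : Full C (F := F) (D.SteinbergGroup F) where
  toSys := CT.stSys C F
  all h := h
  adj := hA

theorem st_gen (P : Subgroup (D.SteinbergGroup F))
    (h : ∀ r, r < D.nroots → ∀ t, D.stGen F r t ∈ P) : P = ⊤ := by
  rw [eq_top_iff]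
  intro x _
  refine PresentedGroup.generated_by _ _ ?_ x
  rintro ⟨⟨r, hr⟩, t⟩
  have : (PresentedGroup.of (⟨r, hr⟩, t) : D.SteinbergGroup F) = D.stGen F r t := by
    simp [stGen, stX, hr]; rfl
  rw [this]
  exact h r hr t

theorem sc_add {r : ℕ} (hr : r < D.nroots) (t u : F) :
    D.scGen F r t * D.scGen F r u = D.scGen F r (t + u) := by
  have := PresentedGroup.one_of_mem (rels := D.steinbergRelsAB F) (Or.inl ⟨r, t, u, hr, rfl⟩)
  rwa [map_mul, map_mul, map_inv, mul_inv_eq_one] at this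

theorem sc_comm {r s : ℕ} (hr : r < D.nroots) (hs : s < D.nroots) (h1 : s ≠ r)
    (h2 : s ≠ D.neg r) (t u : F) :
    (D.scGen F s u)⁻¹ * (D.scGen F r t)⁻¹ * D.scGen F s u * D.scGen F r t =
      ((D.commWord F r s t u).map fun p => D.scGen F p.1 p.2).prod := by
  have := PresentedGroup.one_of_mem (rels := D.steinbergRelsAB F)
    (Or.inr ⟨r, s, t, u, hr, hs, h1, h2, rfl⟩)
  rwa [map_mul, map_inv, map_stWord _ (D.scGen F) (fun _ _ => rfl), map_mul, map_mul, map_mul,
    map_inv, map_inv, mul_inv_eq_one] at this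

include C in
theorem sc_rels : ∀ x ∈ D.steinbergRelsAB F,
    FreeGroup.lift (fun p : Fin D.nroots × F => C.xU F p.1 p.2) x = 1 := fun x hx =>
  lift_rels C (C.xU F) (fun r _ => C.xU_add F r) (fun _ hr _ hs => gl_comm F C hr hs)
    (fun _ hr => gl_hMul F C hr) x (Or.inl hx)

/-- the cover maps to the matrix group -/
def scToGL : D.SteinbergCover F →* GL D.Idx F := PresentedGroup.toGroup (sc_rels C)

/-- the cover by (R1), (R2) -/
def scFull (hA : Adj D) : Full C (F := F) (D.SteinbergCover F) where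
  Sub r := r < D.nroots
  f := D.scGen F
  rho := scToGL C
  sub_lt h := h
  sub_neg h := C.neg_lt h
  sub_comm _ _ c hc := (C.commTerms_cf hc).1.1
  rho_f h t := lift_stX (C.xU F) h t
  add h t u := sc_add h t u
  comm hr hs h1 h2 t u := sc_comm hr hs h1 h2 t u
  all h := h
  adj := hA

theorem sc_gen (P : Subgroup (D.SteinbergCover F))
    (h : ∀ r, r < D.nroots → ∀ t, D.scGen F r t ∈ P) : P = ⊤ := by
  rw [eq_top_iff]
  intro x _
  refine PresentedGroup.generated_by _ _ ?_ x
  rintro ⟨⟨r, hr⟩, t⟩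
  have : (PresentedGroup.of (⟨r, hr⟩, t) : D.SteinbergCover F) = D.scGen F r t := by
    simp [scGen, stX, hr]; rfl
  rw [this]
  exact h r hr t

theorem stH_eq (hA : Adj D) (i : ℕ) (t : F) :
    PresentedGroup.mk (D.steinbergRels F) (D.stH (D.simple i) t) = (stFull C hA).hS i t := by
  rw [stH, map_stWord _ (D.stGen F) (fun _ _ => rfl), hWord_prod]
  rfl

/-- Steinberg's theorem: the map onto the Chevalley group has the centre as kernel -/
theorem steinberg (Q : H37.Chev.Data D F) (hrel : RelOK Q.K Q.X.M) (hA : Adj D) :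
    ∃ θ : D.SteinbergGroup F →* ↥(D.group F), Function.Surjective θ ∧
      θ.ker = Subgroup.center (D.SteinbergGroup F) ∧
      ∀ (r : ℕ) (t : F), r < D.nroots →
        ((θ (D.stGen F r t) : GL D.Idx F) : Matrix D.Idx D.Idx F) = D.x F r t := by
  set S := stFull Q.K hA (F := F)
  let θ : D.SteinbergGroup F →* ↥(D.group F) :=
    S.rho.codRestrict _ (fun g => S.rho_mem_group hrel st_gen g)
  have hθ : ∀ r t, r < D.nroots → θ (D.stGen F r t) = H37.RootSys.xG Q.K F r t := fun r t hr =>
    Subtype.ext (S.rho_f (r := r) hr t)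
  have hsurj : Function.Surjective θ := by
    rw [← MonoidHom.range_eq_top, eq_top_iff]
    rintro ⟨g, hg⟩ -
    have hle : D.group F ≤ θ.range.map (D.group F).subtype := by
      refine (le_of_eq (Q.K.group_eq F)).trans ((Subgroup.closure_le _).2 ?_)
      rintro _ ⟨r, t, hr, rfl⟩
      exact ⟨_, ⟨D.stGen F r t, rfl⟩, by rw [hθ r t hr]; rfl⟩
    obtain ⟨g', hg', e⟩ := hle hg
    rwa [← Subtype.ext (a1 := g') (a2 := ⟨g, hg⟩) e]
  refine ⟨θ, hsurj, le_antisymm (fun g hg => ?_) (fun g hg => ?_), fun r t hr => ?_⟩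
  · exact S.ker_central hrel st_gen (congrArg Subtype.val hg)
  · rw [MonoidHom.mem_ker, ← Subgroup.mem_bot, ← center_group Q, Subgroup.mem_center_iff]
    intro x
    obtain ⟨y, rfl⟩ := hsurj x
    rw [← map_mul, ← map_mul, Subgroup.mem_center_iff.1 hg]
  · rw [hθ r t hr]
    rfl

theorem ker_le_torus (Q : H37.Chev.Data D F) (hrel : RelOK Q.K Q.X.M) (hA : Adj D)
    (θ : D.SteinbergGroup F →* ↥(D.group F))
    (hθ : ∀ (r : ℕ) (t : F), r < D.nroots →
      ((θ (D.stGen F r t) : GL D.Idx F) : Matrix D.Idx D.Idx F) = D.x F r t) :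
    θ.ker ≤ Subgroup.closure {h | ∃ (i : ℕ) (t : F), i < D.rank ∧ t ≠ 0 ∧
      h = PresentedGroup.mk (D.steinbergRels F) (D.stH (D.simple i) t)} := by
  set S := stFull Q.K hA (F := F)
  intro g hg
  have e : (D.group F).subtype.comp θ = S.rho := by
    refine PresentedGroup.ext fun p => ?_
    obtain ⟨⟨r, hr⟩, t⟩ := p
    have : (PresentedGroup.of (⟨r, hr⟩, t) : D.SteinbergGroup F) = D.stGen F r t := by
      simp [stGen, stX, hr]; rfl
    rw [this, MonoidHom.comp_apply, Subgroup.subtype_apply]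
    exact (Units.ext (hθ r t hr)).trans (S.rho_f (r := r) hr t).symm
  have hmem := S.ker_le hrel st_gen (g := g) (by
    rw [← e, MonoidHom.comp_apply, MonoidHom.mem_ker.1 hg]; rfl)
  refine Subgroup.closure_mono ?_ hmem
  rintro x ⟨i, t, hi, ht, rfl⟩
  exact ⟨i, t, hi, ht, (stH_eq Q.K hA i t).symm⟩

end Cfsg.Agent.H38.St
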