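/-
Over a finite field the torus relation follows from additivity and the commutator formula.
-/
import Cfsg.Agent.H38.St.Groups

set_option autoImplicit false

namespace Cfsg.Agent.H38.St

open Cfsg.Lie Cfsg.Lie.ChevalleyDatum Cfsg.Agent.Chevalley Cfsg.Agent.H38.CT

variable {D : ChevalleyDatum} {C : Cert D} {F : Type*} [Field F] {G : Type*} [Group G]

namespace Full

variable (S : Full C (F := F) G)

/-- `h_r(t)` -/
def hR (r : ℕ) (t : F) : G := S.N r t * S.N r (-1)

/-- the torus relation propagates along the fundamental reflections -/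
theorem hR_mul_w {i r : ℕ} (hi : i < D.rank) (hr : r < D.nroots)
    (ih : ∀ t u : F, t ≠ 0 → u ≠ 0 → S.hR r t * S.hR r u = S.hR r (t * u)) (t u : F) (ht : t ≠ 0)
    (hu : u ≠ 0) : S.hR (C.w i r) t * S.hR (C.w i r) u = S.hR (C.w i r) (t * u) := by
  have hw := (C.w_lt i hi r hr).1
  have h1 : S.hR r (1 : F) = 1 := by rw [hR, ← S.N_inv hr, mul_inv_cancel]
  have key : ∀ t : F, t ≠ 0 → S.hR (C.w i r) t = S.nn i * S.hR r t * (S.nn i)⁻¹ := by
    intro t ht
    have P : ∀ s : F, S.nn i * S.hR r s * (S.nn i)⁻¹ =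
        S.N (C.w i r) ((C.sg i r : F) * s) * S.N (C.w i r) ((C.sg i r : F) * -1) := fun s => by
      rw [← S.nn_conj_N hi hr, ← S.nn_conj_N hi hr, hR]; group
    rcases C.sg_pm i r with e | e
    · rw [P, e, Int.cast_one, one_mul, one_mul]; rfl
    · have hm : ∀ s u : F, s ≠ 0 → u ≠ 0 →
          S.nn i * S.hR r (s * u) * (S.nn i)⁻¹ =
            (S.nn i * S.hR r s * (S.nn i)⁻¹) * (S.nn i * S.hR r u * (S.nn i)⁻¹) :=
        fun s u hs hu => by rw [← ih s u hs hu]; group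
      have hne : (-1 : F) ≠ 0 := neg_ne_zero.2 one_ne_zero
      have h3 := hm (-1) (-1) hne hne
      rw [show (-1 : F) * -1 = 1 by ring, h1, mul_one, mul_inv_cancel, P, e,
        Int.cast_neg, Int.cast_one, show (-1 : F) * -1 = 1 by ring] at h3
      have h2 := hm (t * -1) (-1) (mul_ne_zero ht hne) hne
      rw [show t * -1 * -1 = t by ring] at h2
      rw [h2, P, P, e, Int.cast_neg, Int.cast_one]
      rw [show (-1 : F) * (t * -1) = t by ring, show (-1 : F) * -1 = 1 by ring, hR,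
        ← S.N_inv hw (1 : F)]
      calc S.N (C.w i r) t * (S.N (C.w i r) (1 : F))⁻¹
          = S.N (C.w i r) t * (S.N (C.w i r) (1 : F))⁻¹ * 1 := (mul_one _).symm
        _ = _ := by rw [h3]; group
  rw [key t ht, key u hu, key _ (mul_ne_zero ht hu), ← ih t u ht hu]
  group

section Simple

variable {i : ℕ}

theorem N_conj_X (hi : i < D.rank) {t : F} (ht : t ≠ 0) (w : F) :
    S.N (D.simple i) t * S.f (D.simple i) w =
      S.f (D.neg (D.simple i)) (-w / t ^ 2) * S.N (D.simple i) t := by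
  have hp := (C.simple_lt i hi).1
  have a := S.nn_conj hi hp w
  rw [w_simple C hi, C.sg_simple i hi, Int.cast_neg, Int.cast_one, neg_one_mul] at a
  have b := S.hS_conj hi (C.neg_lt hp) ht (-w)
  rw [cartan_neg C hi hp, C.cartan_self i hi] at b
  rw [← mul_inv_eq_iff_eq_mul, S.N_eq_hS hi,
    show S.hS i t * S.nn i * S.f (D.simple i) w * (S.hS i t * S.nn i)⁻¹ =
      S.hS i t * (S.nn i * S.f (D.simple i) w * (S.nn i)⁻¹) * (S.hS i t)⁻¹ by group, a, b]
  congr 1
  rw [zpow_neg, zpow_ofNat]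
  field_simp

theorem N_conj_Y (hi : i < D.rank) {t : F} (ht : t ≠ 0) (w : F) :
    S.N (D.simple i) t * S.f (D.neg (D.simple i)) w =
      S.f (D.simple i) (-(t ^ 2 * w)) * S.N (D.simple i) t := by
  have hp := (C.simple_lt i hi).1
  have a := S.nn_conj hi (C.neg_lt hp) w
  rw [C.w_neg hi hp, w_simple C hi, C.neg_neg hp, C.sg_neg hi hp, C.sg_simple i hi, Int.cast_neg,
    Int.cast_one, neg_one_mul] at a
  have b := S.hS_conj hi hp ht (-w)
  rw [C.cartan_self i hi] at b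
  rw [← mul_inv_eq_iff_eq_mul, S.N_eq_hS hi,
    show S.hS i t * S.nn i * S.f (D.neg (D.simple i)) w * (S.hS i t * S.nn i)⁻¹ =
      S.hS i t * (S.nn i * S.f (D.neg (D.simple i)) w * (S.nn i)⁻¹) * (S.hS i t)⁻¹ by group, a, b]
  congr 1
  rw [zpow_ofNat]
  ring

/-- `h(u v) = h(u) h(v)` for `u + v = 1` -/
theorem hS_steinberg (hi : i < D.rank) {u v : F} (hu : u ≠ 0) (hv : v ≠ 0) (huv : u + v = 1) :
    S.hS i (u * v) = S.hS i u * S.hS i v := by
  have hp := (C.simple_lt i hi).1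
  set p := D.simple i with hpdef
  set m := D.neg p with hmdef
  have hN : ∀ t : F, S.N p t = S.f p t * S.f m (-t⁻¹) * S.f p t := fun _ => rfl
  have aX : ∀ a b : F, S.f p a * S.f p b = S.f p (a + b) := S.add (S.all hp)
  have aY : ∀ a b : F, S.f m a * S.f m b = S.f m (a + b) := S.add (S.all (C.neg_lt hp))
  have zX : S.f p 0 = 1 := S.toSys.f_zero (S.all hp)
  have zY : S.f m 0 = 1 := S.toSys.f_zero (S.all (C.neg_lt hp))
  have huv' : u * v ≠ 0 := mul_ne_zero hu hv
  -- `X(-v) = Y(-1/v) X(v) N(-v)`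
  have m1 : S.f p (-v) = S.f m (-v⁻¹) * S.f p v * S.N p (-v) := by
    calc S.f p (-v) = S.f m (-v⁻¹) * (S.f p v * S.f p (-v)) * S.f m v⁻¹ * S.f p (-v) := by
          rw [aX, add_neg_cancel, zX, mul_one, aY, neg_add_cancel, zY, one_mul]
      _ = _ := by rw [hN, inv_neg, _root_.neg_neg]; group
  have e1 : S.N p (-v) * S.f m 1 = S.f p (-v ^ 2) * S.N p (-v) := by
    rw [S.N_conj_Y hi (neg_ne_zero.2 hv)]; congr 2; ring
  have e2 : S.N p (-v) * S.f p (-u) = S.f m (u / v ^ 2) * S.N p (-v) := by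
    rw [S.N_conj_X hi (neg_ne_zero.2 hv)]; congr 2; ring
  have e3 : S.N p (-v) * S.f m (-v⁻¹) = S.f p v * S.N p (-v) := by
    rw [S.N_conj_Y hi (neg_ne_zero.2 hv)]
    congr 2
    field_simp
  have e4 : S.N p (-v) * S.f p v = S.f m (-v⁻¹) * S.N p (-v) := by
    rw [S.N_conj_X hi (neg_ne_zero.2 hv)]
    congr 2
    field_simp
  have e5 : S.N p v * S.f p (-v) = S.f m v⁻¹ * S.N p v := by
    rw [S.N_conj_X hi hv]
    congr 2
    field_simp
  have e6 : S.N p (u * v) * S.f m (1 / v ^ 2) = S.f p (-u ^ 2) * S.N p (u * v) := by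
    rw [S.N_conj_Y hi huv']
    congr 2
    field_simp
  have e7 : S.N p v * S.N p (-v) = 1 := by rw [← S.N_inv hp, mul_inv_cancel]
  have key : S.N p u * S.N p (-1) * S.N p v = S.N p (u * v) := by
    calc S.N p u * S.N p (-1) * S.N p v
        = S.f p u * S.f m (-u⁻¹) * (S.f p u * S.f p (-1)) * S.f m 1 * (S.f p (-1) * S.f p v) *
            S.f m (-v⁻¹) * S.f p v := by
          rw [hN, hN, hN, inv_neg, inv_one, _root_.neg_neg]; group
      _ = S.f p u * S.f m (-u⁻¹) * S.f p (-v) * S.f m 1 * S.f p (-u) * S.f m (-v⁻¹) * S.f p v := by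
          rw [aX, aX, show u + -1 = -v by linear_combination huv,
            show -1 + v = -u by linear_combination huv]
      _ = S.f p u * (S.f m (-u⁻¹) * S.f m (-v⁻¹)) * S.f p v * (S.N p (-v) * S.f m 1) * S.f p (-u) *
            S.f m (-v⁻¹) * S.f p v := by rw [m1]; group
      _ = S.f p u * S.f m (-(u * v)⁻¹) * (S.f p v * S.f p (-v ^ 2)) * (S.N p (-v) * S.f p (-u)) *
            S.f m (-v⁻¹) * S.f p v := by
          rw [e1, aY, show -u⁻¹ + -v⁻¹ = -(u * v)⁻¹ by
            field_simp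
            linear_combination -huv]
          group
      _ = S.f p u * S.f m (-(u * v)⁻¹) * S.f p (u * v) * S.f m (u / v ^ 2) *
            (S.N p (-v) * S.f m (-v⁻¹)) * S.f p v := by
          rw [e2, aX, show v + -v ^ 2 = u * v by linear_combination (-v) * huv]
          group
      _ = S.f p u * S.f m (-(u * v)⁻¹) * S.f p (u * v) * S.f m (u / v ^ 2) *
            S.f p v * (S.N p (-v) * S.f p v) := by rw [e3]; group
      _ = S.f p u * S.f m (-(u * v)⁻¹) * S.f p (u * v) * S.f m (u / v ^ 2) *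
            (S.f p v * S.f m (-v⁻¹) * S.f p v) * (S.f p (-v) * S.N p (-v)) := by
          rw [e4]
          calc _ = S.f p u * S.f m (-(u * v)⁻¹) * S.f p (u * v) * S.f m (u / v ^ 2) *
                S.f p v * (S.f m (-v⁻¹) * (S.f p v * S.f p (-v))) * S.N p (-v) := by
                rw [aX, add_neg_cancel, zX, mul_one]; group
            _ = _ := by group
      _ = S.f p u * S.f m (-(u * v)⁻¹) * S.f p (u * v) * S.f m (u / v ^ 2) *
            (S.N p v * S.f p (-v)) * S.N p (-v) := by rw [hN v]; group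
      _ = S.f p u * S.f m (-(u * v)⁻¹) * S.f p (u * v) * (S.f m (u / v ^ 2) * S.f m v⁻¹) *
            (S.N p v * S.N p (-v)) := by rw [e5]; group
      _ = S.f p (u ^ 2) * (S.f p (u * v) * S.f m (-(u * v)⁻¹) * S.f p (u * v)) *
            S.f m (1 / v ^ 2) := by
          rw [e7, mul_one, aY, show u / v ^ 2 + v⁻¹ = 1 / v ^ 2 by
            field_simp
            linear_combination huv]
          conv_lhs => rw [show u = u ^ 2 + u * v by linear_combination (-u) * huv, ← aX]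
          rw [show (u ^ 2 + u * v) * v = u * v by linear_combination (u * v) * huv]
          group
      _ = S.f p (u ^ 2) * (S.N p (u * v) * S.f m (1 / v ^ 2)) := by rw [hN (u * v)]; group
      _ = S.f p (u ^ 2) * S.f p (-u ^ 2) * S.N p (u * v) := by rw [e6]; group
      _ = S.N p (u * v) := by rw [aX, add_neg_cancel, zX, one_mul]
  simp only [hS, ← hpdef]
  rw [← key]
  group

variable [Finite F] (hcen : ∀ g : G, S.rho g = 1 → g ∈ Subgroup.center G)
include hcen

theorem hS_comm (hi : i < D.rank) {t u : F} (ht : t ≠ 0) (hu : u ≠ 0) :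
    Commute (S.hS i t) (S.hS i u) := by
  obtain ⟨g, hg⟩ := IsCyclic.exists_generator (α := Fˣ)
  have hp := (C.simple_lt i hi).1
  have hrho : ∀ a : Fˣ, ∀ n : ℕ, S.rho (S.hS i ((a ^ n : Fˣ) : F)) = S.rho (S.hS i (a : F)) ^ n := by
    intro a n
    induction n with
    | zero => rw [pow_zero, pow_zero, Units.val_one, S.hS_one hi, map_one]
    | succ n ih => rw [pow_succ, pow_succ, S.rho_hS hi, C.hU_mul F hp, ← S.rho_hS hi, ← S.rho_hS hi, ih]
  have hform : ∀ t : F, t ≠ 0 → ∃ n : ℕ, ∃ z ∈ Subgroup.center G,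
      S.hS i t = z * S.hS i (g : F) ^ n := by
    intro t ht
    obtain ⟨n, hn⟩ := (mem_powers_iff_mem_zpowers (x := g)).2 (hg (Units.mk0 t ht))
    refine ⟨n, S.hS i t * (S.hS i (g : F) ^ n)⁻¹, hcen _ ?_, by group⟩
    rw [map_mul, map_inv, map_pow, ← hrho, show ((g ^ n : Fˣ) : F) = t from congrArg Units.val hn,
      mul_inv_cancel]
  obtain ⟨a, z, hz, ea⟩ := hform t ht
  obtain ⟨b, z', hz', eb⟩ := hform u hu
  rw [ea, eb]
  have c1 : ∀ x, Commute z x := fun x => (Subgroup.mem_center_iff.1 hz x).symm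
  have c2 : ∀ x, Commute z' x := fun x => (Subgroup.mem_center_iff.1 hz' x).symm
  exact (c1 _).mul_left (((c2 _).symm).mul_right (Commute.pow_pow (Commute.refl _) a b))

theorem hS_sq (hi : i < D.rank) {t u : F} (ht : t ≠ 0) (hu : u ≠ 0) :
    S.hS i (t ^ 2 * u) = S.hS i u * S.hS i (t ^ 2) := by
  have h := S.hS_conj_hS hi hi ht u
  rw [C.cartan_self i hi, zpow_ofNat, (S.hS_comm hcen hi ht hu).eq, mul_inv_cancel_right,
    eq_mul_inv_iff_mul_eq] at h
  exact h.symm

theorem hS_mul (hi : i < D.rank) {t u : F} (ht : t ≠ 0) (hu : u ≠ 0) :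
    S.hS i t * S.hS i u = S.hS i (t * u) := by
  haveI : Fintype F := Fintype.ofFinite F
  have hsq : ∀ s w : F, s ≠ 0 → w ≠ 0 → S.hS i (s ^ 2) * S.hS i w = S.hS i (s ^ 2 * w) := by
    intro s w hs hw
    rw [S.hS_sq hcen hi hs hw, (S.hS_comm hcen hi (pow_ne_zero 2 hs) hw).eq]
  obtain ⟨g, hg⟩ := IsCyclic.exists_generator (α := Fˣ)
  have hdich : ∀ t : F, t ≠ 0 → (∃ s, s ≠ 0 ∧ t = s ^ 2) ∨ ∃ s, s ≠ 0 ∧ t = (g : F) * s ^ 2 := by
    intro t ht
    obtain ⟨n, hn⟩ := (mem_powers_iff_mem_zpowers (x := g)).2 (hg (Units.mk0 t ht))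
    have hn' : (g : F) ^ n = t := by
      rw [← Units.val_pow_eq_pow_val]; exact congrArg Units.val hn
    rcases Nat.even_or_odd' n with ⟨k, rfl | rfl⟩
    · exact Or.inl ⟨(g : F) ^ k, pow_ne_zero _ g.ne_zero, by rw [← hn', ← pow_mul, mul_comm]⟩
    · exact Or.inr ⟨(g : F) ^ k, pow_ne_zero _ g.ne_zero, by
        rw [← hn', ← pow_mul, pow_succ', mul_comm k]⟩
  -- the square of one non-square
  have hnn : (∃ s : F, (g : F) = s ^ 2) ∨ S.hS i (g : F) * S.hS i (g : F) = S.hS i ((g : F) * g) := by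
    by_cases hgsq : ∃ s : F, (g : F) = s ^ 2
    · exact Or.inl hgsq
    right
    obtain ⟨s, hs, hne, m, hm, hm'⟩ : ∃ s : F, s ≠ 0 ∧ 1 - (g : F) * s ^ 2 ≠ 0 ∧
        ∃ m : F, m ≠ 0 ∧ 1 - (g : F) * s ^ 2 = (g : F) * m ^ 2 := by
      classical
      by_contra hcon
      push Not at hcon
      have hnot : ∀ s : F, s ≠ 0 → 1 - (g : F) * s ^ 2 ≠ 0 := by
        intro s hs e
        exact hgsq ⟨s⁻¹, by field_simp; linear_combination -e⟩
      set A : Finset F := (Finset.univ.filter fun x : F => x ≠ 0).image (fun x => x ^ 2) with hA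
      have hmaps : ∀ a ∈ A, 1 - (g : F) * a ∈ A.erase 1 := by
        intro a ha
        simp only [hA, Finset.mem_image, Finset.mem_filter, Finset.mem_univ, true_and] at ha
        obtain ⟨s, hs, rfl⟩ := ha
        refine Finset.mem_erase.2 ⟨fun e => mul_ne_zero g.ne_zero (pow_ne_zero 2 hs) ?_, ?_⟩
        · linear_combination -e
        rcases hdich _ (hnot s hs) with ⟨r, hr, e⟩ | ⟨r, hr, e⟩
        · exact Finset.mem_image.2 ⟨r, Finset.mem_filter.2 ⟨Finset.mem_univ _, hr⟩, e.symm⟩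
        · exact absurd e (hcon s hs (hnot s hs) r hr)
      have h1 : (1 : F) ∈ A := Finset.mem_image.2
        ⟨1, Finset.mem_filter.2 ⟨Finset.mem_univ _, one_ne_zero⟩, one_pow 2⟩
      have := Finset.card_le_card_of_injOn _ hmaps (fun a _ b _ e => by
        have : (g : F) * a = (g : F) * b := by linear_combination -e
        exact mul_left_cancel₀ g.ne_zero this)
      rw [Finset.card_erase_of_mem h1] at this
      have := Finset.card_pos.2 ⟨1, h1⟩
      omega
    have hgs : (g : F) * s ^ 2 ≠ 0 := mul_ne_zero g.ne_zero (pow_ne_zero 2 hs)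
    have hgm : (g : F) * m ^ 2 ≠ 0 := mul_ne_zero g.ne_zero (pow_ne_zero 2 hm)
    have h := S.hS_steinberg hi hgs hgm (by rw [← hm']; ring)
    have hgg : (g : F) * g ≠ 0 := mul_ne_zero g.ne_zero g.ne_zero
    have hsm : (s * m) ^ 2 ≠ 0 := pow_ne_zero 2 (mul_ne_zero hs hm)
    rw [show (g : F) * s ^ 2 * ((g : F) * m ^ 2) = (s * m) ^ 2 * ((g : F) * g) by ring,
      S.hS_sq hcen hi (mul_ne_zero hs hm) hgg, mul_comm (g : F) (s ^ 2), mul_comm (g : F) (m ^ 2),
      S.hS_sq hcen hi hs g.ne_zero, S.hS_sq hcen hi hm g.ne_zero, mul_pow,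
      ← hsq s (m ^ 2) hs (pow_ne_zero 2 hm)] at h
    have c := S.hS_comm hcen hi (pow_ne_zero 2 hs) g.ne_zero
    rw [show S.hS i (g : F) * S.hS i (s ^ 2) * (S.hS i (g : F) * S.hS i (m ^ 2)) =
      S.hS i (g : F) * (S.hS i (s ^ 2) * S.hS i (g : F)) * S.hS i (m ^ 2) by group, c.eq] at h
    have h' : S.hS i ((g : F) * g) * (S.hS i (s ^ 2) * S.hS i (m ^ 2)) =
        S.hS i (g : F) * S.hS i (g : F) * (S.hS i (s ^ 2) * S.hS i (m ^ 2)) := h.trans (by group)
    exact (mul_right_cancel h').symm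
  rcases hdich t ht with ⟨a, ha, rfl⟩ | ⟨a, ha, rfl⟩
  · exact hsq a u ha hu
  rcases hdich u hu with ⟨b, hb, rfl⟩ | ⟨b, hb, rfl⟩
  · rw [mul_comm ((g : F) * a ^ 2), ← hsq b _ hb ht, (S.hS_comm hcen hi ht hu).eq]
  rcases hnn with ⟨s, hs⟩ | hnn
  · have hs0 : s ≠ 0 := by
      rintro rfl
      exact g.ne_zero (by rw [hs]; ring)
    rw [hs, show s ^ 2 * a ^ 2 = (s * a) ^ 2 by ring]
    exact hsq (s * a) _ (mul_ne_zero hs0 ha) (mul_ne_zero (pow_ne_zero 2 hs0) (pow_ne_zero 2 hb))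
  · have hgg : (g : F) * g ≠ 0 := mul_ne_zero g.ne_zero g.ne_zero
    rw [show (g : F) * a ^ 2 * ((g : F) * b ^ 2) = (a * b) ^ 2 * ((g : F) * g) by ring,
      S.hS_sq hcen hi (mul_ne_zero ha hb) hgg, mul_pow,
      ← hsq a (b ^ 2) ha (pow_ne_zero 2 hb), ← hnn, mul_comm (g : F) (a ^ 2),
      mul_comm (g : F) (b ^ 2), S.hS_sq hcen hi ha g.ne_zero, S.hS_sq hcen hi hb g.ne_zero,
      show S.hS i (g : F) * S.hS i (a ^ 2) * (S.hS i (g : F) * S.hS i (b ^ 2)) =
        S.hS i (g : F) * (S.hS i (a ^ 2) * S.hS i (g : F)) * S.hS i (b ^ 2) by group,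
      (S.hS_comm hcen hi (pow_ne_zero 2 ha) g.ne_zero).eq]
    group

theorem hR_mul {r : ℕ} (hr : r < D.nroots) :
    ∀ t u : F, t ≠ 0 → u ≠ 0 → S.hR r t * S.hR r u = S.hR r (t * u) := by
  refine C.root_induction (P := fun r => ∀ t u : F, t ≠ 0 → u ≠ 0 →
    S.hR r t * S.hR r u = S.hR r (t * u)) ?_ ?_ r hr
  · intro a ha t u ht hu
    exact S.hS_mul hcen ha ht hu
  · intro j hj r hr ih t u ht hu
    exact S.hR_mul_w hj hr ih t u ht hu

end Simple

end Full

/-- (R3) follows from (R1) and (R2) over a finite field -/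
theorem cover_equiv [Finite F] (Q : H37.Chev.Data D F) (hrel : RelOK Q.K Q.X.M) (hA : Adj D) :
    ∃ e : D.SteinbergCover F ≃* D.SteinbergGroup F,
      ∀ (r : ℕ) (t : F), e (D.scGen F r t) = D.stGen F r t := by
  set S := scFull Q.K hA (F := F)
  have hcen : ∀ g, S.rho g = 1 → g ∈ Subgroup.center (D.SteinbergCover F) :=
    fun g h => S.ker_central hrel sc_gen h
  have h1 : ∀ x ∈ D.steinbergRelsAB F, FreeGroup.lift
      (fun p : Fin D.nroots × F => D.stGen F p.1 p.2) x = 1 := fun x hx =>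
    lift_rels Q.K (D.stGen F) (fun r hr => st_add hr) (fun r hr s hs => st_comm hr hs)
      (fun r hr => st_hMul hr) x (Or.inl hx)
  have h2 : ∀ x ∈ D.steinbergRels F, FreeGroup.lift
      (fun p : Fin D.nroots × F => D.scGen F p.1 p.2) x = 1 := by
    refine lift_rels Q.K (D.scGen F) (fun r hr => sc_add hr) (fun r hr s hs => sc_comm hr hs) ?_
    intro r hr t u ht hu
    rw [hWord_prod, hWord_prod, hWord_prod]
    exact S.hR_mul hcen hr t u ht hu
  let φ : D.SteinbergCover F →* D.SteinbergGroup F := PresentedGroup.toGroup h1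
  let ψ : D.SteinbergGroup F →* D.SteinbergCover F := PresentedGroup.toGroup h2
  have hφ : ∀ (r : ℕ) (t : F), φ (D.scGen F r t) = D.stGen F r t := by
    intro r t
    show FreeGroup.lift _ (D.stX r t) = _
    by_cases hr : r < D.nroots
    · exact lift_stX (D.stGen F) hr t
    · simp [stX, stGen, hr]
  have hψ : ∀ (r : ℕ) (t : F), r < D.nroots → ψ (D.stGen F r t) = D.scGen F r t :=
    fun r t hr => lift_stX (D.scGen F) hr t
  refine ⟨φ.toMulEquiv ψ (PresentedGroup.ext fun p => ?_) (PresentedGroup.ext fun p => ?_), hφ⟩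
  · obtain ⟨⟨r, hr⟩, t⟩ := p
    have e : (PresentedGroup.of (⟨r, hr⟩, t) : D.SteinbergCover F) = D.scGen F r t := by
      simp [scGen, stX, hr]; rfl
    rw [e]
    show ψ (φ (D.scGen F r t)) = D.scGen F r t
    rw [hφ, hψ r t hr]
  · obtain ⟨⟨r, hr⟩, t⟩ := p
    have e : (PresentedGroup.of (⟨r, hr⟩, t) : D.SteinbergGroup F) = D.stGen F r t := by
      simp [stGen, stX, hr]; rfl
    rw [e]
    show φ (ψ (D.stGen F r t)) = D.stGen F r t
    rw [hψ r t hr, hφ]

end Cfsg.Agent.H38.St
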