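/-
The centre of Steinberg's group as the kernel of the torus map; embeddings of groups of type E6, E7
separate its elements.
-/
import Cfsg.Agent.H38.St.Symbols

set_option autoImplicit false

namespace Cfsg.Agent.H38.St

open Cfsg.Lie Cfsg.Lie.ChevalleyDatum Cfsg.Agent.Chevalley Cfsg.Agent.H38.CT

/-- certificate for the kernel of an integer Cartan matrix acting on a group -/
structure LatCert where
  d : ℕ
  uL : List ℤ
  vL : List ℤ
  yL : List ℤ
  BL : List (List ℤ)

namespace LatCert

variable (L : LatCert)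

def u (m : ℕ) : ℤ := L.uL.getD m 0
def v (m : ℕ) : ℤ := L.vL.getD m 0
def y (m : ℕ) : ℤ := L.yL.getD m 0
def B (j k : ℕ) : ℤ := (L.BL.getD j []).getD k 0

def check (D : ChevalleyDatum) : Bool :=
  let n := D.rank
  ((List.range n).all fun m => (List.range n).all fun k =>
    (((List.range n).map fun j => D.cartan m (D.simple j) * L.B j k).sum ==
      (if m = k then 1 else 0) - L.u m * L.v k)) &&
  ((List.range n).all fun m =>
    (((List.range n).map fun j => D.cartan m (D.simple j) * L.y j).sum == (L.d : ℤ) * L.u m)) &&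
  ((List.range n).all fun j =>
    (((List.range n).map fun m => L.v m * D.cartan m (D.simple j)).sum % (L.d : ℤ) == 0)) &&
  ((((List.range n).map fun m => L.v m * L.u m).sum - 1) % (L.d : ℤ) == 0)

end LatCert

/-- check of an embedding of root systems on the rank-two subsystems -/
def embCheck (D D' : ChevalleyDatum) (w : ℕ → ℕ → ℕ) (cf : ℕ → ℕ → ℤ) (io : List ℕ) : Bool :=
  let f := fun r => io.getD r 0
  ((List.range D.nroots).all fun r =>
    decide (f r < D'.nroots) && (D'.neg (f r) == f (D.neg r)) &&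
      ((List.range D.rank).all fun i => decide (w i r < D.nroots))) &&
  decide (D.rank ≤ D'.rank) && decide io.Nodup && (io.length == D.nroots) &&
  ((List.range D.rank).all fun i => f (D.simple i) == D'.simple i) &&
  ((List.range D.rank).all fun i => (List.range D.rank).all fun j =>
    let L := (List.range D.nroots).filter fun r => twoB D cf i j r
    L.all fun r => L.all fun s => (s == r) || (s == D.neg r) ||
      (D'.commTerms (f r) (f s) == (D.commTerms r s).map fun c => (f c.1, c.2)))

/-- check of a left inverse on the torus -/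
def subCheck (D D' : ChevalleyDatum) (BL : List (List ℤ)) : Bool :=
  (List.range D.rank).all fun m => (List.range D.rank).all fun k =>
    ((List.range D'.rank).map fun j => D'.cartan m (D'.simple j) * (BL.getD j []).getD k 0).sum ==
      (if m = k then 1 else 0)

section Lattice

variable {A : Type*} [AddCommGroup A] {n n' : ℕ} (M : ℕ → ℕ → ℤ)

theorem left_inv_smul (B : ℕ → ℕ → ℤ) (a : ℕ → A) {k : ℕ} (hk : k < n) (e : ℕ → ℤ)
    (hB : ∀ m < n, ∑ j ∈ Finset.range n', M m j * B j k = (if m = k then 1 else 0) - e m)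
    (h : ∀ j < n', ∑ m ∈ Finset.range n, M m j • a m = 0) :
    a k = ∑ m ∈ Finset.range n, e m • a m := by
  have h1 : ∑ m ∈ Finset.range n, (∑ j ∈ Finset.range n', M m j * B j k) • a m = 0 := by
    simp only [Finset.sum_smul]
    rw [Finset.sum_comm]
    refine Finset.sum_eq_zero fun j hj => ?_
    have : ∑ m ∈ Finset.range n, (M m j * B j k) • a m = B j k • ∑ m ∈ Finset.range n, M m j • a m := by
      rw [Finset.smul_sum]
      exact Finset.sum_congr rfl fun m _ => by rw [smul_smul, mul_comm]
    rw [this, h j (Finset.mem_range.1 hj), smul_zero]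
  rw [Finset.sum_congr rfl (fun m hm => by rw [hB m (Finset.mem_range.1 hm), sub_smul]),
    Finset.sum_sub_distrib, sub_eq_zero] at h1
  rw [← h1, Finset.sum_eq_single k]
  · rw [if_pos rfl, one_smul]
  · intro b _ hne; rw [if_neg hne, zero_smul]
  · simp [hk]

theorem zsmul_sum' {ι : Type*} (e : ℤ) (s : Finset ι) (f : ι → A) :
    e • ∑ i ∈ s, f i = ∑ i ∈ s, e • f i := Finset.smul_sum

theorem nsmul_sum' {ι : Type*} (e : ℕ) (s : Finset ι) (f : ι → A) :
    e • ∑ i ∈ s, f i = ∑ i ∈ s, e • f i := Finset.smul_sum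

theorem sum_zsmul' {ι : Type*} (s : Finset ι) (f : ι → ℤ) (a : A) :
    ∑ i ∈ s, f i • a = (∑ i ∈ s, f i) • a := (Finset.sum_smul).symm

theorem hom_ext_pi {I M N : Type*} [Finite I] [DecidableEq I] [CommGroup M] [Group N]
    (g h : (I → M) →* N) (e : ∀ i x, g (Pi.mulSingle i x) = h (Pi.mulSingle i x)) : g = h :=
  MonoidHom.ext fun x => Subgroup.pi_mem_of_mulSingle_mem (H := g.eqLocus h) x fun i => e i (x i)

end Lattice

variable {D : ChevalleyDatum} {F : Type*} [Field F]

/-- the coordinates of a torus parameter, additively -/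
def addC (c : Fin D.rank → Fˣ) (m : ℕ) : Additive Fˣ :=
  if h : m < D.rank then Additive.ofMul (c ⟨m, h⟩) else 0

theorem sum_addC (c : Fin D.rank → Fˣ) (e : ℕ → ℤ) :
    ∑ m ∈ Finset.range D.rank, e m • addC c m =
      Additive.ofMul (∏ m : Fin D.rank, c m ^ e m) := by
  rw [Finset.sum_range, ofMul_prod]
  refine Finset.sum_congr rfl fun m _ => ?_
  simp [addC, ofMul_zpow]

/-- a parameter in a larger datum -/
def pad (D' : ChevalleyDatum) (c : Fin D.rank → Fˣ) : Fin D'.rank → Fˣ :=
  fun m => if h : (m : ℕ) < D.rank then c ⟨m, h⟩ else 1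

theorem torus_eq_one_iff (C : Cert D) (c : Fin D.rank → Fˣ) :
    torus D F c = 1 ↔
      ∀ j < D.rank, ∑ m ∈ Finset.range D.rank, D.cartan m (D.simple j) • addC c m = 0 := by
  constructor
  · intro h j hj
    rw [sum_addC c fun m => D.cartan m (D.simple j), ofMul_eq_zero]
    have h' : dU (fun x => ∏ m : Fin D.rank, c m ^ pe (D.simple m) x) =
        (dU 1 : GL D.Idx F) := h.trans dU_one.symm
    have := congrFun (dU_inj h') (Sum.inr ⟨D.simple j, (C.simple_lt j hj).1⟩)
    simpa [pe, C.pairing_simple (Fin.isLt _)] using this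
  · intro h
    show dU _ = _
    rw [← dU_one]
    congr 1
    funext x
    have e := sum_addC c fun m => pe (D.simple m) x
    have e2 : ∑ m ∈ Finset.range D.rank, pe (D.simple m) x • addC c m =
        ∑ j ∈ Finset.range D.rank, C.cfI x j •
          ∑ m ∈ Finset.range D.rank, D.cartan m (D.simple j) • addC c m := by
      simp only [zsmul_sum', smul_smul]
      rw [Finset.sum_comm]
      refine Finset.sum_congr rfl fun m hm => ?_
      rw [C.pe_eq, ← sum_zsmul']
      refine Finset.sum_congr rfl fun j _ => ?_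
      rw [C.pairing_simple (Finset.mem_range.1 hm)]
    rw [e2, Finset.sum_eq_zero fun j hj => by rw [h j (Finset.mem_range.1 hj), smul_zero]] at e
    exact ofMul_eq_zero.1 e.symm

namespace LatCert

variable (L : LatCert)

/-- the kernel of the torus map is the group of `d`-th roots of unity -/
noncomputable def kerEquiv (C : Cert D) (hL : L.check D = true) :
    {c : Fin D.rank → Fˣ // torus D F c = 1} ≃ {z : Fˣ // z ^ L.d = 1} := by
  simp only [check, Bool.and_eq_true, List.all_eq_true, List.mem_range, beq_iff_eq,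
    list_sum_range_map] at hL
  have hB := hL.1.1.1
  have hy := hL.1.1.2
  have hv := hL.1.2
  have h1 := hL.2
  refine
    { toFun := fun c => ⟨∏ m : Fin D.rank, c.1 m ^ L.u m, ?_⟩
      invFun := fun z => ⟨fun m => z.1 ^ L.v m, ?_⟩
      left_inv := fun c => ?_
      right_inv := fun z => ?_ }
  · have h := (torus_eq_one_iff C c.1).1 c.2
    apply Additive.ofMul.injective
    rw [ofMul_pow, ← sum_addC c.1 L.u, ofMul_one, nsmul_sum']
    have e : ∀ m ∈ Finset.range D.rank, L.d • (L.u m • addC c.1 m) =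
        ∑ j ∈ Finset.range D.rank, L.y j • (D.cartan m (D.simple j) • addC c.1 m) := by
      intro m hm
      rw [← natCast_zsmul, smul_smul, ← hy m (Finset.mem_range.1 hm), ← sum_zsmul']
      exact Finset.sum_congr rfl fun j _ => by rw [smul_smul, mul_comm]
    rw [Finset.sum_congr rfl e, Finset.sum_comm]
    refine Finset.sum_eq_zero fun j hj => ?_
    rw [← zsmul_sum', h j (Finset.mem_range.1 hj), smul_zero]
  · rw [torus_eq_one_iff C]
    intro j hj
    have e : ∀ m ∈ Finset.range D.rank,
        D.cartan m (D.simple j) • addC (fun m : Fin D.rank => z.1 ^ L.v m) m =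
          (L.v m * D.cartan m (D.simple j)) • Additive.ofMul z.1 := by
      intro m hm
      rw [addC, dif_pos (Finset.mem_range.1 hm), ofMul_zpow, smul_smul, mul_comm]
    rw [Finset.sum_congr rfl e, sum_zsmul']
    obtain ⟨k, hk⟩ := Int.dvd_of_emod_eq_zero (hv j hj)
    rw [hk, mul_comm, mul_zsmul, natCast_zsmul, ← ofMul_pow, z.2, ofMul_one, zsmul_zero]
  · refine Subtype.ext (funext fun k => Additive.ofMul.injective ?_)
    show Additive.ofMul ((∏ m : Fin D.rank, c.1 m ^ L.u m) ^ L.v k) = Additive.ofMul (c.1 k)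
    have h := (torus_eq_one_iff C c.1).1 c.2
    have := left_inv_smul (n := D.rank) (n' := D.rank) (fun m j => D.cartan m (D.simple j)) L.B
      (addC c.1) k.isLt (fun m => L.u m * L.v k) (fun m hm => hB m hm k k.isLt) h
    rw [show addC c.1 k = Additive.ofMul (c.1 k) by simp [addC]] at this
    rw [this, ofMul_zpow, ← sum_addC c.1 L.u, zsmul_sum']
    refine Finset.sum_congr rfl fun m _ => ?_
    rw [smul_smul, mul_comm]
  · refine Subtype.ext (Additive.ofMul.injective ?_)
    show Additive.ofMul (∏ m : Fin D.rank, (z.1 ^ L.v m) ^ L.u m) = Additive.ofMul z.1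
    rw [← sum_addC (fun m : Fin D.rank => z.1 ^ L.v m) L.u]
    have e : ∀ m ∈ Finset.range D.rank, L.u m • addC (fun m : Fin D.rank => z.1 ^ L.v m) m =
        (L.v m * L.u m) • Additive.ofMul z.1 := by
      intro m hm
      rw [addC, dif_pos (Finset.mem_range.1 hm), ofMul_zpow, smul_smul, mul_comm]
    rw [Finset.sum_congr rfl e, sum_zsmul']
    obtain ⟨k, hk⟩ := Int.dvd_of_emod_eq_zero h1
    rw [show (∑ m ∈ Finset.range D.rank, L.v m * L.u m) = 1 + k * L.d by linear_combination hk,
      add_zsmul, one_zsmul, mul_zsmul, natCast_zsmul, ← ofMul_pow, z.2, ofMul_one, zsmul_zero, add_zero]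

end LatCert

theorem hS_comm_of_mul {C : Cert D} {G : Type*} [Group G] (S : Full C (F := F) G)
    (hmul : ∀ i < D.rank, ∀ t u : F, t ≠ 0 → u ≠ 0 → S.hS i t * S.hS i u = S.hS i (t * u))
    {i j : ℕ} (hi : i < D.rank) (hj : j < D.rank) {t u : F} (ht : t ≠ 0) (hu : u ≠ 0) :
    Commute (S.hS i t) (S.hS j u) := by
  have h := S.hS_conj_hS hi hj ht u
  have hc : t ^ D.cartan i (D.simple j) ≠ 0 := zpow_ne_zero _ ht
  rw [mul_comm (t ^ D.cartan i (D.simple j)) u, ← hmul j hj u _ hu hc,
    mul_inv_cancel_right] at h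
  exact mul_inv_eq_iff_eq_mul.1 h

/-- the torus of Steinberg's group as a homomorphism -/
theorem exists_eta (C : Cert D) (hA : Adj D) :
    ∃ η : (Fin D.rank → Fˣ) →* D.SteinbergGroup F,
      (∀ (m : Fin D.rank) (t : Fˣ), η (Pi.mulSingle m t) = (stFull C hA (F := F)).hS m (t : F)) ∧
      (stFull C hA (F := F)).rho.comp η = torus D F ∧ η.range = (stFull C hA (F := F)).H := by
  set S := stFull C hA (F := F)
  have hmul : ∀ i < D.rank, ∀ t u : F, t ≠ 0 → u ≠ 0 → S.hS i t * S.hS i u = S.hS i (t * u) := by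
    intro i hi t u ht hu
    have := st_hMul (C.simple_lt i hi).1 t u ht hu
    rwa [hWord_prod, hWord_prod, hWord_prod] at this
  let h : Fin D.rank → (Fˣ →* D.SteinbergGroup F) := fun m =>
    { toFun := fun t => S.hS m (t : F)
      map_one' := S.hS_one m.isLt
      map_mul' := fun t u => by
        show S.hS m ((t * u : Fˣ) : F) = _
        rw [Units.val_mul, hmul m m.isLt _ _ t.ne_zero u.ne_zero] }
  have hcomm : Pairwise fun i j => ∀ x y : Fˣ, Commute (h i x) (h j y) := fun i j _ x y =>
    hS_comm_of_mul S hmul i.isLt j.isLt x.ne_zero y.ne_zero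
  refine ⟨MonoidHom.noncommPiCoprod h hcomm, fun m t => ?_, ?_, ?_⟩
  · rw [MonoidHom.noncommPiCoprod_mulSingle]; rfl
  · refine hom_ext_pi _ _ fun m t => ?_
    rw [MonoidHom.comp_apply, MonoidHom.noncommPiCoprod_mulSingle]
    show S.rho (S.hS m t) = _
    rw [S.rho_hS m.isLt, C.hU_diag F (C.simple_lt m m.isLt).1]
    show dU _ = dU _
    congr 1
    funext x
    rw [Finset.prod_eq_single m]
    · simp
    · intro b _ hb; simp [hb]
    · simp
  · refine le_antisymm ?_ ?_
    · rw [MonoidHom.noncommPiCoprod_range]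
      refine iSup_le fun m => ?_
      rintro x ⟨t, rfl⟩
      exact S.hS_mem m.isLt t.ne_zero
    · refine (Subgroup.closure_le _).2 ?_
      rintro x ⟨i, t, hi, ht, rfl⟩
      exact ⟨Pi.mulSingle ⟨i, hi⟩ (Units.mk0 t ht), MonoidHom.noncommPiCoprod_mulSingle h ⟨i, hi⟩ _⟩

theorem center_le_eta (Q : H37.Chev.Data D F) (hrel : RelOK Q.K Q.X.M) (hA : Adj D)
    {g : D.SteinbergGroup F} (hg : g ∈ Subgroup.center (D.SteinbergGroup F)) :
    (stFull Q.K hA).rho g = 1 ∧ g ∈ (stFull Q.K hA).H := by
  obtain ⟨θ, -, hker, hθ⟩ := steinberg Q hrel hA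
  have hmem : g ∈ θ.ker := hker ▸ hg
  have e : (D.group F).subtype.comp θ = (stFull Q.K hA).rho := by
    refine PresentedGroup.ext fun p => ?_
    obtain ⟨⟨r, hr⟩, t⟩ := p
    have : (PresentedGroup.of (⟨r, hr⟩, t) : D.SteinbergGroup F) = D.stGen F r t := by
      simp [stGen, stX, hr]; rfl
    rw [this, MonoidHom.comp_apply, Subgroup.subtype_apply]
    exact (Units.ext (hθ r t hr)).trans ((stFull Q.K hA).rho_f (r := r) hr t).symm
  have h1 : (stFull Q.K hA).rho g = 1 := by
    rw [← e, MonoidHom.comp_apply, MonoidHom.mem_ker.1 hmem]; rfl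
  exact ⟨h1, (stFull Q.K hA).ker_le hrel st_gen h1⟩

/-- trivial centre when the Cartan matrix is unimodular -/
theorem center_trivial (Q : H37.Chev.Data D F) (hrel : RelOK Q.K Q.X.M) (hA : Adj D) (L : LatCert)
    (hL : L.check D = true) (hd : L.d = 1) : Subgroup.center (D.SteinbergGroup F) = ⊥ := by
  rw [eq_bot_iff]
  intro g hg
  obtain ⟨h1, h2⟩ := center_le_eta Q hrel hA hg
  obtain ⟨η, -, hρ, hr⟩ := exists_eta (F := F) Q.K hA
  rw [← hr] at h2
  obtain ⟨c, rfl⟩ := h2
  have hc : torus D F c = 1 := by rw [← hρ, MonoidHom.comp_apply, h1]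
  have hsub : Subsingleton {z : Fˣ // z ^ L.d = 1} := ⟨fun a b => by
    have ha := a.2; have hb := b.2
    simp only [hd, pow_one] at ha hb
    exact Subtype.ext (ha.trans hb.symm)⟩
  haveI := (L.kerEquiv (F := F) Q.K hL).subsingleton
  have h0 := Subsingleton.elim (α := {c : Fin D.rank → Fˣ // torus D F c = 1}) ⟨c, hc⟩ ⟨1, map_one _⟩
  rw [Subgroup.mem_bot, show c = 1 from congrArg Subtype.val h0, map_one]

/-- the homomorphism into the group of a larger datum -/
theorem exists_emb {D' : ChevalleyDatum} (C : Cert D) (C' : Cert D') (hk : Chk C) {io : List ℕ}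
    {w : ℕ → ℕ → ℕ} {cf : ℕ → ℕ → ℤ} (hcf : C.cf = cf)
    (he : embCheck D D' w cf io = true) :
    ∃ φ : D.SteinbergGroup F →* GL D'.Idx F, ∀ (hA : Adj D) (m : ℕ) (t : F), m < D.rank →
      φ ((stFull C hA).hS m t) = C'.hU F (D'.simple m) t := by
  classical
  subst hcf
  simp only [embCheck, Bool.and_eq_true, List.all_eq_true, List.mem_range, beq_iff_eq,
    decide_eq_true_eq, Bool.or_eq_true, List.mem_filter] at he
  obtain ⟨⟨⟨⟨⟨hlt, hrank⟩, hnd⟩, hlen⟩, hsimp⟩, hcomm⟩ := he
  set f : ℕ → ℕ := fun r => io.getD r 0 with hf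
  have hinj : ∀ a < D.nroots, ∀ b < D.nroots, f a = f b → a = b := by
    intro a ha b hb e
    simp only [hf, List.getD_eq_getElem?_getD, List.getElem?_eq_getElem (hlen.symm ▸ ha : a < io.length),
      List.getElem?_eq_getElem (hlen.symm ▸ hb : b < io.length), Option.getD_some] at e
    exact (hnd.getElem_inj_iff).1 e
  have hmem : ∀ {i j r : ℕ}, Two C i j r → twoB D C.cf i j r = true := by
    intro i j r h
    simp only [twoB, Bool.and_eq_true, decide_eq_true_eq, List.all_eq_true, List.mem_range,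
      Bool.or_eq_true, beq_iff_eq]
    refine ⟨h.1, fun k hk' => ?_⟩
    by_cases a : k = i
    · exact Or.inl (Or.inl a)
    by_cases b : k = j
    · exact Or.inl (Or.inr b)
    exact Or.inr (h.2.2.2 k hk' a b)
  let g : Fin D.nroots × F → GL D'.Idx F := fun p =>
    if Small C p.1 then C'.xU F (f p.1) p.2 else 1
  have hX : ∀ r t, Small C r → FreeGroup.lift g (D.stX r t) = C'.xU F (f r) t := by
    intro r t h
    obtain ⟨i, j, h'⟩ := h
    simp [stX, h'.1, g, show Small C r from ⟨i, j, h'⟩]
  have hW : ∀ v : List (ℕ × F), (∀ p ∈ v, Small C p.1) → FreeGroup.lift g (D.stWord v) =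
      (v.map fun p => C'.xU F (f p.1) p.2).prod := by
    intro v hv
    rw [map_stWord _ (fun r t => FreeGroup.lift g (D.stX r t)) fun _ _ => rfl]
    congr 1
    exact List.map_congr_left fun p hp => hX p.1 p.2 (hv p hp)
  have hH : ∀ r, r < D.nroots → ∀ t : F,
      ((D.hWord r t).map fun p => C'.xU F (f p.1) p.2).prod =
        ((D'.hWord (f r) t).map fun p => C'.xU F p.1 p.2).prod := by
    intro r hr t
    rw [hWord_prod (fun r t => C'.xU F (f r) t), hWord_prod (C'.xU F), ((hlt r hr).1.2 : D'.neg (f r) = f (D.neg r))]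
  have hrels : ∀ x ∈ D.curtisTitsRels F, FreeGroup.lift g x = 1 := by
    rintro x (((⟨r, t, hr, h, rfl⟩ | ⟨i, j, r, t, u, h, rfl⟩) | ⟨i, j, r, s, t, u, hr, hs, h1, h2, rfl⟩) |
      ⟨i, j, r, t, u, h, ht, hu, rfl⟩)
    · have : ¬ Small C r := fun ⟨i, j, hij⟩ => h i j ((two_iff C hk).2 hij)
      simp [stX, hr, g, this]
    · have hS : Small C r := ⟨i, j, (two_iff C hk).1 h⟩
      rw [map_mul, map_mul, map_inv, hX r t hS, hX r u hS, hX r _ hS, C'.xU_add, mul_inv_cancel]
    · have hr' := (two_iff C hk).1 hr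
      have hs' := (two_iff C hk).1 hs
      rw [map_mul, map_inv, hW _ ?_, map_mul, map_mul, map_mul, map_inv, map_inv,
        hX r t ⟨i, j, hr'⟩, hX s u ⟨i, j, hs'⟩]
      · have hfr := ((hlt r hr'.1).1.1 : f r < D'.nroots)
        have hfs := ((hlt s hs'.1).1.1 : f s < D'.nroots)
        rw [gl_comm F C' hfr hfs (fun e => h1 (hinj s hs'.1 r hr'.1 e))
          (fun e => h2 (hinj s hs'.1 _ (C.neg_lt hr'.1) (e.trans (hlt r hr'.1).1.2)))]
        have hc : D'.commTerms (f r) (f s) = (D.commTerms r s).map fun c => (f c.1, c.2) := by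
          rcases hcomm i hr'.2.1 j hr'.2.2.1 r ⟨hr'.1, hmem hr'⟩ s ⟨hs'.1, hmem hs'⟩ with (e | e) | e
          · exact absurd e h1
          · exact absurd e h2
          · exact e
        simp only [hf] at hc ⊢
        simp only [commWord, hc, List.map_map, Function.comp_def]
        exact mul_inv_cancel _
      intro p hp
      simp only [commWord, List.mem_map] at hp
      obtain ⟨c, hc, rfl⟩ := hp
      exact ⟨i, j, two_comm C hr' hs' c hc⟩
    · have h' := (two_iff C hk).1 h
      have hS : Small C r := ⟨i, j, h'⟩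
      rw [map_mul, map_mul, map_inv, stH, stH, stH, hW _ (hWord_small C hS t),
        hW _ (hWord_small C hS u), hW _ (hWord_small C hS _), hH r h'.1, hH r h'.1, hH r h'.1,
        gl_hMul F C' ((hlt r h'.1).1.1 : f r < D'.nroots) t u ht hu, mul_inv_cancel]
  obtain ⟨e, he'⟩ := curtis_tits (K := F) C hk
  refine ⟨(PresentedGroup.toGroup hrels).comp e.symm.toMonoidHom, fun hA m t hm => ?_⟩
  have hsm : ∀ r, (r = D.simple m ∨ r = D.neg (D.simple m)) → ∀ t : F,
      ((PresentedGroup.toGroup hrels).comp e.symm.toMonoidHom) (D.stGen F r t) = C'.xU F (f r) t := by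
    intro r hr t
    have hS : Two C m m r := by
      rcases hr with rfl | rfl
      · exact two_simple C hm hm
      · exact two_neg C (two_simple C hm hm)
    rw [← he' m m r t ((two_iff C hk).2 hS), MonoidHom.comp_apply]
    show PresentedGroup.toGroup hrels (e.symm (e _)) = _
    rw [MulEquiv.symm_apply_apply]
    exact hX r t ⟨m, m, hS⟩
  have hp := (C.simple_lt m hm).1
  have hN : ∀ s : F, ((PresentedGroup.toGroup hrels).comp e.symm.toMonoidHom)
      (D.stGen F (D.simple m) s * D.stGen F (D.neg (D.simple m)) (-s⁻¹) * D.stGen F (D.simple m) s) =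
      C'.nU F (D'.simple m) s := by
    intro s
    rw [map_mul, map_mul, hsm _ (Or.inl rfl), hsm _ (Or.inr rfl), C'.nU_eq,
      show f (D.neg (D.simple m)) = D'.neg (f (D.simple m)) from ((hlt _ hp).1.2).symm,
      show f (D.simple m) = D'.simple m from hsimp m hm]
  show _ = _
  rw [show (stFull C hA).hS m t = (D.stGen F (D.simple m) t * D.stGen F (D.neg (D.simple m)) (-t⁻¹) *
      D.stGen F (D.simple m) t) * (D.stGen F (D.simple m) (-1) *
      D.stGen F (D.neg (D.simple m)) (-(-1 : F)⁻¹) * D.stGen F (D.simple m) (-1)) from rfl,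
    map_mul, hN, hN, C'.hU_eq]

/-- the centre has as many elements as there are roots of unity of order dividing `d` -/
theorem center_card [Fintype F] {D' : ChevalleyDatum} (Q : H37.Chev.Data D F) (C' : Cert D')
    (hrel : RelOK Q.K Q.X.M) (hA : Adj D) (hk : Chk Q.K) {io : List ℕ} {w : ℕ → ℕ → ℕ}
    {cf : ℕ → ℕ → ℤ} {BL : List (List ℤ)} (hcf : Q.K.cf = cf)
    (he : embCheck D D' w cf io = true) (hb : subCheck D D' BL = true) (L : LatCert)
    (hL : L.check D = true) :
    Nat.card (Subgroup.center (D.SteinbergGroup F)) = Nat.gcd L.d (Fintype.card F - 1) := by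
  classical
  obtain ⟨φ, hφ⟩ := exists_emb (F := F) Q.K C' hk hcf he
  obtain ⟨η, hη, hρ, hr⟩ := exists_eta (F := F) Q.K hA
  have hrank : D.rank ≤ D'.rank := by
    simp only [embCheck, Bool.and_eq_true, decide_eq_true_eq] at he
    exact he.1.1.1.1.2
  have hφη : ∀ c : Fin D.rank → Fˣ, φ (η c) = torus D' F (pad D' c) := by
    let P : (Fin D.rank → Fˣ) →* (Fin D'.rank → Fˣ) :=
      { toFun := pad D'
        map_one' := funext fun m => by simp [pad]
        map_mul' := fun a b => funext fun m => by by_cases h : (m : ℕ) < D.rank <;> simp [pad, h] }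
    have : φ.comp η = (torus D' F).comp P := by
      refine hom_ext_pi _ _ fun m t => ?_
      rw [MonoidHom.comp_apply, hη, hφ hA m t m.isLt,
        C'.hU_diag F (C'.simple_lt m (lt_of_lt_of_le m.isLt hrank)).1]
      show dU _ = dU _
      congr 1
      funext x
      rw [Finset.prod_eq_single (⟨m, lt_of_lt_of_le m.isLt hrank⟩ : Fin D'.rank)]
      · simp [P, pad]
      · intro b _ hb
        by_cases h : (b : ℕ) < D.rank
        · have : (⟨(b : ℕ), h⟩ : Fin D.rank) ≠ m := fun e => hb (Fin.ext (congrArg (fun z : Fin D.rank => (z : ℕ)) e))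
          simp [P, pad, h, this]
        · simp [P, pad, h]
      · simp
    exact fun c => DFunLike.congr_fun this c
  have hinj : Function.Injective η := by
    rw [injective_iff_map_eq_one]
    intro c hc
    have h1 : torus D' F (pad D' c) = 1 := by rw [← hφη, hc, map_one]
    rw [torus_eq_one_iff C'] at h1
    simp only [subCheck, List.all_eq_true, List.mem_range, beq_iff_eq, list_sum_range_map] at hb
    funext k
    have h2 : ∀ j < D'.rank,
        ∑ m ∈ Finset.range D.rank, D'.cartan m (D'.simple j) • addC c m = 0 := by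
      intro j hj
      refine Eq.trans ?_ (h1 j hj)
      rw [← Finset.sum_subset (Finset.range_subset_range.2 hrank)]
      · refine Finset.sum_congr rfl fun m hm => ?_
        have hm' := Finset.mem_range.1 hm
        simp [addC, pad, hm', lt_of_lt_of_le hm' hrank]
      · intro m hm hm'
        have h' : ¬ m < D.rank := fun h => hm' (Finset.mem_range.2 h)
        simp [addC, pad, h']
    have := left_inv_smul (n := D.rank) (n' := D'.rank) (fun m j => D'.cartan m (D'.simple j))
      (fun j k => (BL.getD j []).getD k 0) (addC c) k.isLt (fun _ => 0)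
      (fun m hm => by rw [hb m hm k k.isLt, sub_zero]) h2
    simpa [addC] using this
  have hcen : ∀ c, η c ∈ Subgroup.center (D.SteinbergGroup F) ↔ torus D F c = 1 := by
    intro c
    refine ⟨fun h => ?_, fun h => (stFull Q.K hA).ker_central hrel st_gen ?_⟩
    · rw [← hρ, MonoidHom.comp_apply, (center_le_eta Q hrel hA h).1]
    · rwa [← MonoidHom.comp_apply, hρ]
  let e : {c : Fin D.rank → Fˣ // torus D F c = 1} ≃ Subgroup.center (D.SteinbergGroup F) :=
    Equiv.ofBijective (fun c => ⟨η c.1, (hcen c.1).2 c.2⟩)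
      ⟨fun a b h => Subtype.ext (hinj (congrArg Subtype.val h)), fun g => by
        obtain ⟨-, h2⟩ := center_le_eta Q hrel hA g.2
        rw [← hr] at h2
        obtain ⟨c, hc⟩ := h2
        exact ⟨⟨c, (hcen c).1 (hc.symm ▸ g.2)⟩, Subtype.ext hc⟩⟩
  rw [← Nat.card_congr e, Nat.card_congr (L.kerEquiv Q.K hL)]
  have h3 : Nat.card {z : Fˣ // z ^ L.d = 1} = Nat.card (powMonoidHom L.d : Fˣ →* Fˣ).ker :=
    Nat.card_congr (Equiv.subtypeEquivRight fun z => Iff.rfl)
  rw [h3, IsCyclic.card_powMonoidHom_ker, Nat.card_eq_fintype_card, Fintype.card_units, Nat.gcd_comm]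

end Cfsg.Agent.H38.St
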