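/-
Integer certificates for the centres of the universal groups.
-/
import Cfsg.Agent.H38.St.Centre
import Cfsg.Agent.H38.CT.Data

set_option autoImplicit false
set_option maxRecDepth 100000

namespace Cfsg.Agent.H38.St

open Cfsg.Lie Cfsg.Agent.Chevalley

/-- the lattice certificate of type G2 -/
def latG2 : LatCert :=
  ⟨1, [0, 0], [0, 0], [0, 0], [[2, 3], [1, 2]]⟩

theorem latG2_ok : latG2.check chevG2 = true := by decide +kernel

/-- the lattice certificate of type F4 -/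
def latF4 : LatCert :=
  ⟨1, [0, 0, 0, 0], [0, 0, 0, 0], [0, 0, 0, 0], [[2, 3, 4, 2], [3, 6, 8, 4], [2, 4, 6, 3], [1, 2, 3, 2]]⟩

theorem latF4_ok : latF4.check chevF4 = true := by decide +kernel

/-- the lattice certificate of type E8 -/
def latE8 : LatCert :=
  ⟨1, [0, 0, 0, 0, 0, 0, 0, 0], [0, 0, 0, 0, 0, 0, 0, 0], [0, 0, 0, 0, 0, 0, 0, 0], [[4, 5, 7, 10, 8, 6, 4, 2], [5, 8, 10, 15, 12, 9, 6, 3], [7, 10, 14, 20, 16, 12, 8, 4], [10, 15, 20, 30, 24, 18, 12, 6], [8, 12, 16, 24, 20, 15, 10, 5], [6, 9, 12, 18, 15, 12, 8, 4], [4, 6, 8, 12, 10, 8, 6, 3], [2, 3, 4, 6, 5, 4, 3, 2]]⟩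

theorem latE8_ok : latE8.check chevE8 = true := by decide +kernel

/-- the lattice certificate of type E6 -/
def latE6 : LatCert :=
  ⟨3, [-1, -1, -1, -1, -1, 1], [1, 0, 2, 0, 1, 2], [-20, -27, -37, -51, -35, -16], [[8, 1, 15, 2, 8, 14], [10, 2, 20, 3, 11, 19], [14, 2, 28, 4, 15, 26], [19, 3, 38, 6, 21, 36], [13, 2, 26, 4, 15, 25], [6, 1, 12, 2, 7, 12]]⟩

theorem latE6_ok : latE6.check chevE6 = true := by decide +kernel

/-- the lattice certificate of type E7 -/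
def latE7 : LatCert :=
  ⟨2, [-1, -1, -1, -1, -1, -1, -1], [0, 1, 0, 0, 1, 0, 1], [-34, -49, -66, -96, -75, -52, -27], [[2, 19, 3, 4, 20, 2, 18], [2, 28, 4, 6, 29, 3, 26], [3, 37, 6, 8, 39, 4, 35], [4, 54, 8, 12, 57, 6, 51], [3, 42, 6, 9, 45, 5, 40], [2, 29, 4, 6, 31, 4, 28], [1, 15, 2, 3, 16, 2, 15]]⟩

theorem latE7_ok : latE7.check chevE7 = true := by decide +kernel

/-- the roots of E6 among those of E7 -/
def ioE6 : List ℕ :=
  [6, 10, 13, 15, 16, 19, 21, 22, 24, 25, 26, 28, 29, 30, 31, 32, 35, 37, 38, 40, 41, 42, 44, 45, 46, 47, 49, 50, 51, 52, 54, 55, 56, 58, 59, 61, 64, 66, 67, 69, 70, 71, 73, 74, 75, 76, 78, 79, 80, 81, 83, 84, 85, 87, 88, 90, 93, 94, 95, 96, 97, 99, 100, 101, 103, 104, 106, 109, 110, 112, 115, 119]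

/-- the left inverse on the torus -/
def subE6 : List (List ℤ) :=
  [[-2, -1, -1, 0, 0, -2], [-4, -1, -2, 0, 0, -3], [-5, -2, -2, 0, 0, -4], [-8, -3, -4, 0, 0, -6], [-7, -3, -4, -1, 0, -5], [-6, -3, -4, -2, -1, -4], [-5, -3, -4, -3, -2, -4]]

theorem embE6_ok : embCheck chevE6 chevE7 E6.tab.w (E6.tab.cf chevE6) ioE6 = true := by
  decide +kernel

theorem subE6_ok : subCheck chevE6 chevE7 subE6 = true := by decide +kernel

/-- the roots of E7 among those of E8 -/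
def ioE7 : List ℕ :=
  [13, 20, 25, 29, 32, 34, 35, 39, 42, 44, 45, 48, 50, 51, 53, 54, 55, 58, 60, 61, 63, 64, 65, 67, 68, 69, 70, 72, 73, 74, 75, 76, 77, 80, 82, 83, 85, 86, 87, 89, 90, 91, 92, 94, 95, 96, 97, 98, 100, 101, 102, 103, 104, 106, 107, 108, 109, 111, 112, 113, 115, 116, 118, 121, 123, 124, 126, 127, 128, 130, 131, 132, 133, 135, 136, 137, 138, 139, 141, 142, 143, 144, 145, 147, 148, 149, 150, 152, 153, 154, 156, 157, 159, 162, 163, 164, 165, 166, 167, 169, 170, 171, 172, 174, 175, 176, 178, 179, 181, 184, 185, 186, 188, 189, 191, 194, 195, 197, 200, 204, 205, 207, 210, 214, 219, 226]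

/-- the left inverse on the torus -/
def subE7 : List (List ℤ) :=
  [[0, 1, 3, 6, 4, 2, 0], [-1, 2, 4, 9, 6, 3, 0], [-1, 2, 6, 12, 8, 4, 0], [-2, 3, 8, 18, 12, 6, 0], [-2, 2, 6, 14, 10, 5, 0], [-2, 1, 4, 10, 7, 4, 0], [-2, 0, 2, 6, 4, 2, 0], [-2, -1, 0, 2, 1, 0, -1]]

theorem embE7_ok : embCheck chevE7 chevE8 E7.tab.w (E7.tab.cf chevE7) ioE7 = true := by
  decide +kernel

theorem subE7_ok : subCheck chevE7 chevE8 subE7 = true := by decide +kernel

end Cfsg.Agent.H38.St
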