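/-
Commutators of lifts in a central extension.
-/
import Mathlib

set_option autoImplicit false

namespace Cfsg.Agent.H38.St

variable {P Δ : Type*} [Group P] [Group Δ]

/-- a central extension -/
structure CExt (P Δ : Type*) [Group P] [Group Δ] where
  p : P →* Δ
  surj : Function.Surjective p
  central : p.ker ≤ Subgroup.center P

namespace CExt

variable (X : CExt P Δ)

/-- a chosen lift -/
noncomputable def lift (x : Δ) : P := Function.surjInv X.surj x

theorem p_lift (x : Δ) : X.p (X.lift x) = x := Function.surjInv_eq X.surj x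

/-- the commutator of two lifts -/
noncomputable def cm (x y : Δ) : P := X.lift x * X.lift y * (X.lift x)⁻¹ * (X.lift y)⁻¹

theorem comm_ker {z : P} (hz : X.p z = 1) (g : P) : Commute z g :=
  (Subgroup.mem_center_iff.1 (X.central hz) g).symm

theorem eq_mul_ker {A B : P} (h : X.p A = X.p B) : ∃ z, X.p z = 1 ∧ A = B * z :=
  ⟨B⁻¹ * A, by rw [map_mul, map_inv, h, inv_mul_cancel], by group⟩

theorem cm_eq {A B : P} {x y : Δ} (ha : X.p A = x) (hb : X.p B = y) :
    X.cm x y = A * B * A⁻¹ * B⁻¹ := by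
  obtain ⟨z, hz, ez⟩ := X.eq_mul_ker (A := X.lift x) (B := A) (by rw [X.p_lift, ha])
  obtain ⟨w, hw, ew⟩ := X.eq_mul_ker (A := X.lift y) (B := B) (by rw [X.p_lift, hb])
  rw [cm, ez, ew, mul_inv_rev, mul_inv_rev]
  have c1 := (X.comm_ker hz (B * w)).eq
  have c2 := (X.comm_ker hw A⁻¹).eq
  calc A * z * (B * w) * (z⁻¹ * A⁻¹) * (w⁻¹ * B⁻¹)
      = A * (z * (B * w)) * (z⁻¹ * A⁻¹) * (w⁻¹ * B⁻¹) := by group
    _ = A * B * (w * A⁻¹) * (w⁻¹ * B⁻¹) := by rw [c1]; group
    _ = A * B * A⁻¹ * B⁻¹ := by rw [c2]; group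

theorem p_cm (x y : Δ) : X.p (X.cm x y) = x * y * x⁻¹ * y⁻¹ := by
  simp [cm, X.p_lift]

theorem p_cm_comm {x y : Δ} (h : Commute x y) : X.p (X.cm x y) = 1 := by
  rw [X.p_cm, h.eq]
  group

theorem cm_conj {G : P} {g : Δ} (hg : X.p G = g) (x y : Δ) :
    G * X.cm x y * G⁻¹ = X.cm (g * x * g⁻¹) (g * y * g⁻¹) := by
  rw [X.cm_eq (A := G * X.lift x * G⁻¹) (B := G * X.lift y * G⁻¹) (x := g * x * g⁻¹)
    (y := g * y * g⁻¹) (by simp [hg, X.p_lift]) (by simp [hg, X.p_lift]), cm]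
  group

theorem cm_inv (x y : Δ) : (X.cm x y)⁻¹ = X.cm y x := by simp [cm, mul_assoc]

theorem cm_mul_right {B : P} {x y y' : Δ} (hb : X.p B = y) :
    X.cm x (y * y') = X.cm x y * (B * X.cm x y' * B⁻¹) := by
  rw [X.cm_eq (A := X.lift x) (B := B * X.lift y') (X.p_lift x)
    (by rw [map_mul, hb, X.p_lift]), X.cm_eq (X.p_lift x) hb, cm]
  group

theorem cm_mul_right_comm {x y y' : Δ} (h : Commute x y') :
    X.cm x (y * y') = X.cm x y * X.cm x y' := by
  rw [X.cm_mul_right (X.p_lift y), ← (X.comm_ker (X.p_cm_comm h) _).eq]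
  group

theorem cm_mul_left_comm {x x' y : Δ} (h : Commute x y) (h' : Commute x' y) :
    X.cm (x * x') y = X.cm x y * X.cm x' y := by
  rw [← X.cm_inv, X.cm_mul_right_comm h'.symm, mul_inv_rev, X.cm_inv, X.cm_inv]
  exact (X.comm_ker (X.p_cm_comm h) _).eq.symm

theorem commute_of_cm {A B : P} {x y : Δ} (ha : X.p A = x) (hb : X.p B = y) (h : X.cm x y = 1) :
    Commute A B := by
  rw [X.cm_eq ha hb] at h
  exact mul_inv_eq_iff_eq_mul.1 (mul_inv_eq_one.1 h)

/-- lifts of a central element commute with commutators -/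
theorem comm_cm {E : P} {x y : Δ} (hE : X.p E ∈ Subgroup.center Δ) : Commute E (X.cm x y) := by
  have h1 : X.p E * x * (X.p E)⁻¹ = x := by rw [← Subgroup.mem_center_iff.1 hE x]; group
  have h2 : X.p E * y * (X.p E)⁻¹ = y := by rw [← Subgroup.mem_center_iff.1 hE y]; group
  have := X.cm_conj (G := E) rfl x y
  rw [h1, h2] at this
  exact mul_inv_eq_iff_eq_mul.1 this

end CExt

/-- fibre product of two homomorphisms -/
def fibre {Δ E G : Type*} [Group Δ] [Group E] [Group G] (σ : Δ →* G) (π : E →* G) :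
    Subgroup (Δ × E) :=
  (σ.comp (MonoidHom.fst Δ E)).eqLocus (π.comp (MonoidHom.snd Δ E))

theorem mem_fibre {Δ E G : Type*} [Group Δ] [Group E] [Group G] {σ : Δ →* G} {π : E →* G}
    {x : Δ × E} : x ∈ fibre σ π ↔ σ x.1 = π x.2 := Iff.rfl

/-- the pull-back of a central extension -/
def pullback {Δ E G : Type*} [Group Δ] [Group E] [Group G] (σ : Δ →* G) (π : E →* G)
    (hπ : Function.Surjective π) (hc : π.ker ≤ Subgroup.center E) : CExt (fibre σ π) Δ where
  p := (MonoidHom.fst Δ E).comp (fibre σ π).subtype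
  surj d := by
    obtain ⟨e, he⟩ := hπ (σ d)
    exact ⟨⟨(d, e), he.symm⟩, rfl⟩
  central := by
    rintro ⟨⟨d, e⟩, hmem⟩ hz
    obtain rfl : d = 1 := hz
    have he : e ∈ Subgroup.center E := hc (hmem.symm.trans (map_one σ))
    rw [Subgroup.mem_center_iff]
    rintro ⟨⟨d', e'⟩, -⟩
    exact Subtype.ext (Prod.ext (by simp) (Subgroup.mem_center_iff.1 he e'))

/-- a section of the pull-back gives a lift -/
theorem exists_lift_of_section {Δ E G : Type*} [Group Δ] [Group E] [Group G] (σ : Δ →* G)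
    (π : E →* G) (hπ : Function.Surjective π) (hc : π.ker ≤ Subgroup.center E)
    (h : ∃ s : Δ →* fibre σ π, ∀ d, (pullback σ π hπ hc).p (s d) = d) :
    ∃ τ : Δ →* E, π.comp τ = σ := by
  obtain ⟨s, hs⟩ := h
  refine ⟨((MonoidHom.snd Δ E).comp (fibre σ π).subtype).comp s, MonoidHom.ext fun d => ?_⟩
  calc π (s d).1.2 = σ (s d).1.1 := (s d).2.symm
    _ = σ d := congrArg σ (hs d)

end Cfsg.Agent.H38.St
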