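/-
Finite facts used for the universality of Steinberg's cover: enough torus elements and, for the
long roots of B2, a commutator decomposition.
-/
import Cfsg.Agent.H38.CT.Descent

set_option autoImplicit false

namespace Cfsg.Agent.H38.St

open Cfsg.Lie Cfsg.Lie.ChevalleyDatum Cfsg.Agent.Chevalley Cfsg.Agent.H38.CT

variable {D : ChevalleyDatum}

/-- a coroot is orthogonal to `r` and not to `s` -/
def Sep (D : ChevalleyDatum) (r s : ℕ) : Prop :=
  ∃ a < D.nroots, pairingSum D a r = 0 ∧ pairingSum D a s ≠ 0 ∧ (pairingSum D a s).natAbs ≤ 3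

/-- independent roots with empty commutator word -/
def Free (D : ChevalleyDatum) (r s : ℕ) : Prop :=
  s < D.nroots ∧ s ≠ r ∧ s ≠ D.neg r ∧ D.commTerms r s = []

/-- `r` is reached by a commutator of two roots which are free with `r`, all other terms free with `r` -/
def Reach (D : ChevalleyDatum) (r : ℕ) : Prop :=
  ∃ p q, p < D.nroots ∧ q < D.nroots ∧ q ≠ p ∧ q ≠ D.neg p ∧ Free D r p ∧ Free D r q ∧
    ∃ l₁ c l₂, D.commTerms p q = l₁ ++ c :: l₂ ∧ c.1 = r ∧ (c.2.1 = 1 ∨ c.2.1 = -1) ∧
      (c.2.2.1 = 1 ∨ c.2.2.2 = 1) ∧ (∀ d ∈ l₁, Free D r d.1) ∧ ∀ d ∈ l₂, Free D r d.1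

/-- the finite facts -/
structure LiftOK (D : ChevalleyDatum) : Prop where
  sep : ∀ r < D.nroots, ∀ s < D.nroots, s ≠ r → s ≠ D.neg r → Sep D r s
  move : ∀ r < D.nroots, ∃ i < D.rank, D.cartan i r ≠ 0 ∧ (D.cartan i r).natAbs ≤ 3
  self : ∀ r < D.nroots, (∃ i < D.rank, D.cartan i r = 1 ∨ D.cartan i r = -1) ∨ Reach D r

theorem sep_all (C : Cert D)
    (h : ∀ r < D.nroots, (∀ i < D.rank, ¬ r < C.w i r) → ∀ s < D.nroots, s ≠ r → s ≠ D.neg r →
      (∀ i < D.rank, C.w i r = r → ¬ s < C.w i s) → Sep D r s) :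
    ∀ r < D.nroots, ∀ s < D.nroots, s ≠ r → s ≠ D.neg r → Sep D r s := by
  have step : ∀ {i r s}, i < D.rank → r < D.nroots → s < D.nroots →
      Sep D (C.w i r) (C.w i s) → Sep D r s := by
    rintro i r s hi hr hs ⟨a, ha, e1, e2, e3⟩
    rw [← C.pairing_w hi ha hr] at e1
    rw [← C.pairing_w hi ha hs] at e2 e3
    exact ⟨C.w i a, (C.w_lt i hi a ha).1, e1, e2, e3⟩
  suffices ∀ m r s, (D.nroots - r) * (D.nroots + 1) + (D.nroots - s) ≤ m → r < D.nroots →
      s < D.nroots → s ≠ r → s ≠ D.neg r → Sep D r s from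
    fun r hr s hs h1 h2 => this _ r s le_rfl hr hs h1 h2
  intro m
  induction m with
  | zero =>
    intro r s hm hr hs
    have : 0 < (D.nroots - r) * (D.nroots + 1) := Nat.mul_pos (by omega) (by omega)
    omega
  | succ m ih =>
    intro r s hm hr hs h1 h2
    have hneg : ∀ {i}, i < D.rank → C.w i s ≠ C.w i r ∧ C.w i s ≠ D.neg (C.w i r) := fun {i} hi =>
      ⟨fun e => h1 (C.w_inj hi hs hr e),
        fun e => h2 (C.w_inj hi hs (C.neg_lt hr) (by rw [C.w_neg hi hr]; exact e))⟩
    by_cases htop : ∀ i < D.rank, ¬ r < C.w i r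
    · by_cases hstab : ∀ i < D.rank, C.w i r = r → ¬ s < C.w i s
      · exact h r hr htop s hs h1 h2 hstab
      · push Not at hstab
        obtain ⟨i, hi, hri, hsi⟩ := hstab
        have hws := C.w_lt i hi s hs
        refine step hi hr hs (ih _ _ ?_ (C.w_lt i hi r hr).1 hws.1 (hneg hi).1 (hneg hi).2)
        rw [hri]
        omega
    · push Not at htop
      obtain ⟨i, hi, hlt⟩ := htop
      have hwr := C.w_lt i hi r hr
      refine step hi hr hs (ih _ _ ?_ hwr.1 (C.w_lt i hi s hs).1 (hneg hi).1 (hneg hi).2)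
      have : (D.nroots - C.w i r) * (D.nroots + 1) + (D.nroots + 1) ≤
          (D.nroots - r) * (D.nroots + 1) := by
        rw [← Nat.succ_mul]
        exact Nat.mul_le_mul_right _ (by omega)
      omega

/-- `2 (r, s) / (r, r)` as a list sum -/
def pairL (D : ChevalleyDatum) (r s : ℕ) : ℤ :=
  ((List.range D.rank).map fun m => cor D r m * D.cartan m s).sum

theorem pairL_eq (D : ChevalleyDatum) (r s : ℕ) : pairL D r s = pairingSum D r s :=
  list_sum_range_map _ _

def freeB (D : ChevalleyDatum) (r s : ℕ) : Bool :=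
  decide (s < D.nroots) && !(s == r) && !(s == D.neg r) && (D.commTerms r s).isEmpty

def reachB (D : ChevalleyDatum) (r : ℕ) : Bool :=
  (List.range D.nroots).any fun p => freeB D r p && (List.range D.nroots).any fun q =>
    freeB D r q && !(q == p) && !(q == D.neg p) &&
    let L := D.commTerms p q
    (List.range L.length).any fun k =>
      let c := L.getD k (0, 0, 0, 0)
      (c.1 == r) && ((c.2.1 == 1) || (c.2.1 == -1)) && ((c.2.2.1 == 1) || (c.2.2.2 == 1)) &&
        (L.take k).all (fun d => freeB D r d.1) && (L.drop (k + 1)).all fun d => freeB D r d.1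

def chkMove (D : ChevalleyDatum) : Bool :=
  (List.range D.nroots).all fun r => (List.range D.rank).any fun i =>
    !(D.cartan i r == 0) && decide ((D.cartan i r).natAbs ≤ 3)

def chkSelf (D : ChevalleyDatum) : Bool :=
  (List.range D.nroots).all fun r =>
    ((List.range D.rank).any fun i => (D.cartan i r == 1) || (D.cartan i r == -1)) || reachB D r

def chkSep (D : ChevalleyDatum) (w : ℕ → ℕ → ℕ) : Bool :=
  (List.range D.nroots).all fun r =>
    ((List.range D.rank).any fun i => decide (r < w i r)) ||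
    (List.range D.nroots).all fun s => (s == r) || (s == D.neg r) ||
      ((List.range D.rank).any fun i => (w i r == r) && decide (s < w i s)) ||
      ((List.range D.nroots).any fun a => (pairL D a r == 0) && !(pairL D a s == 0) &&
        decide ((pairL D a s).natAbs ≤ 3))

theorem free_of_b {r s : ℕ} (h : freeB D r s = true) : Free D r s := by
  simp only [freeB, Bool.and_eq_true, decide_eq_true_eq, Bool.not_eq_true', beq_eq_false_iff_ne,
    List.isEmpty_iff] at h
  exact ⟨h.1.1.1, h.1.1.2, h.1.2, h.2⟩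

theorem reach_of_b {r : ℕ} (h : reachB D r = true) : Reach D r := by
  simp only [reachB, List.any_eq_true, List.mem_range, Bool.and_eq_true, Bool.or_eq_true,
    Bool.not_eq_true', beq_eq_false_iff_ne, beq_iff_eq, List.all_eq_true] at h
  obtain ⟨p, hp, hfp, q, hq, ⟨⟨hfq, h1⟩, h2⟩, k, hk, ⟨⟨⟨hc, hC⟩, hij⟩, hl⟩, hr⟩ := h
  refine ⟨p, q, hp, hq, h1, h2, free_of_b hfp, free_of_b hfq, _, _, _, ?_, hc, hC, hij,
    fun d hd => free_of_b (hl d hd), fun d hd => free_of_b (hr d hd)⟩
  rw [List.getD_eq_getElem _ _ hk]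
  rw [← List.drop_eq_getElem_cons hk, List.take_append_drop]

theorem liftOK_of_check (C : Cert D) {w : ℕ → ℕ → ℕ} (hw : C.w = w) (h1 : chkMove D = true)
    (h2 : chkSelf D = true) (h3 : chkSep D w = true) : LiftOK D := by
  subst hw
  refine ⟨sep_all C fun r hr htop s hs a b hstab => ?_, fun r hr => ?_, fun r hr => ?_⟩
  · simp only [chkSep, List.all_eq_true, List.mem_range, List.any_eq_true, Bool.or_eq_true,
      Bool.and_eq_true, Bool.not_eq_true', beq_eq_false_iff_ne, beq_iff_eq, decide_eq_true_eq,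
      pairL_eq] at h3
    rcases h3 r hr with ⟨i, hi, h⟩ | h
    · exact absurd h (htop i hi)
    rcases h s hs with ((e | e) | ⟨i, hi, e1, e2⟩) | ⟨c, hc, ⟨e1, e2⟩, e3⟩
    · exact absurd e a
    · exact absurd e b
    · exact absurd e2 (hstab i hi e1)
    · exact ⟨c, hc, e1, e2, e3⟩
  · simp only [chkMove, List.all_eq_true, List.mem_range, List.any_eq_true, Bool.and_eq_true,
      Bool.not_eq_true', beq_eq_false_iff_ne, decide_eq_true_eq] at h1
    exact h1 r hr
  · simp only [chkSelf, List.all_eq_true, List.mem_range, List.any_eq_true, Bool.or_eq_true,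
      beq_iff_eq] at h2
    exact (h2 r hr).imp id reach_of_b

end Cfsg.Agent.H38.St
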