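/-
Every central extension of Steinberg's cover splits over a field with more than four elements:
Steinberg's lifting of the root elements by commutators with torus elements.
-/
import Cfsg.Agent.H38.St.LiftCert
import Cfsg.Agent.H38.St.CExt
import Cfsg.Agent.H38.St.Groups

set_option autoImplicit false

namespace Cfsg.Agent.H38.St

open Cfsg.Lie Cfsg.Lie.ChevalleyDatum Cfsg.Agent.Chevalley Cfsg.Agent.H38.CT

variable {D : ChevalleyDatum} {K : Type*} [Field K]

theorem exists_unit_zpow (hK : ∃ s : Finset K, 4 < s.card) {k : ℤ} (h0 : k ≠ 0)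
    (h3 : k.natAbs ≤ 3) : ∃ c : Kˣ, c ^ k ≠ 1 := by
  classical
  obtain ⟨s, hs⟩ := hK
  by_contra h
  push Not at h
  have hn : 0 < k.natAbs := Int.natAbs_pos.2 h0
  have hsub : s ⊆ insert 0 (Polynomial.nthRoots k.natAbs (1 : K)).toFinset := by
    intro x _
    by_cases hx : x = 0
    · simp [hx]
    · refine Finset.mem_insert_of_mem (Multiset.mem_toFinset.2 ((Polynomial.mem_nthRoots hn).2 ?_))
      have := pow_natAbs_eq_one.2 (h (Units.mk0 x hx))
      simpa using congrArg Units.val this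
  have h1 := Finset.card_le_card hsub
  have h2 := Finset.card_insert_le 0 (Polynomial.nthRoots k.natAbs (1 : K)).toFinset
  have h4 := Multiset.toFinset_card_le (Polynomial.nthRoots k.natAbs (1 : K))
  have h5 := Polynomial.card_nthRoots k.natAbs (1 : K)
  omega

theorem exists_unit_quad (hK : ∃ s : Finset K, 4 < s.card) :
    ∃ c : K, c ≠ 0 ∧ 1 - c ≠ 0 ∧ c * c - c + 1 ≠ 0 := by
  classical
  obtain ⟨s, hs⟩ := hK
  by_contra h
  push Not at h
  have h2 : 2 < ((s.erase 0).erase 1).card := by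
    have := Finset.pred_card_le_card_erase (s := s) (a := (0 : K))
    have := Finset.pred_card_le_card_erase (s := s.erase 0) (a := (1 : K))
    omega
  obtain ⟨a, b, d, ha, hb, hd, hab, had, hbd⟩ := Finset.two_lt_card_iff.1 h2
  have key : ∀ x ∈ (s.erase 0).erase 1, x * x - x + 1 = 0 := fun x hx => by
    simp only [Finset.mem_erase] at hx
    exact h x hx.2.1 (sub_ne_zero.2 (Ne.symm hx.1))
  have e1 : a + b - 1 = 0 := by
    have : (a - b) * (a + b - 1) = 0 := by linear_combination key a ha - key b hb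
    exact (mul_eq_zero.1 this).resolve_left (sub_ne_zero.2 hab)
  have e2 : a + d - 1 = 0 := by
    have : (a - d) * (a + d - 1) = 0 := by linear_combination key a ha - key d hd
    exact (mul_eq_zero.1 this).resolve_left (sub_ne_zero.2 had)
  exact hbd (by linear_combination e1 - e2)

/-- `g` scales every root element -/
def Scl (D : ChevalleyDatum) (g : D.SteinbergCover K) (e : ℕ → Kˣ) : Prop :=
  ∀ r < D.nroots, ∀ u : K, g * D.scGen K r u * g⁻¹ = D.scGen K r ((e r : K) * u)

theorem scl_one : Scl D (1 : D.SteinbergCover K) fun _ => 1 := fun r _ u => by simp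

theorem scl_mul {g h : D.SteinbergCover K} {e e' : ℕ → Kˣ} (hg : Scl D g e) (hh : Scl D h e') :
    Scl D (g * h) fun r => e r * e' r := fun r hr u => by
  rw [show g * h * D.scGen K r u * (g * h)⁻¹ = g * (h * D.scGen K r u * h⁻¹) * g⁻¹ by group,
    hh r hr, hg r hr, Units.val_mul, mul_assoc]

/-- scaling elements commute modulo the centre -/
theorem scl_comm {g h : D.SteinbergCover K} {e e' : ℕ → Kˣ} (hg : Scl D g e) (hh : Scl D h e') :
    ∃ z ∈ Subgroup.center (D.SteinbergCover K), g * h * g⁻¹ = h * z := by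
  set z := (h * g)⁻¹ * (g * h)
  have key : ∀ r < D.nroots, ∀ u, Commute z (D.scGen K r u) := by
    intro r hr u
    have e1 := scl_mul hg hh r hr u
    have e2 := scl_mul hh hg r hr u
    dsimp only at e1 e2
    rw [mul_comm (e r)] at e1
    have e3 := e1.trans e2.symm
    set x := D.scGen K r u
    refine mul_inv_eq_iff_eq_mul.1 ?_
    calc z * x * z⁻¹ = (h * g)⁻¹ * (g * h * x * (g * h)⁻¹) * (h * g) := by simp only [z]; group
      _ = x := by rw [e3]; group
  have hgen := sc_gen (Subgroup.centralizer {z}) fun r hr u =>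
    Subgroup.mem_centralizer_singleton_iff.2 (key r hr u).eq.symm
  have hz : z ∈ Subgroup.center (D.SteinbergCover K) := by
    rw [Subgroup.mem_center_iff]
    intro x
    exact Subgroup.mem_centralizer_singleton_iff.1 (hgen ▸ Subgroup.mem_top x)
  refine ⟨z, hz, ?_⟩
  calc g * h * g⁻¹ = h * (g * z) * g⁻¹ := by simp only [z]; group
    _ = h * z := by rw [Subgroup.mem_center_iff.1 hz g]; group

theorem sc_comm_eq_one {r s : ℕ} (hr : r < D.nroots) (h : Free D r s) (t u : K) :
    Commute (D.scGen K r t) (D.scGen K s u) := by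
  have e := sc_comm (F := K) hr h.1 h.2.1 h.2.2.1 t u
  rw [commWord, h.2.2.2, List.map_nil, List.map_nil, List.prod_nil, mul_assoc, mul_assoc,
    inv_mul_eq_one, eq_comm] at e
  exact (inv_mul_eq_iff_eq_mul.1 e).symm

theorem sc_same_comm {r : ℕ} (hr : r < D.nroots) (t u : K) :
    Commute (D.scGen K r t) (D.scGen K r u) := by
  show _ = _
  rw [sc_add hr, sc_add hr, add_comm]

section Torus

variable (C : Cert D) (hA : Adj D)
include C hA

theorem scl_hS {i : ℕ} (hi : i < D.rank) (c : Kˣ) :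
    Scl D ((scFull C hA (F := K)).hS i c) fun r => c ^ D.cartan i r := fun r hr u => by
  rw [Units.val_zpow_eq_zpow_val]
  exact (scFull C hA (F := K)).hS_conj hi hr c.ne_zero u

/-- torus elements of arbitrary coroots -/
theorem exists_torus (a : ℕ) (c : Kˣ) :
    ∃ g, Scl D g fun r => c ^ pairingSum D a r := by
  have : ∀ L : List ℕ, (∀ i ∈ L, i < D.rank) →
      ∃ g, Scl (K := K) D g fun r => c ^ (L.map fun m => cor D a m * D.cartan m r).sum := by
    intro L
    induction L with
    | nil => exact fun _ => ⟨1, by simpa using scl_one (D := D) (K := K)⟩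
    | cons i L ih =>
      intro hL
      obtain ⟨g, hg⟩ := ih fun k hk => hL k (by simp [hk])
      refine ⟨(scFull C hA (F := K)).hS i (c ^ cor D a i : Kˣ) * g, fun r hr u => ?_⟩
      rw [scl_mul (scl_hS C hA (hL i (by simp)) (c ^ cor D a i)) hg r hr u]
      simp only [List.map_cons, List.sum_cons, zpow_add, zpow_mul]
  obtain ⟨g, hg⟩ := this (List.range D.rank) fun i hi => List.mem_range.1 hi
  refine ⟨g, fun r hr u => ?_⟩
  rw [hg r hr u]
  dsimp only
  rw [list_sum_range_map]
  rfl

theorem exists_scaler (hK : ∃ s : Finset K, 4 < s.card) (hL : LiftOK D) {r : ℕ}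
    (hr : r < D.nroots) : ∃ g e, Scl (K := K) D g e ∧ (e r : K) ≠ 1 := by
  obtain ⟨i, hi, h0, h3⟩ := hL.move r hr
  obtain ⟨c, hc⟩ := exists_unit_zpow hK h0 h3
  exact ⟨_, _, scl_hS C hA hi c, fun e => hc (Units.ext e)⟩

end Torus

section Combos

variable (C : Cert D)

include C in
theorem pairing_self {r : ℕ} (hr : r < D.nroots) : pairingSum D r r = 2 := by
  refine C.root_induction (P := fun r => pairingSum D r r = 2)
    (fun i hi => by rw [C.pairing_simple hi, C.cartan_self i hi]) (fun i hi s hs h => ?_) r hr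
  rw [C.pairing_w hi hs (C.w_lt i hi s hs).1, (C.w_lt i hi s hs).2, h]

theorem pairing_lev (a : ℕ) {r : ℕ} (hr : r < D.nroots) :
    pairingSum D a r = lev C (fun j => pairingSum D a (D.simple j)) r := by
  have := C.pe_eq (r := a) (Sum.inr ⟨r, hr⟩ : D.Idx)
  simp only [Cert.cfI_inr] at this
  rw [show pairingSum D a r = pe a (Sum.inr ⟨r, hr⟩ : D.Idx) from rfl, this, lev]
  exact Finset.sum_congr rfl fun j _ => mul_comm _ _

/-- `u` is a positive combination of `r` and `s` -/
def Pc (r s u : ℕ) : Prop :=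
  u < D.nroots ∧ ∃ i j : ℕ, 0 < i ∧ 0 < j ∧
    ∀ k < D.rank, C.cf u k = (i : ℤ) * C.cf r k + (j : ℤ) * C.cf s k

open Classical in
/-- the set of these -/
noncomputable def combos (r s : ℕ) : Finset ℕ := (Finset.range D.nroots).filter (Pc C r s)

theorem mem_combos {r s u : ℕ} : u ∈ combos C r s ↔ Pc C r s u := by
  classical
  simp only [combos, Finset.mem_filter, Finset.mem_range]
  exact ⟨fun h => h.2, fun h => ⟨h.1, h⟩⟩

include C in
theorem commTerms_self {r : ℕ} {c : ℕ × ℤ × ℕ × ℕ} : c ∉ D.commTerms r r := by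
  have h : D.chainEntry r r = [] := by
    unfold chainEntry
    cases hf : (D.chain.getD r #[]).toList.find? (fun e => e.1 = r) with
    | none => rfl
    | some e =>
      have h1 : e.1 = r := by simpa using List.find?_some hf
      exact absurd h1 (C.entry_lt r e (List.mem_of_find?_eq_some hf)).2.1
  simp [commTerms, chainRoot, h]

end Combos

/-- a choice of a scaling element for every root -/
structure Scaler (D : ChevalleyDatum) (K : Type*) [Field K] where
  g : ℕ → D.SteinbergCover K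
  e : ℕ → ℕ → Kˣ
  scl : ∀ r < D.nroots, Scl D (g r) (e r)
  ne : ∀ r < D.nroots, (e r r : K) ≠ 1

theorem exists_scalers (C : Cert D) (hA : Adj D) (hK : ∃ s : Finset K, 4 < s.card)
    (hL : LiftOK D) : Nonempty (Scaler D K) := by
  classical
  choose g e hg he using fun r : {r // r < D.nroots} => exists_scaler C hA hK hL r.2
  refine ⟨⟨fun r => if h : r < D.nroots then g ⟨r, h⟩ else 1,
    fun r => if h : r < D.nroots then e ⟨r, h⟩ else fun _ => 1,
    fun r hr => ?_, fun r hr => ?_⟩⟩
  · simp only [dif_pos hr]; exact hg ⟨r, hr⟩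
  · simp only [dif_pos hr]; exact he ⟨r, hr⟩

namespace Scaler

variable (T : Scaler D K) {P : Type*} [Group P] (X : CExt P (D.SteinbergCover K))

/-- Steinberg's lift of a root element -/
noncomputable def Z (r : ℕ) (t : K) : P :=
  X.cm (T.g r) (D.scGen K r (t / ((T.e r r : K) - 1)))

theorem p_Z {r : ℕ} (hr : r < D.nroots) (t : K) : X.p (T.Z X r t) = D.scGen K r t := by
  have hne : (T.e r r : K) - 1 ≠ 0 := sub_ne_zero.2 (T.ne r hr)
  rw [Z, X.p_cm, T.scl r hr r hr, mul_inv_eq_iff_eq_mul, sc_add hr]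
  congr 1
  field_simp
  ring

theorem conj_Z {G : P} {g : D.SteinbergCover K} {e : ℕ → Kˣ} (hG : X.p G = g) (hg : Scl D g e)
    {r : ℕ} (hr : r < D.nroots) (t : K) : G * T.Z X r t * G⁻¹ = T.Z X r ((e r : K) * t) := by
  obtain ⟨z, hz, e1⟩ := scl_comm hg (T.scl r hr)
  rw [Z, X.cm_conj hG, e1, hg r hr, ← mul_div_assoc]
  set w : K := (e r : K) * t / ((T.e r r : K) - 1)
  have hne : (T.e r r : K) - 1 ≠ 0 := sub_ne_zero.2 (T.ne r hr)
  have hco : Commute (X.lift z) (T.Z X r w) := by
    rw [Z]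
    exact X.comm_cm (by rw [X.p_lift]; exact hz)
  rw [X.cm_eq (A := X.lift (T.g r) * X.lift z) (B := T.Z X r w) (by simp [X.p_lift])
    (T.p_Z X hr w)]
  show _ = T.Z X r _
  rw [show T.Z X r ((e r : K) * t) = X.cm (T.g r) (D.scGen K r w) from rfl,
    X.cm_eq (A := X.lift (T.g r)) (B := T.Z X r w) (X.p_lift _) (T.p_Z X hr w), mul_inv_rev]
  calc X.lift (T.g r) * X.lift z * T.Z X r w * ((X.lift z)⁻¹ * (X.lift (T.g r))⁻¹) * (T.Z X r w)⁻¹
      = X.lift (T.g r) * (X.lift z * T.Z X r w * (X.lift z)⁻¹) * (X.lift (T.g r))⁻¹ *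
          (T.Z X r w)⁻¹ := by group
    _ = _ := by rw [hco.eq, mul_inv_cancel_right]

section Main

variable (C : Cert D) (hA : Adj D) (hK : ∃ s : Finset K, 4 < s.card) (hL : LiftOK D)
include C hA hK hL

/-- lifts of free root elements commute -/
theorem cm_free {r s : ℕ} (hr : r < D.nroots) (h : Free D r s) (t u : K) :
    X.cm (D.scGen K r t) (D.scGen K s u) = 1 := by
  obtain ⟨a, ha, e0, hm, h3⟩ := hL.sep r hr s h.1 h.2.1 h.2.2.1
  obtain ⟨c, hc⟩ := exists_unit_zpow hK hm h3
  obtain ⟨g, hg⟩ := exists_torus C hA a c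
  set φ : K → P := fun u => X.cm (D.scGen K r t) (D.scGen K s u)
  have hadd : ∀ u v, φ (u + v) = φ u * φ v := fun u v => by
    simp only [φ]
    rw [← sc_add h.1, X.cm_mul_right_comm (sc_comm_eq_one hr h t v)]
  have hinv : ∀ u, φ ((c ^ pairingSum D a s : Kˣ) * u) = φ u := fun u => by
    have e := X.cm_conj (X.p_lift g) (D.scGen K r t) (D.scGen K s u)
    rw [hg r hr, hg s h.1] at e
    dsimp only at e
    rw [e0, zpow_zero, Units.val_one, one_mul] at e
    simp only [φ]
    rw [← e, ← (X.comm_ker (X.p_cm_comm (sc_comm_eq_one hr h t u)) (X.lift g)).eq,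
      mul_inv_cancel_right]
  set b : K := ((c ^ pairingSum D a s : Kˣ) : K)
  have hb : b - 1 ≠ 0 := sub_ne_zero.2 fun e => hc (Units.ext e)
  have key := hinv (u / (b - 1))
  rw [show b * (u / (b - 1)) = u + u / (b - 1) by field_simp; ring, hadd] at key
  exact mul_eq_right.1 key

include T in
/-- lifts of elements of one root group commute -/
theorem cm_self {r : ℕ} (hr : r < D.nroots) (t u : K) :
    X.cm (D.scGen K r t) (D.scGen K r u) = 1 := by
  rcases hL.self r hr with ⟨i, hi, hpm⟩ | ⟨p, q, hp, hq, h1, h2, hfp, hfq, l₁, d, l₂, hl, hd, hC,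
      hij, hl₁, hl₂⟩
  · set φ : K → K → P := fun t u => X.cm (D.scGen K r t) (D.scGen K r u)
    have a2 : ∀ t u v, φ t (u + v) = φ t u * φ t v := fun t u v => by
      simp only [φ]
      rw [← sc_add hr, X.cm_mul_right_comm (sc_same_comm hr t v)]
    have a1 : ∀ t t' u, φ (t + t') u = φ t u * φ t' u := fun t t' u => by
      simp only [φ]
      rw [← sc_add hr, X.cm_mul_left_comm (sc_same_comm hr t u) (sc_same_comm hr t' u)]
    have hmul : ∀ (a : K), a ≠ 0 → ∀ t u, φ (a * t) (a * u) = φ t u := by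
      intro a ha t u
      obtain ⟨c, hc⟩ : ∃ c : Kˣ, ((c ^ D.cartan i r : Kˣ) : K) = a := by
        rcases hpm with e | e
        · exact ⟨Units.mk0 a ha, by rw [e, zpow_one]; rfl⟩
        · exact ⟨(Units.mk0 a ha)⁻¹, by rw [e, zpow_neg, zpow_one, inv_inv]; rfl⟩
      have e := X.cm_conj (X.p_lift ((scFull C hA (F := K)).hS i c)) (D.scGen K r t) (D.scGen K r u)
      rw [scl_hS C hA hi c r hr, scl_hS C hA hi c r hr, hc] at e
      simp only [φ]
      rw [← e, ← (X.comm_ker (X.p_cm_comm (sc_same_comm hr t u)) _).eq, mul_inv_cancel_right]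
    obtain ⟨c, c0, c1, c2⟩ := exists_unit_quad hK
    have key : ∀ t u, φ (((1 - c) / c + c / (1 - c) + 1) * t) u = 1 := by
      intro t u
      have e := a1 ((1 - c) * t) (c * t) ((1 - c) * u + c * u)
      rw [a2 ((1 - c) * t), a2 (c * t), show (1 - c) * t + c * t = t by ring, show (1 - c) * u + c * u = u by ring,
        hmul _ c1, hmul _ c0, mul_assoc, left_eq_mul] at e
      rw [add_mul, add_mul, one_mul, a1, a1, ← hmul c c0 ((1 - c) / c * t) u,
        ← hmul (1 - c) c1 (c / (1 - c) * t) u, ← mul_assoc c, mul_div_cancel₀ _ c0,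
        ← mul_assoc (1 - c), mul_div_cancel₀ _ c1, mul_assoc]
      exact e
    have hk : (1 - c) / c + c / (1 - c) + 1 ≠ 0 := by
      rw [div_add_div _ _ c0 c1, div_add_one (mul_ne_zero c0 c1)]
      refine div_ne_zero (fun e => c2 ?_) (mul_ne_zero c0 c1)
      linear_combination e
    have := key (t / ((1 - c) / c + c / (1 - c) + 1)) u
    rwa [mul_div_cancel₀ _ hk] at this
  · -- `r` occurs in the commutator of two root groups commuting with it
    obtain ⟨v, w, hvw⟩ : ∃ v w : K, (d.2.1 : K) * (-v) ^ d.2.2.1 * w ^ d.2.2.2 = u := by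
      have hCC : (d.2.1 : K) * (d.2.1 : K) = 1 := by rcases hC with e | e <;> simp [e]
      rcases hij with e | e
      · refine ⟨-((d.2.1 : K) * u), 1, ?_⟩
        rw [e, pow_one, one_pow, mul_one, _root_.neg_neg, ← mul_assoc, hCC, one_mul]
      · refine ⟨-1, (d.2.1 : K) * u, ?_⟩
        rw [e, pow_one, _root_.neg_neg, one_pow, mul_one, ← mul_assoc, hCC, one_mul]
    have hsub : ∀ c ∈ D.commTerms p q, c.1 < D.nroots := fun c hc => (C.commTerms_cf hc).1.1
    set A := T.Z X r t
    set Y₁ := X.lift (D.scGen K q w)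
    set Y₂ := X.lift (D.scGen K p v)
    have hA1 : Commute A Y₁ := X.commute_of_cm (T.p_Z X hr t) (X.p_lift _)
      (cm_free X C hA hK hL hr hfq t w)
    have hA2 : Commute A Y₂ := X.commute_of_cm (T.p_Z X hr t) (X.p_lift _)
      (cm_free X C hA hK hL hr hfp t v)
    set M := ((D.commWord K p q v w).map fun x => T.Z X x.1 x.2).prod
    have hM : X.p (Y₁⁻¹ * Y₂⁻¹ * Y₁ * Y₂) = X.p M := by
      simp only [map_mul, map_inv, Y₁, Y₂, X.p_lift, sc_comm hp hq h1 h2, M, map_list_prod,
        List.map_map]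
      congr 1
      refine List.map_congr_left fun x hx => ?_
      simp only [commWord, List.mem_map] at hx
      obtain ⟨c, hc, rfl⟩ := hx
      exact (T.p_Z X (hsub c hc) _).symm
    obtain ⟨z, hz, ez⟩ := X.eq_mul_ker hM
    have hAM : Commute A M := by
      have h0 := ((hA1.inv_right.mul_right hA2.inv_right).mul_right hA1).mul_right hA2
      rw [ez] at h0
      have := h0.mul_right ((X.comm_ker (z := z⁻¹) (by rw [map_inv, hz, inv_one]) A).symm)
      rwa [mul_assoc, mul_inv_cancel, mul_one] at this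
    have hside : ∀ l : List (ℕ × ℤ × ℕ × ℕ), (∀ c ∈ l, Free D r c.1) →
        Commute A ((l.map fun c => T.Z X c.1 ((c.2.1 : K) * (-v) ^ c.2.2.1 * w ^ c.2.2.2)).prod) := by
      intro l h
      refine Commute.list_prod_right _ _ fun x hx => ?_
      simp only [List.mem_map] at hx
      obtain ⟨c, hc, rfl⟩ := hx
      exact X.commute_of_cm (T.p_Z X hr t) (T.p_Z X (h c hc).1 _)
        (cm_free X C hA hK hL hr (h c hc) t _)
    simp only [M, commWord, hl, List.map_append, List.map_cons, List.map_map, Function.comp_def,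
      List.prod_append, List.prod_cons, hvw, hd] at hAM
    have hZ : Commute A (T.Z X r u) := by
      have := ((hside l₁ hl₁).inv_right.mul_right hAM).mul_right (hside l₂ hl₂).inv_right
      rwa [inv_mul_cancel_left, mul_inv_cancel_right] at this
    rw [X.cm_eq (T.p_Z X hr t) (T.p_Z X hr u)]
    show A * _ * A⁻¹ * _ = 1
    rw [hZ.eq]
    group

/-- (R1) -/
theorem Z_add {r : ℕ} (hr : r < D.nroots) (t u : K) :
    T.Z X r t * T.Z X r u = T.Z X r (t + u) := by
  have hne : (T.e r r : K) - 1 ≠ 0 := sub_ne_zero.2 (T.ne r hr)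
  rw [show T.Z X r (t + u) = X.cm (T.g r) (D.scGen K r (t / ((T.e r r : K) - 1)) *
      D.scGen K r (u / ((T.e r r : K) - 1))) by rw [Z, sc_add hr, ← add_div],
    X.cm_mul_right (X.p_lift _)]
  have hco : Commute (X.lift (D.scGen K r (t / ((T.e r r : K) - 1)))) (T.Z X r u) :=
    X.commute_of_cm (X.p_lift _) (T.p_Z X hr u) (cm_self T X C hA hK hL hr _ _)
  show _ = T.Z X r t * (_ * T.Z X r u * _)
  rw [hco.eq, mul_inv_cancel_right]

/-- (R2) -/
theorem Z_comm {r s : ℕ} (hr : r < D.nroots) (hs : s < D.nroots) (h1 : s ≠ r) (h2 : s ≠ D.neg r)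
    (t u : K) : (T.Z X s u)⁻¹ * (T.Z X r t)⁻¹ * T.Z X s u * T.Z X r t =
      ((D.commWord K r s t u).map fun x => T.Z X x.1 x.2).prod := by
  suffices ∀ n r s, (combos C r s).card = n → r < D.nroots → s < D.nroots → s ≠ r → s ≠ D.neg r →
      ∀ t u : K, (T.Z X s u)⁻¹ * (T.Z X r t)⁻¹ * T.Z X s u * T.Z X r t =
        ((D.commWord K r s t u).map fun x => T.Z X x.1 x.2).prod from
    this _ r s rfl hr hs h1 h2 t u
  clear h2 h1 hs hr t u r s
  intro n
  induction n using Nat.strong_induction_on with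
  | _ n ih =>
  intro r s hn hr hs h1 h2 t u
  obtain ⟨a, ha, e0, hm, h3⟩ := hL.sep r hr s hs h1 h2
  -- a functional positive on both roots
  set m := pairingSum D a s
  set N : ℤ := m * (|pairingSum D r s| + 1)
  set lam : ℕ → ℤ := fun j => pairingSum D r (D.simple j) + N * pairingSum D a (D.simple j)
  have hlev : ∀ {x}, x < D.nroots → lev C lam x = pairingSum D r x + N * pairingSum D a x := by
    intro x hx
    rw [pairing_lev C r hx, pairing_lev C a hx]
    simp only [lev, lam, add_mul, Finset.sum_add_distrib, Finset.mul_sum, mul_assoc]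
  have hlr : 0 < lev C lam r := by
    rw [hlev hr, e0, pairing_self C hr]
    norm_num
  have hls : 0 < lev C lam s := by
    rw [hlev hs]
    have h1 : 1 ≤ m * m := by nlinarith [mul_self_pos.2 hm]
    have h2 := neg_abs_le (pairingSum D r s)
    have h3 : (|pairingSum D r s| + 1) * 1 ≤ (|pairingSum D r s| + 1) * (m * m) :=
      mul_le_mul_of_nonneg_left h1 (by positivity)
    have h4 : N * pairingSum D a s = (|pairingSum D r s| + 1) * (m * m) := by ring
    linarith
  -- the smaller pairs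
  set Sub : ℕ → Prop := fun x => x = s ∨ x ∈ combos C r s
  have hcoef : ∀ {x}, Sub x → x < D.nroots ∧ ∃ i j : ℕ, 0 < j ∧ (i = 0 → x = s) ∧
      ∀ k < D.rank, C.cf x k = (i : ℤ) * C.cf r k + (j : ℤ) * C.cf s k := by
    intro x hx
    rcases hx with e | h
    · exact ⟨e ▸ hs, 0, 1, one_pos, fun _ => e, fun k _ => by subst e; simp⟩
    · obtain ⟨hx', i, j, hi, hj, h⟩ := (mem_combos C).1 h
      exact ⟨hx', i, j, hj, fun e => absurd e hi.ne', h⟩
  have hpos : ∀ {x}, Sub x → 0 < lev C lam x := by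
    intro x hx
    obtain ⟨-, i, j, hj, -, h⟩ := hcoef hx
    rw [lev_comb C lam h]
    have e1 : 0 ≤ (i : ℤ) * lev C lam r := by positivity
    have e2 : 0 < (j : ℤ) * lev C lam s := mul_pos (by exact_mod_cast hj) hls
    omega
  have hsub : ∀ {q k x}, Sub q → Sub k → q ≠ k → Pc C q k x → x ∈ combos C r s := by
    rintro q k x hq hk hne ⟨hx, b, c, hb, hc, h⟩
    obtain ⟨-, i, j, hj, hi0, e⟩ := hcoef hq
    obtain ⟨-, i', j', hj', hi0', e'⟩ := hcoef hk
    refine (mem_combos C).2 ⟨hx, b * i + c * i', b * j + c * j', ?_, ?_, fun l hl => ?_⟩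
    · rcases Nat.eq_zero_or_pos i with h | h
      · rcases Nat.eq_zero_or_pos i' with h' | h'
        · exact absurd ((hi0 h).trans (hi0' h').symm) hne
        · exact Nat.add_pos_right _ (Nat.mul_pos hc h')
      · exact Nat.add_pos_left (Nat.mul_pos hb h) _
    · exact Nat.add_pos_left (Nat.mul_pos hb hj) _
    · rw [h l hl, e l hl, e' l hl]
      push_cast
      ring
  have hlt : ∀ {q k}, Sub q → Sub k → q ≠ k → (combos C q k).card < n := by
    intro q k hq hk hne
    rw [← hn]
    refine Finset.card_lt_card ⟨fun x hx => hsub hq hk hne ((mem_combos C).1 hx), fun hcon => ?_⟩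
    have hT : (combos C r s).Nonempty := by
      rcases hq with e | h
      · rcases hk with e' | h
        · exact absurd (e.trans e'.symm) hne
        · exact ⟨_, h⟩
      · exact ⟨_, h⟩
    obtain ⟨y, hy, hmin⟩ := Finset.exists_min_image _ (lev C lam) hT
    obtain ⟨-, b, c, hb, hc, h⟩ := (mem_combos C).1 (hcon hy)
    have hl := lev_comb C lam h
    have hq0 := hpos hq
    have hk0 := hpos hk
    have e1 : lev C lam q ≤ (b : ℤ) * lev C lam q := le_mul_of_one_le_left hq0.le (by exact_mod_cast hb)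
    have e2 : lev C lam k ≤ (c : ℤ) * lev C lam k := le_mul_of_one_le_left hk0.le (by exact_mod_cast hc)
    rcases hq with e | h'
    · have := hmin k (hk.resolve_left fun e' => hne (e.trans e'.symm))
      omega
    · have := hmin q h'
      omega
  -- the root groups over them
  let S : PSys C K P :=
  { Sub := Sub
    f := T.Z X
    rho := (scFull C hA (F := K)).rho.comp X.p
    sub_lt := fun h => (hcoef h).1
    sub_comm := fun {q k} hq hk c hc => by
      by_cases hne : q = k
      · subst hne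
        exact absurd hc (commTerms_self C)
      · obtain ⟨⟨hc0, hb, hb'⟩, hcf⟩ := C.commTerms_cf hc
        exact Or.inr (hsub hq hk hne ⟨hc0, _, _, hb, hb', hcf⟩)
    rho_f := fun {x} hx t => by
      rw [MonoidHom.comp_apply, T.p_Z X (hcoef hx).1]
      exact (scFull C hA (F := K)).rho_f (r := x) (hcoef hx).1 t
    add := fun {x} hx t u => Z_add T X C hA hK hL (hcoef hx).1 t u
    comm := fun {q k} hq hk e1 e2 t u =>
      ih _ (hlt hq hk (Ne.symm e1)) q k rfl (hcoef hq).1 (hcoef hk).1 e1 e2 t u }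
  set W : K → P := fun u => ((D.commWord K r s t u).map fun x => T.Z X x.1 x.2).prod
  have hterm : ∀ {c}, c ∈ D.commTerms r s → c.1 ∈ combos C r s := fun {c} hc => by
    obtain ⟨⟨hc0, hb, hb'⟩, hcf⟩ := C.commTerms_cf hc
    exact (mem_combos C).2 ⟨hc0, _, _, hb, hb', hcf⟩
  have hWmem : ∀ u, W u ∈ S.U lam 1 := fun u => by
    refine Subgroup.list_prod_mem _ fun x hx => ?_
    simp only [commWord, List.map_map, List.mem_map] at hx
    obtain ⟨c, hc, rfl⟩ := hx
    exact S.f_mem_U lam (Or.inr (hterm hc)) (hpos (Or.inr (hterm hc))) _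
  have hpW : ∀ u, X.p (W u) = (D.scGen K s u)⁻¹ * (D.scGen K r t)⁻¹ * D.scGen K s u *
      D.scGen K r t := fun u => by
    rw [sc_comm hr hs h1 h2, map_list_prod, List.map_map]
    congr 1
    refine List.map_congr_left fun x hx => ?_
    simp only [commWord, List.mem_map] at hx
    obtain ⟨c, hc, rfl⟩ := hx
    exact T.p_Z X (C.commTerms_cf hc).1.1 _
  set b := T.Z X r t
  set L : K → P := fun u => (T.Z X s u)⁻¹ * b⁻¹ * T.Z X s u * b
  set δ : K → P := fun u => L u * (W u)⁻¹
  have hpδ : ∀ u, X.p (δ u) = 1 := fun u => by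
    simp only [δ, L, b, map_mul, map_inv, hpW, T.p_Z X hr, T.p_Z X hs, mul_inv_cancel]
  have hLδ : ∀ u, L u = δ u * W u := fun u => by simp only [δ]; group
  have hW : ∀ u v, W (u + v) = (T.Z X s v)⁻¹ * W u * T.Z X s v * W v := fun u v => by
    have hmem := S.f_mem_U lam (c := 1) (s := s) (Or.inl rfl) (hpos (Or.inl rfl)) v
    refine S.eq_of_rho (hWmem _)
      (mul_mem (mul_mem (mul_mem (inv_mem hmem) (hWmem u)) hmem) (hWmem v)) ?_
    show (scFull C hA (F := K)).rho (X.p _) = (scFull C hA (F := K)).rho (X.p _)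
    congr 1
    simp only [map_mul, map_inv, hpW, T.p_Z X hs, ← sc_add hs u v]
    group
  have hadd : ∀ u v, δ (u + v) = δ u * δ v := fun u v => by
    have e : L (u + v) = (T.Z X s v)⁻¹ * L u * T.Z X s v * L v := by
      simp only [L, ← Z_add T X C hA hK hL hs u v]
      group
    rw [hLδ, hLδ, hLδ, hW] at e
    set B := T.Z X s v
    have c1 := (X.comm_ker (hpδ u) B⁻¹).eq
    have c2 := (X.comm_ker (hpδ v) (B⁻¹ * W u * B)).eq
    refine mul_right_cancel (b := B⁻¹ * W u * B * W v) (e.trans ?_)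
    calc B⁻¹ * (δ u * W u) * B * (δ v * W v)
        = δ u * ((B⁻¹ * W u * B) * δ v) * W v := by
          rw [← mul_assoc B⁻¹, ← c1]; group
      _ = δ u * δ v * (B⁻¹ * W u * B * W v) := by rw [← c2]; group
  obtain ⟨c, hc⟩ := exists_unit_zpow hK hm h3
  obtain ⟨g, hg⟩ := exists_torus C hA a c
  set β : K := ((c ^ m : Kˣ) : K)
  have hinv : ∀ u, δ (β * u) = δ u := fun u => by
    set G := X.lift g
    have eb : G * b * G⁻¹ = b := by
      simp only [b, G, T.conj_Z X (X.p_lift g) hg hr, e0, zpow_zero, Units.val_one, one_mul]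
    have es : G * T.Z X s u * G⁻¹ = T.Z X s (β * u) := T.conj_Z X (X.p_lift g) hg hs u
    have eL : G * L u * G⁻¹ = L (β * u) := by
      simp only [L]
      calc G * ((T.Z X s u)⁻¹ * b⁻¹ * T.Z X s u * b) * G⁻¹
          = (G * T.Z X s u * G⁻¹)⁻¹ * (G * b * G⁻¹)⁻¹ * (G * T.Z X s u * G⁻¹) * (G * b * G⁻¹) := by
            group
        _ = _ := by rw [eb, es]
    have eW : G * W u * G⁻¹ = W (β * u) := by
      rw [show G * W u * G⁻¹ = (MulAut.conj G).toMonoidHom (W u) from rfl]
      simp only [W, commWord, List.map_map, map_list_prod]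
      congr 1
      refine List.map_congr_left fun d hd => ?_
      obtain ⟨⟨hd0, -, -⟩, hcf⟩ := C.commTerms_cf hd
      show G * T.Z X d.1 _ * G⁻¹ = T.Z X d.1 _
      rw [T.conj_Z X (X.p_lift g) hg hd0]
      congr 1
      have hp : pairingSum D a d.1 = (d.2.2.2 : ℤ) * m := by
        show _ = _ * pairingSum D a s
        rw [pairing_lev C a hd0, lev_comb C _ hcf, ← pairing_lev C a hr, ← pairing_lev C a hs, e0]
        ring
      rw [hp, mul_comm (_ : ℤ) m, zpow_mul, zpow_natCast, Units.val_pow_eq_pow_val]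
      dsimp only [β]
      ring
    calc δ (β * u) = G * δ u * G⁻¹ := by
          simp only [δ]
          rw [show G * (L u * (W u)⁻¹) * G⁻¹ = (G * L u * G⁻¹) * (G * W u * G⁻¹)⁻¹ by group,
            eL, eW]
      _ = δ u := by rw [← (X.comm_ker (hpδ u) G).eq, mul_inv_cancel_right]
  have hβ : β - 1 ≠ 0 := sub_ne_zero.2 fun e => hc (Units.ext e)
  have key := hinv (u / (β - 1))
  rw [show β * (u / (β - 1)) = u + u / (β - 1) by field_simp; ring, hadd] at key
  show L u = W u
  rw [hLδ, mul_eq_right.1 key, one_mul]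

include T in
/-- the extension splits -/
theorem exists_section : ∃ f : D.SteinbergCover K →* P, ∀ x, X.p (f x) = x := by
  have hrels : ∀ x ∈ D.steinbergRelsAB K,
      FreeGroup.lift (fun q : Fin D.nroots × K => T.Z X q.1 q.2) x = 1 := by
    have hX : ∀ {r : ℕ}, r < D.nroots → ∀ t,
        FreeGroup.lift (fun q : Fin D.nroots × K => T.Z X q.1 q.2) (D.stX r t) = T.Z X r t :=
      fun {r} hr t => lift_stX (T.Z X) hr t
    rintro x (⟨r, t, u, hr, rfl⟩ | ⟨r, s, t, u, hr, hs, h1, h2, rfl⟩)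
    · rw [map_mul, map_mul, map_inv, hX hr, hX hr, hX hr, mul_inv_eq_one]
      exact Z_add T X C hA hK hL hr t u
    · simp only [map_mul, map_inv, hX hr, hX hs, mul_inv_eq_one]
      rw [Z_comm T X C hA hK hL hr hs h1 h2, stWord, map_list_prod, List.map_map]
      congr 1
      refine List.map_congr_left fun y hy => ?_
      simp only [commWord, List.mem_map] at hy
      obtain ⟨c, hc, rfl⟩ := hy
      exact (hX (C.commTerms_cf hc).1.1 _).symm
  refine ⟨PresentedGroup.toGroup hrels, fun x => ?_⟩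
  have : X.p.comp (PresentedGroup.toGroup hrels) = MonoidHom.id _ := by
    refine PresentedGroup.ext fun q => ?_
    obtain ⟨⟨r, hr⟩, t⟩ := q
    rw [MonoidHom.comp_apply, PresentedGroup.toGroup.of, T.p_Z X hr]
    simp [scGen, stX, hr]
    rfl
  exact DFunLike.congr_fun this x

end Main

end Scaler

/-- Steinberg's cover is perfect enough: two lifts agree -/
theorem lift_unique (C : Cert D) (hA : Adj D) (hK : ∃ s : Finset K, 4 < s.card) (hL : LiftOK D)
    {E G : Type*} [Group E] [Group G] {π : E →* G} (hc : π.ker ≤ Subgroup.center E)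
    {τ τ' : D.SteinbergCover K →* E} (h : π.comp τ = π.comp τ') : τ = τ' := by
  have hz : ∀ x, ∃ z ∈ Subgroup.center E, τ x = τ' x * z := fun x =>
    ⟨(τ' x)⁻¹ * τ x, hc (by
      rw [MonoidHom.mem_ker, map_mul, map_inv, ← MonoidHom.comp_apply π τ' x, ← h]
      exact inv_mul_cancel _), by group⟩
  obtain ⟨T⟩ := exists_scalers C hA hK hL
  refine PresentedGroup.ext fun q => ?_
  obtain ⟨⟨r, hr⟩, t⟩ := q
  have hne : (T.e r r : K) - 1 ≠ 0 := sub_ne_zero.2 (T.ne r hr)
  set v := t / ((T.e r r : K) - 1)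
  have e : (PresentedGroup.of (⟨r, hr⟩, t) : D.SteinbergCover K) =
      T.g r * D.scGen K r v * (T.g r)⁻¹ * (D.scGen K r v)⁻¹ := by
    rw [T.scl r hr r hr, eq_mul_inv_iff_mul_eq]
    have : (PresentedGroup.of (⟨r, hr⟩, t) : D.SteinbergCover K) = D.scGen K r t := by
      simp [scGen, stX, hr]; rfl
    rw [this, sc_add hr]
    congr 1
    simp only [v]
    field_simp
    ring
  obtain ⟨z, hz1, ez⟩ := hz (T.g r)
  obtain ⟨w, hw1, ew⟩ := hz (D.scGen K r v)
  rw [e, map_mul, map_mul, map_mul, map_inv, map_inv, ez, ew, map_mul, map_mul, map_mul, map_inv,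
    map_inv]
  set a := τ' (T.g r)
  set b := τ' (D.scGen K r v)
  have c1 := (Subgroup.mem_center_iff.1 hz1 (b * w)).symm
  have c2 := (Subgroup.mem_center_iff.1 hw1 a⁻¹).symm
  calc a * z * (b * w) * (a * z)⁻¹ * (b * w)⁻¹
      = a * (z * (b * w)) * z⁻¹ * a⁻¹ * (w⁻¹ * b⁻¹) := by group
    _ = a * b * (w * a⁻¹) * w⁻¹ * b⁻¹ := by rw [c1]; group
    _ = a * b * a⁻¹ * b⁻¹ := by rw [c2]; group

theorem exists_unique_lift (C : Cert D) (hA : Adj D) (hK : ∃ s : Finset K, 4 < s.card)
    (hL : LiftOK D) {E G : Type*} [Group E] [Group G] (π : E →* G) (hπ : Function.Surjective π)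
    (hc : π.ker ≤ Subgroup.center E) (σ : D.SteinbergCover K →* G) :
    ∃! τ : D.SteinbergCover K →* E, π.comp τ = σ := by
  obtain ⟨T⟩ := exists_scalers C hA hK hL
  obtain ⟨τ, hτ⟩ := exists_lift_of_section σ π hπ hc
    (T.exists_section (pullback σ π hπ hc) C hA hK hL)
  exact ⟨τ, hτ, fun τ' hτ' => lift_unique C hA hK hL hc (hτ'.trans hτ.symm)⟩

end Cfsg.Agent.H38.St
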