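/-
Central extensions of Steinberg's cover over a finite field whose kernel has no element of the
order of the characteristic split.
-/
import Cfsg.Agent.H38.St.LiftCert
import Cfsg.Agent.H38.St.CExt
import Cfsg.Agent.H38.St.Groups
import Cfsg.Agent.H38.St.Lift

set_option autoImplicit false

namespace Cfsg.Agent.H38.St

open Cfsg.Lie Cfsg.Lie.ChevalleyDatum Cfsg.Agent.Chevalley

namespace CExt

variable {P Δ : Type*} [Group P] [Group Δ] (X : CExt P Δ)

include X in
theorem finite_commutator [Finite Δ] : Finite (commutator P) := by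
  have : Finite (commutatorSet P) := by
    refine Set.finite_coe_iff.2 (Set.Finite.subset (Set.finite_range fun q : Δ × Δ => X.cm q.1 q.2) ?_)
    rintro g ⟨a, b, rfl⟩
    exact ⟨(X.p a, X.p b), (X.cm_eq rfl rfl).trans (commutatorElement_def a b).symm⟩
  infer_instance

/-- two elements of order dividing `q` over the same element are equal -/
theorem eq_of_pow {q : ℕ} (htor : ∀ z, X.p z = 1 → z ^ q = 1 → z = 1) {A B : P} (hA : A ^ q = 1)
    (hB : B ^ q = 1) (h : X.p A = X.p B) : A = B := by
  obtain ⟨z, hz, rfl⟩ := X.eq_mul_ker h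
  rw [(X.comm_ker hz B).symm.mul_pow, hB, one_mul] at hA
  rw [htor z hz hA, mul_one]

/-- lifts of elements of prime order in a perfect finite quotient -/
theorem exists_pow_lift [Finite Δ] (hperf : commutator Δ = ⊤) {q : ℕ} [Fact q.Prime]
    (htor : ∀ z, X.p z = 1 → z ^ q = 1 → z = 1) {x : Δ} (hx : x ^ q = 1) :
    ∃ A, A ^ q = 1 ∧ X.p A = x := by
  have hmap : (commutator P).map X.p = ⊤ := by
    rw [← hperf, map_commutator_eq, MonoidHom.range_eq_top.2 X.surj]
    rfl
  obtain ⟨A, hA, rfl⟩ : x ∈ (commutator P).map X.p := hmap ▸ Subgroup.mem_top x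
  have := X.finite_commutator
  set K0 : Subgroup P := X.p.ker ⊓ commutator P
  have : Finite K0 := Finite.of_injective _ (Subgroup.inclusion_injective
    (inf_le_right : K0 ≤ commutator P))
  have hco : (Nat.card K0).Coprime q := by
    refine Nat.Coprime.symm ((Nat.Prime.coprime_iff_not_dvd Fact.out).2 fun hd => ?_)
    obtain ⟨z, hz⟩ := exists_prime_orderOf_dvd_card' q hd
    have h1 : (z : P) = 1 :=
      htor z z.2.1 (by rw [← hz, ← Subgroup.orderOf_coe z]; exact pow_orderOf_eq_one _)
    rw [show z = 1 from Subtype.ext h1, orderOf_one] at hz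
    exact absurd hz.symm (Fact.out : q.Prime).ne_one
  obtain ⟨w, hw⟩ : ∃ w : K0, (w : P) ^ q = A ^ q :=
    ⟨(powCoprime hco).symm ⟨A ^ q, show X.p (A ^ q) = 1 by rw [map_pow, hx], pow_mem hA q⟩,
      congrArg Subtype.val (Equiv.apply_symm_apply (powCoprime hco) _)⟩
  have hwz : X.p (w : P) = 1 := w.2.1
  refine ⟨A * (w : P)⁻¹, ?_, by rw [map_mul, map_inv, hwz, inv_one, mul_one]⟩
  rw [((X.comm_ker hwz A).symm.inv_right).mul_pow, inv_pow, hw, mul_inv_cancel]

end CExt

open Cfsg.Agent.H38.CT

variable {D : ChevalleyDatum} {K : Type*} [Field K]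

/-- the cover is finite over a finite field -/
theorem finite_cover [Finite K] (Q : H37.Chev.Data D K) (hrel : RelOK Q.K Q.X.M) (hA : Adj D)
    (hperf : commutator (D.SteinbergCover K) = ⊤) : Finite (D.SteinbergCover K) := by
  set S := scFull Q.K hA (F := K)
  let X : CExt (D.SteinbergCover K) S.rho.range :=
    ⟨S.rho.rangeRestrict, S.rho.rangeRestrict_surjective, fun g hg => by
      refine S.ker_central hrel sc_gen (g := g) ?_
      simpa using congrArg Subtype.val hg⟩
  have := X.finite_commutator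
  rw [hperf] at this
  exact Finite.of_equiv _ Subgroup.topEquiv.toEquiv

theorem exists_lam (C : Cert D) (hL : LiftOK D) {r s : ℕ} (hr : r < D.nroots) (hs : s < D.nroots)
    (h1 : s ≠ r) (h2 : s ≠ D.neg r) :
    ∃ lam, 0 < lev C lam r ∧ 0 < lev C lam s := by
  obtain ⟨a, ha, e0, hm, -⟩ := hL.sep r hr s hs h1 h2
  set m := pairingSum D a s
  set N : ℤ := m * (|pairingSum D r s| + 1)
  refine ⟨fun j => pairingSum D r (D.simple j) + N * pairingSum D a (D.simple j), ?_⟩
  have hlev : ∀ {x}, x < D.nroots →
      lev C (fun j => pairingSum D r (D.simple j) + N * pairingSum D a (D.simple j)) x =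
        pairingSum D r x + N * pairingSum D a x := by
    intro x hx
    rw [pairing_lev C r hx, pairing_lev C a hx]
    simp only [lev, add_mul, Finset.sum_add_distrib, Finset.mul_sum, mul_assoc]
  refine ⟨?_, ?_⟩
  · rw [hlev hr, e0, pairing_self C hr]
    norm_num
  · rw [hlev hs]
    have h1 : 1 ≤ m * m := by nlinarith [mul_self_pos.2 hm]
    have h2 := neg_abs_le (pairingSum D r s)
    have h3 : (|pairingSum D r s| + 1) * 1 ≤ (|pairingSum D r s| + 1) * (m * m) :=
      mul_le_mul_of_nonneg_left h1 (by positivity)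
    have h4 : N * pairingSum D a s = (|pairingSum D r s| + 1) * (m * m) := by ring
    linarith

section Unip

variable {G : Type*} [Group G] {C : Cert D} (S : PSys C K G)

/-- elements of positive level have order a power of the characteristic -/
theorem pow_char_pow {q : ℕ} [Fact q.Prime] [CharP K q] {lam : ℕ → ℤ} :
    ∃ e : ℕ, ∀ g ∈ S.U lam 1, g ^ q ^ e = 1 := by
  obtain ⟨B, hB⟩ : ∃ B : ℕ, ∀ x : D.Idx, (levI C lam x).natAbs ≤ B :=
    ⟨(Finset.univ : Finset D.Idx).sup fun x => (levI C lam x).natAbs,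
      fun x => Finset.le_sup (f := fun x : D.Idx => (levI C lam x).natAbs) (Finset.mem_univ x)⟩
  refine ⟨2 * B + 1, fun g hg => S.inj (pow_mem hg _) ?_⟩
  set M : Matrix D.Idx D.Idx K := (S.rho g : Matrix D.Idx D.Idx K) - 1
  have hM : Deg C K lam 1 M := S.deg_mem one_pos hg
  have hpow : ∀ k : ℕ, Deg C K lam (k : ℤ) (M ^ k) := by
    intro k
    induction k with
    | zero =>
      intro row col h
      by_cases e : row = col
      · simp [e]
      · exact absurd (by simp [e]) h
    | succ k ih => rw [pow_succ]; exact (ih.mul hM).mono (by push_cast; omega)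
  have hzero : M ^ q ^ (2 * B + 1) = 0 := by
    ext row col
    by_contra h
    have := hpow _ row col h
    have := hB row
    have := hB col
    have : 2 * B + 1 < q ^ (2 * B + 1) := Nat.lt_pow_self (Fact.out : q.Prime).one_lt
    omega
  refine Units.ext ?_
  have : Nonempty D.Idx := ⟨Sum.inl ⟨0, by have := C.rank_pos; omega⟩⟩
  rw [map_pow, Units.val_pow_eq_pow_val, Units.val_one,
    ← sub_add_cancel (S.rho g : Matrix D.Idx D.Idx K) 1,
    add_pow_char_pow_of_commute (p := q) (h := Commute.one_right _)]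
  rw [show (S.rho g : Matrix D.Idx D.Idx K) - 1 = M from rfl, hzero, zero_add, one_pow]

end Unip

/-- splitting when the kernel has no element of the order of the characteristic -/
theorem exists_section_coprime [Finite K] (Q : H37.Chev.Data D K) (hrel : RelOK Q.K Q.X.M)
    (hA : Adj D) (hL : LiftOK D) (hperf : commutator (D.SteinbergCover K) = ⊤) {P : Type*} [Group P]
    (X : CExt P (D.SteinbergCover K)) {q : ℕ} [Fact q.Prime] [CharP K q]
    (htor : ∀ z, X.p z = 1 → z ^ q = 1 → z = 1) :
    ∃ f : D.SteinbergCover K →* P, ∀ x, X.p (f x) = x := by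
  classical
  have := finite_cover Q hrel hA hperf
  set S := scFull Q.K hA (F := K)
  have hx : ∀ {r}, r < D.nroots → ∀ t, D.scGen K r t ^ q = 1 := by
    intro r hr t
    have : ∀ k : ℕ, D.scGen K r t ^ k = D.scGen K r ((k : K) * t) := fun k => by
      induction k with
      | zero => rw [pow_zero, Nat.cast_zero, zero_mul]; exact (S.toPSys.f_zero (r := r) hr).symm
      | succ k ih => rw [pow_succ, ih, sc_add hr, Nat.cast_succ, add_one_mul]
    rw [this, CharP.cast_eq_zero, zero_mul]
    exact S.toPSys.f_zero (r := r) hr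
  choose Z hZq hZp using fun i : {r // r < D.nroots} × K =>
    X.exists_pow_lift hperf htor (hx i.1.2 i.2)
  set z : ℕ → K → P := fun r t => if h : r < D.nroots then Z (⟨r, h⟩, t) else 1
  have hzq : ∀ {r}, r < D.nroots → ∀ t, z r t ^ q = 1 := fun hr t => by
    simp only [z, dif_pos hr]; exact hZq _
  have hzp : ∀ {r}, r < D.nroots → ∀ t, X.p (z r t) = D.scGen K r t := fun hr t => by
    simp only [z, dif_pos hr]; exact hZp _
  have hadd : ∀ {r}, r < D.nroots → ∀ t u, z r t * z r u = z r (t + u) := by
    intro r hr t u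
    have hc : Commute (z r t) (z r u) := by
      refine mul_inv_eq_iff_eq_mul.1 (X.eq_of_pow htor ?_ (hzq hr u) ?_)
      · rw [conj_pow, hzq hr u, mul_one, mul_inv_cancel]
      · simp only [map_mul, map_inv, hzp hr, (sc_same_comm hr t u).eq, mul_inv_cancel_right]
    exact X.eq_of_pow htor (by rw [hc.mul_pow, hzq hr, hzq hr, mul_one]) (hzq hr _)
      (by rw [map_mul, hzp hr, hzp hr, hzp hr, sc_add hr])
  have hcomm : ∀ {r s}, r < D.nroots → s < D.nroots → s ≠ r → s ≠ D.neg r → ∀ t u,
      (z s u)⁻¹ * (z r t)⁻¹ * z s u * z r t = ((D.commWord K r s t u).map fun x => z x.1 x.2).prod := by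
    intro r s hr hs h1 h2 t u
    obtain ⟨lam, hlr, hls⟩ := exists_lam Q.K hL hr hs h1 h2
    set V := Subgroup.closure {g | ∃ x v, x < D.nroots ∧ 0 < lev Q.K lam x ∧ g = z x v}
    have hV : ∀ {x}, x < D.nroots → 0 < lev Q.K lam x → ∀ v, z x v ∈ V := fun hx h v =>
      Subgroup.subset_closure ⟨_, v, hx, h, rfl⟩
    have hVU : ∀ g ∈ V, X.p g ∈ S.U lam 1 := by
      intro g hg
      refine (Subgroup.closure_le (K := (S.U lam 1).comap X.p)).2 ?_ hg
      rintro _ ⟨x, v, hx, h, rfl⟩
      show X.p (z x v) ∈ S.U lam 1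
      rw [hzp hx]
      exact S.f_mem_U lam (s := x) hx (by omega) v
    obtain ⟨e, he⟩ := pow_char_pow S.toPSys (q := q) (lam := lam)
    -- a power map which is a homomorphism on `V`
    have hfin : Finite (X.p.comp V.subtype).range := inferInstance
    have hker : (X.p.comp V.subtype).ker ≤ Subgroup.center V := fun g hg => by
      rw [Subgroup.mem_center_iff]
      intro h
      exact Subtype.ext (X.comm_ker (show X.p (g : P) = 1 from hg) h).eq.symm
    have : (X.p.comp V.subtype).ker.FiniteIndex :=
      ⟨by rw [Subgroup.index_ker]; exact Nat.card_pos.ne'⟩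
    have : (Subgroup.center V).FiniteIndex := Subgroup.finiteIndex_of_le hker
    obtain ⟨k, hk⟩ : ∃ k, (Subgroup.center V).index = q ^ k := by
      have hP : IsPGroup q (X.p.comp V.subtype).range := by
        rintro ⟨y, g, rfl⟩
        exact ⟨e, Subtype.ext (he _ (hVU g g.2))⟩
      obtain ⟨m, hm⟩ := (IsPGroup.iff_card).1 hP
      have hd := Subgroup.index_dvd_of_le hker
      rw [Subgroup.index_ker, hm] at hd
      obtain ⟨k, -, hk⟩ := (Nat.dvd_prime_pow Fact.out).1 hd
      exact ⟨k, hk⟩
    have hexp : ∀ g : V, g ^ q ^ (k + 1) = 1 := by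
      intro g
      let pq : Subgroup.center V →* Subgroup.center V :=
        { toFun := fun x => x ^ q
          map_one' := one_pow q
          map_mul' := fun a b => Commute.mul_pow (Subtype.ext (Subgroup.mem_center_iff.1 b.2 a)) q }
      let φ : V →* V := (Subgroup.center V).subtype.comp (pq.comp (MonoidHom.transferCenterPow V))
      have hφ : ∀ g : V, φ g = g ^ q ^ (k + 1) := fun g => by
        show ((MonoidHom.transferCenterPow V g : V)) ^ q = _
        rw [MonoidHom.transferCenterPow_apply, hk, ← pow_mul, ← pow_succ]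
      suffices φ = 1 by rw [← hφ, this, MonoidHom.one_apply]
      refine MonoidHom.ext fun ⟨g, hg⟩ => ?_
      induction hg using Subgroup.closure_induction with
      | mem x hx =>
        obtain ⟨x, v, hx, -, rfl⟩ := hx
        rw [hφ, MonoidHom.one_apply]
        refine Subtype.ext ?_
        simp only [SubmonoidClass.coe_pow, Subgroup.coe_one]
        rw [pow_succ', pow_mul, hzq hx, one_pow]
      | one => exact map_one φ
      | mul a b ha hb iha ihb =>
        rw [show (⟨a * b, mul_mem ha hb⟩ : V) = ⟨a, ha⟩ * ⟨b, hb⟩ from rfl, map_mul, iha, ihb]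
        simp
      | inv a ha iha =>
        rw [show (⟨a⁻¹, inv_mem ha⟩ : V) = (⟨a, ha⟩ : V)⁻¹ from rfl, map_inv, iha]
        simp
    have hterm : ∀ {c}, c ∈ D.commTerms r s → c.1 < D.nroots ∧ 0 < lev Q.K lam c.1 := fun {c} hc => by
      obtain ⟨⟨hc0, hb, hb'⟩, hcf⟩ := Q.K.commTerms_cf hc
      refine ⟨hc0, ?_⟩
      rw [lev_comb Q.K lam hcf]
      exact Int.add_pos (mul_pos (by exact_mod_cast hb) hlr) (mul_pos (by exact_mod_cast hb') hls)
    set W := ((D.commWord K r s t u).map fun x => z x.1 x.2).prod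
    have hW : W ∈ V := by
      refine Subgroup.list_prod_mem _ fun x hx => ?_
      simp only [commWord, List.map_map, List.mem_map] at hx
      obtain ⟨c, hc, rfl⟩ := hx
      exact hV (hterm hc).1 (hterm hc).2 _
    have hpW : X.p W = ((D.commWord K r s t u).map fun x => D.scGen K x.1 x.2).prod := by
      simp only [W, map_list_prod, List.map_map]
      congr 1
      refine List.map_congr_left fun x hx => ?_
      simp only [commWord, List.mem_map] at hx
      obtain ⟨c, hc, rfl⟩ := hx
      exact hzp (hterm hc).1 _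
    set L := (z s u)⁻¹ * (z r t)⁻¹ * z s u * z r t
    have hLV : L * W⁻¹ ∈ V := mul_mem (mul_mem (mul_mem (mul_mem (inv_mem (hV hs hls u))
      (inv_mem (hV hr hlr t))) (hV hs hls u)) (hV hr hlr t)) (inv_mem hW)
    have h0 : X.p (L * W⁻¹) = 1 := by
      simp only [L, map_mul, map_inv, hzp hr, hzp hs, hpW, sc_comm hr hs h1 h2, mul_inv_cancel]
    have hq : (L * W⁻¹) ^ q ^ (k + 1) = 1 := congrArg Subtype.val (hexp ⟨_, hLV⟩)
    refine mul_inv_eq_one.1 ?_
    have : ∀ j : ℕ, ∀ g, X.p g = 1 → g ^ q ^ j = 1 → g = 1 := by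
      intro j
      induction j with
      | zero => intro g _ hg; simpa using hg
      | succ j ih =>
        intro g hg hgp
        rw [pow_succ, pow_mul] at hgp
        exact ih g hg (htor _ (by rw [map_pow, hg, one_pow]) hgp)
    exact this _ _ h0 hq
  have hrels : ∀ x ∈ D.steinbergRelsAB K,
      FreeGroup.lift (fun i : Fin D.nroots × K => z i.1 i.2) x = 1 := by
    have hX : ∀ {r : ℕ}, r < D.nroots → ∀ t,
        FreeGroup.lift (fun i : Fin D.nroots × K => z i.1 i.2) (D.stX r t) = z r t :=
      fun {r} hr t => lift_stX z hr t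
    rintro x (⟨r, t, u, hr, rfl⟩ | ⟨r, s, t, u, hr, hs, h1, h2, rfl⟩)
    · rw [map_mul, map_mul, map_inv, hX hr, hX hr, hX hr, mul_inv_eq_one]
      exact hadd hr t u
    · simp only [map_mul, map_inv, hX hr, hX hs, mul_inv_eq_one]
      rw [hcomm hr hs h1 h2, stWord, map_list_prod, List.map_map]
      congr 1
      refine List.map_congr_left fun y hy => ?_
      simp only [commWord, List.mem_map] at hy
      obtain ⟨c, hc, rfl⟩ := hy
      exact (hX (Q.K.commTerms_cf hc).1.1 _).symm
  refine ⟨PresentedGroup.toGroup hrels, fun x => ?_⟩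
  have : X.p.comp (PresentedGroup.toGroup hrels) = MonoidHom.id _ := by
    refine PresentedGroup.ext fun i => ?_
    obtain ⟨⟨r, hr⟩, t⟩ := i
    rw [MonoidHom.comp_apply, PresentedGroup.toGroup.of, hzp hr]
    simp [scGen, stX, hr]
    rfl
  exact DFunLike.congr_fun this x

end Cfsg.Agent.H38.St
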