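/-
Steinberg's commutator steps in a central extension, and root elements over small fields.
-/
import Cfsg.Agent.H38.St.Lift

set_option autoImplicit false

namespace Cfsg.Agent.H38.St

namespace CExt

variable {P Δ : Type*} [Group P] [Group Δ] (X : CExt P Δ)

theorem cm_eq_one {A B : P} {x y : Δ} (ha : X.p A = x) (hb : X.p B = y) (h : Commute A B) :
    X.cm x y = 1 := by
  rw [X.cm_eq ha hb, h.eq]
  group

theorem cm_swap {x y : Δ} (h : X.cm x y = 1) : X.cm y x = 1 := by rw [← X.cm_inv, h, inv_one]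

/-- a lift commutes with the commutators of elements centralised by its image -/
theorem comm_cm' {E : P} {x y : Δ} (hx : Commute (X.p E) x) (hy : Commute (X.p E) y) :
    Commute E (X.cm x y) := by
  have h := X.cm_conj (G := E) rfl x y
  rw [hx.eq, mul_inv_cancel_right, hy.eq, mul_inv_cancel_right] at h
  exact mul_inv_eq_iff_eq_mul.1 h

/-- lifts commute if one image is a commutator in the centraliser of the other -/
theorem cm_decomp {x a b s : Δ} (hs : a * b * a⁻¹ * b⁻¹ = s) (ha : Commute x a) (hb : Commute x b) :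
    X.cm x s = 1 :=
  X.cm_eq_one (X.p_lift x) ((X.p_cm a b).trans hs)
    (X.comm_cm' (by rwa [X.p_lift]) (by rwa [X.p_lift]))

/-- Steinberg's step: `[x, [a, b]] = [[x, a], b]` when `[x, b]` lifts trivially and `[x, a]`, `[a, b]`
commute after lifting -/
theorem step {x a b y s : Δ} (hy : x * a * x⁻¹ * a⁻¹ = y) (hs : a * b * a⁻¹ * b⁻¹ = s)
    (h1 : X.cm x b = 1) (h2 : X.cm y s = 1) (h3 : X.cm s (y * b * y⁻¹ * b⁻¹) = 1) :
    X.cm x s = X.cm y b := by
  set A := X.lift a
  set B := X.lift b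
  set Y := X.lift y
  set Q := X.lift x
  obtain ⟨z, hz, ez⟩ : ∃ z, X.p z = 1 ∧ Q * A * Q⁻¹ = Y * A * z := X.eq_mul_ker (by
    simp only [map_mul, map_inv, A, Y, Q, X.p_lift, ← hy]
    group)
  have hS : X.p (X.cm a b) = s := (X.p_cm a b).trans hs
  have c1 : Commute Q B := X.commute_of_cm (X.p_lift x) (X.p_lift b) h1
  have c2 : Commute Y (X.cm a b) := X.commute_of_cm (X.p_lift y) hS h2
  have c3 : Commute (X.cm a b) (X.cm y b) := X.commute_of_cm hS (X.p_cm y b) h3
  have e1 : Q * X.cm a b * Q⁻¹ = X.cm a b * X.cm y b := by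
    have h : X.cm a b = A * B * A⁻¹ * B⁻¹ := X.cm_eq (X.p_lift a) (X.p_lift b)
    have h' : X.cm y b = Y * B * Y⁻¹ * B⁻¹ := X.cm_eq (X.p_lift y) (X.p_lift b)
    have c4 := (X.comm_ker hz B).eq
    calc Q * X.cm a b * Q⁻¹
        = (Q * A * Q⁻¹) * (Q * B * Q⁻¹) * (Q * A * Q⁻¹)⁻¹ * (Q * B * Q⁻¹)⁻¹ := by rw [h]; group
      _ = Y * A * (z * B) * z⁻¹ * A⁻¹ * Y⁻¹ * B⁻¹ := by
          rw [ez, c1.eq, mul_inv_cancel_right]; group
      _ = Y * X.cm a b * Y⁻¹ * X.cm y b := by rw [c4, h, h']; group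
      _ = _ := by rw [c2.eq, mul_inv_cancel_right]
  rw [X.cm_eq (X.p_lift x) hS, e1, c3.eq, mul_inv_cancel_right]

/-- the commutator is additive in the first variable -/
theorem cm_mul_left_of {x x' y : Δ} (h : X.cm x (x' * y * x'⁻¹ * y⁻¹) = 1) :
    X.cm (x * x') y = X.cm x' y * X.cm x y := by
  have hc : Commute (X.lift x) (X.cm x' y) := X.commute_of_cm (X.p_lift x) (X.p_cm x' y) h
  rw [← X.cm_inv, X.cm_mul_right (X.p_lift x), mul_inv_rev, mul_inv_rev, mul_inv_rev, inv_inv,
    X.cm_inv, X.cm_inv, ← mul_assoc, hc.eq, mul_inv_cancel_right]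

end CExt

open Cfsg.Lie Cfsg.Lie.ChevalleyDatum Cfsg.Agent.Chevalley Cfsg.Agent.H38.CT

variable {D : ChevalleyDatum} {K : Type*} [Field K]

/-- the commutator word of `(p, q)` is a single root element -/
def One (D : ChevalleyDatum) (p q r : ℕ) (c : ℤ) : Prop :=
  p < D.nroots ∧ q < D.nroots ∧ q ≠ p ∧ q ≠ D.neg p ∧ r < D.nroots ∧
    D.commTerms p q = [(r, c, 1, 1)]

def oneB (D : ChevalleyDatum) (p q r : ℕ) (c : ℤ) : Bool :=
  decide (p < D.nroots) && decide (q < D.nroots) && !(q == p) && !(q == D.neg p) &&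
    decide (r < D.nroots) && decide (D.commTerms p q = [(r, c, 1, 1)])

theorem one_of_b {p q r : ℕ} {c : ℤ} (h : oneB D p q r c = true) : One D p q r c := by
  simp only [oneB, Bool.and_eq_true, decide_eq_true_eq, Bool.not_eq_true', beq_eq_false_iff_ne] at h
  exact ⟨h.1.1.1.1.1, h.1.1.1.1.2, h.1.1.1.2, h.1.1.2, h.1.2, h.2⟩

/-- the value of a commutator with a one-term word -/
theorem one_comm {p q r : ℕ} {c : ℤ} (h : One D p q r c) (v w : K) :
    D.scGen K q v * D.scGen K p w * (D.scGen K q v)⁻¹ * (D.scGen K p w)⁻¹ =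
      D.scGen K r (-((c : K) * (v * w))) := by
  obtain ⟨hp, hq, h1, h2, hr, hT⟩ := h
  have hf : ∀ {s}, s < D.nroots → ∀ u : K, (D.scGen K s u)⁻¹ = D.scGen K s (-u) := fun hs u => by
    refine inv_eq_of_mul_eq_one_right ?_
    rw [sc_add hs, add_neg_cancel]
    have := sc_add hs (0 : K) 0
    rw [add_zero] at this
    exact mul_eq_left.1 this
  have e := sc_comm hp hq h1 h2 (-w) (-v)
  rw [commWord, hT, hf hq, hf hp, _root_.neg_neg, _root_.neg_neg] at e
  simp only [List.map_cons, List.map_nil, List.prod_cons, List.prod_nil, mul_one, pow_one,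
    _root_.neg_neg] at e
  rw [hf hq, hf hp, e]
  congr 1
  ring

/-- a word with vanishing coefficients -/
theorem sc_comm_of_zero {r s : ℕ} (hr : r < D.nroots) (hs : s < D.nroots) (h1 : s ≠ r)
    (h2 : s ≠ D.neg r) (C : Cert D) (h : ∀ c ∈ D.commTerms r s, (c.2.1 : K) = 0) (t u : K) :
    Commute (D.scGen K r t) (D.scGen K s u) := by
  have e := sc_comm (F := K) hr hs h1 h2 t u
  rw [List.prod_eq_one (fun x hx => ?_), mul_assoc, mul_assoc, inv_mul_eq_one, eq_comm] at e
  · exact (inv_mul_eq_iff_eq_mul.1 e).symm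
  · simp only [commWord, List.map_map, List.mem_map] at hx
    obtain ⟨c, hc, rfl⟩ := hx
    have h0 := sc_add (F := K) (C.commTerms_cf hc).1.1 0 0
    rw [add_zero] at h0
    simp only [Function.comp_apply, h c hc, zero_mul]
    exact mul_eq_left.1 h0

theorem exists_unit_zpow' {n : ℕ} (hK : ∃ s : Finset K, n + 1 < s.card) {k : ℤ} (h0 : k ≠ 0)
    (h3 : k.natAbs ≤ n) : ∃ c : Kˣ, c ^ k ≠ 1 := by
  classical
  obtain ⟨s, hs⟩ := hK
  by_contra h
  push Not at h
  have hn : 0 < k.natAbs := Int.natAbs_pos.2 h0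
  have hsub : s ⊆ insert 0 (Polynomial.nthRoots k.natAbs (1 : K)).toFinset := by
    intro x _
    by_cases hx : x = 0
    · simp [hx]
    · refine Finset.mem_insert_of_mem (Multiset.mem_toFinset.2 ((Polynomial.mem_nthRoots hn).2 ?_))
      have := pow_natAbs_eq_one.2 (h (Units.mk0 x hx))
      simpa using congrArg Units.val this
  have h1 := Finset.card_le_card hsub
  have h2 := Finset.card_insert_le 0 (Polynomial.nthRoots k.natAbs (1 : K)).toFinset
  have h4 := Multiset.toFinset_card_le (Polynomial.nthRoots k.natAbs (1 : K))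
  have h5 := Polynomial.card_nthRoots k.natAbs (1 : K)
  omega

/-- a property of pairs of roots invariant under the fundamental reflections holds everywhere if it
holds for the extremal pairs -/
theorem pair_descent (C : Cert D) {Q : ℕ → ℕ → Prop}
    (hw : ∀ i < D.rank, ∀ r < D.nroots, ∀ s < D.nroots, Q (C.w i r) (C.w i s) → Q r s)
    (h : ∀ r < D.nroots, (∀ i < D.rank, ¬ r < C.w i r) → ∀ s < D.nroots, s ≠ r → s ≠ D.neg r →
      (∀ i < D.rank, C.w i r = r → ¬ s < C.w i s) → Q r s) :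
    ∀ r < D.nroots, ∀ s < D.nroots, s ≠ r → s ≠ D.neg r → Q r s := by
  suffices ∀ m r s, (D.nroots - r) * (D.nroots + 1) + (D.nroots - s) ≤ m → r < D.nroots →
      s < D.nroots → s ≠ r → s ≠ D.neg r → Q r s from
    fun r hr s hs h1 h2 => this _ r s le_rfl hr hs h1 h2
  intro m
  induction m with
  | zero =>
    intro r s hm hr hs
    have : 0 < (D.nroots - r) * (D.nroots + 1) := Nat.mul_pos (by omega) (by omega)
    omega
  | succ m ih =>
    intro r s hm hr hs h1 h2
    have hneg : ∀ {i}, i < D.rank → C.w i s ≠ C.w i r ∧ C.w i s ≠ D.neg (C.w i r) := fun {i} hi =>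
      ⟨fun e => h1 (C.w_inj hi hs hr e),
        fun e => h2 (C.w_inj hi hs (C.neg_lt hr) (by rw [C.w_neg hi hr]; exact e))⟩
    by_cases htop : ∀ i < D.rank, ¬ r < C.w i r
    · by_cases hstab : ∀ i < D.rank, C.w i r = r → ¬ s < C.w i s
      · exact h r hr htop s hs h1 h2 hstab
      · push Not at hstab
        obtain ⟨i, hi, hri, hsi⟩ := hstab
        have hws := C.w_lt i hi s hs
        refine hw i hi r hr s hs
          (ih _ _ ?_ (C.w_lt i hi r hr).1 hws.1 (hneg hi).1 (hneg hi).2)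
        rw [hri]
        omega
    · push Not at htop
      obtain ⟨i, hi, hlt⟩ := htop
      have hwr := C.w_lt i hi r hr
      refine hw i hi r hr s hs (ih _ _ ?_ hwr.1 (C.w_lt i hi s hs).1 (hneg hi).1 (hneg hi).2)
      have : (D.nroots - C.w i r) * (D.nroots + 1) + (D.nroots + 1) ≤
          (D.nroots - r) * (D.nroots + 1) := by
        rw [← Nat.succ_mul]
        exact Nat.mul_le_mul_right _ (by omega)
      omega

/-- the extremal pairs as a kernel check -/
def topAll (D : ChevalleyDatum) (w : ℕ → ℕ → ℕ) (q : ℕ → ℕ → Bool) : Bool :=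
  (List.range D.nroots).all fun r =>
    ((List.range D.rank).any fun i => decide (r < w i r)) ||
    (List.range D.nroots).all fun s => (s == r) || (s == D.neg r) ||
      ((List.range D.rank).any fun i => (w i r == r) && decide (s < w i s)) || q r s

theorem of_topAll (C : Cert D) {w : ℕ → ℕ → ℕ} (hw : C.w = w) {q : ℕ → ℕ → Bool}
    {Q : ℕ → ℕ → Prop} (hQ : ∀ r s, r < D.nroots → s < D.nroots → q r s = true → Q r s)
    (h : topAll D w q = true) :
    ∀ r < D.nroots, (∀ i < D.rank, ¬ r < C.w i r) → ∀ s < D.nroots, s ≠ r → s ≠ D.neg r →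
      (∀ i < D.rank, C.w i r = r → ¬ s < C.w i s) → Q r s := by
  subst hw
  intro r hr htop s hs a b hstab
  simp only [topAll, List.all_eq_true, List.mem_range, List.any_eq_true, Bool.or_eq_true,
    Bool.and_eq_true, beq_iff_eq, decide_eq_true_eq] at h
  rcases h r hr with ⟨i, hi, h⟩ | h
  · exact absurd h (htop i hi)
  rcases h s hs with ((e | e) | ⟨i, hi, e1, e2⟩) | e
  · exact absurd e a
  · exact absurd e b
  · exact absurd e2 (hstab i hi e1)
  · exact hQ r s hr hs e

end Cfsg.Agent.H38.St
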