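/-
Lifts of all root elements which are additive and compatible with torus elements satisfy the
commutator formula as soon as every pair is separated by a torus element or treated by hand.
-/
import Cfsg.Agent.H38.St.Coprime
import Cfsg.Agent.H38.St.Steps

set_option autoImplicit false

namespace Cfsg.Agent.H38.St

open Cfsg.Lie Cfsg.Lie.ChevalleyDatum Cfsg.Agent.Chevalley Cfsg.Agent.H38.CT

variable {D : ChevalleyDatum} {K : Type*} [Field K] {P : Type*} [Group P]

/-- additive lifts of the root elements, compatible with scaling elements -/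
structure Fam (X : CExt P (D.SteinbergCover K)) where
  Z : ℕ → K → P
  p_Z : ∀ {r}, r < D.nroots → ∀ t, X.p (Z r t) = D.scGen K r t
  add : ∀ {r}, r < D.nroots → ∀ t u, Z r t * Z r u = Z r (t + u)
  conj : ∀ {G : P} {g : D.SteinbergCover K} {e : ℕ → Kˣ}, X.p G = g → Scl D g e →
    ∀ {r}, r < D.nroots → ∀ t, G * Z r t * G⁻¹ = Z r ((e r : K) * t)

/-- the commutator formula for a pair -/
def R2 (D : ChevalleyDatum) (Z : ℕ → K → P) (r s : ℕ) : Prop :=
  ∀ t u : K, (Z s u)⁻¹ * (Z r t)⁻¹ * Z s u * Z r t =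
    ((D.commWord K r s t u).map fun x => Z x.1 x.2).prod

/-- a torus element fixing the first root and moving the second -/
def TSep (D : ChevalleyDatum) (K : Type*) [Field K] (r s : ℕ) : Prop :=
  ∃ (a : ℕ) (c : Kˣ), pairingSum D a r = 0 ∧ c ^ pairingSum D a s ≠ 1

namespace Fam

variable {X : CExt P (D.SteinbergCover K)} (Φ : Fam X) (C : Cert D) (hA : Adj D) (hL : LiftOK D)
include C hA hL

theorem r2_all (h : ∀ r < D.nroots, ∀ s < D.nroots, s ≠ r → s ≠ D.neg r →
      TSep D K r s ∨ TSep D K s r ∨ R2 D Φ.Z r s)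
    {r s : ℕ} (hr : r < D.nroots) (hs : s < D.nroots) (h1 : s ≠ r) (h2 : s ≠ D.neg r) :
    R2 D Φ.Z r s := by
  suffices ∀ n r s, (combos C r s).card = n → r < D.nroots → s < D.nroots → s ≠ r → s ≠ D.neg r →
      R2 D Φ.Z r s from this _ r s rfl hr hs h1 h2
  clear h2 h1 hs hr s r
  intro n
  induction n using Nat.strong_induction_on with
  | _ n ih =>
  intro r s hn hr hs h1 h2
  obtain ⟨lam, hlr, hls⟩ := exists_lam C hL hr hs h1 h2
  -- the system of root groups on the positive combinations and one of the roots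
  have main : ∀ r s, combos C r s = combos C r s → (combos C r s).card = n → r < D.nroots →
      s < D.nroots → s ≠ r → s ≠ D.neg r → 0 < lev C lam r → 0 < lev C lam s →
      TSep D K r s → R2 D Φ.Z r s := by
    clear hls hlr h2 h1 hs hr hn s r
    intro r s _ hn hr hs h1 h2 hlr hls hsep t u
    set Sub : ℕ → Prop := fun x => x = s ∨ x ∈ combos C r s
    have hcoef : ∀ {x}, Sub x → x < D.nroots ∧ ∃ i j : ℕ, 0 < j ∧ (i = 0 → x = s) ∧
        ∀ k < D.rank, C.cf x k = (i : ℤ) * C.cf r k + (j : ℤ) * C.cf s k := by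
      intro x hx
      rcases hx with e | h
      · exact ⟨e ▸ hs, 0, 1, one_pos, fun _ => e, fun k _ => by subst e; simp⟩
      · obtain ⟨hx', i, j, hi, hj, h⟩ := (mem_combos C).1 h
        exact ⟨hx', i, j, hj, fun e => absurd e hi.ne', h⟩
    have hpos : ∀ {x}, Sub x → 0 < lev C lam x := by
      intro x hx
      obtain ⟨-, i, j, hj, -, h⟩ := hcoef hx
      rw [lev_comb C lam h]
      have e1 : 0 ≤ (i : ℤ) * lev C lam r := by positivity
      have e2 : 0 < (j : ℤ) * lev C lam s := mul_pos (by exact_mod_cast hj) hls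
      omega
    have hsub : ∀ {q k x}, Sub q → Sub k → q ≠ k → Pc C q k x → x ∈ combos C r s := by
      rintro q k x hq hk hne ⟨hx, b, c, hb, hc, h⟩
      obtain ⟨-, i, j, hj, hi0, e⟩ := hcoef hq
      obtain ⟨-, i', j', hj', hi0', e'⟩ := hcoef hk
      refine (mem_combos C).2 ⟨hx, b * i + c * i', b * j + c * j', ?_, ?_, fun l hl => ?_⟩
      · rcases Nat.eq_zero_or_pos i with h | h
        · rcases Nat.eq_zero_or_pos i' with h' | h'
          · exact absurd ((hi0 h).trans (hi0' h').symm) hne
          · exact Nat.add_pos_right _ (Nat.mul_pos hc h')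
        · exact Nat.add_pos_left (Nat.mul_pos hb h) _
      · exact Nat.add_pos_left (Nat.mul_pos hb hj) _
      · rw [h l hl, e l hl, e' l hl]
        push_cast
        ring
    have hlt : ∀ {q k}, Sub q → Sub k → q ≠ k → (combos C q k).card < n := by
      intro q k hq hk hne
      rw [← hn]
      refine Finset.card_lt_card ⟨fun x hx => hsub hq hk hne ((mem_combos C).1 hx), fun hcon => ?_⟩
      have hT : (combos C r s).Nonempty := by
        rcases hq with e | h
        · rcases hk with e' | h
          · exact absurd (e.trans e'.symm) hne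
          · exact ⟨_, h⟩
        · exact ⟨_, h⟩
      obtain ⟨y, hy, hmin⟩ := Finset.exists_min_image _ (lev C lam) hT
      obtain ⟨-, b, c, hb, hc, h⟩ := (mem_combos C).1 (hcon hy)
      have hl := lev_comb C lam h
      have hq0 := hpos hq
      have hk0 := hpos hk
      have e1 : lev C lam q ≤ (b : ℤ) * lev C lam q :=
        le_mul_of_one_le_left hq0.le (by exact_mod_cast hb)
      have e2 : lev C lam k ≤ (c : ℤ) * lev C lam k :=
        le_mul_of_one_le_left hk0.le (by exact_mod_cast hc)
      rcases hq with e | h'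
      · have := hmin k (hk.resolve_left fun e' => hne (e.trans e'.symm))
        omega
      · have := hmin q h'
        omega
    let S : PSys C K P :=
    { Sub := Sub
      f := Φ.Z
      rho := (scFull C hA (F := K)).rho.comp X.p
      sub_lt := fun h => (hcoef h).1
      sub_comm := fun {q k} hq hk c hc => by
        by_cases hne : q = k
        · subst hne
          exact absurd hc (commTerms_self C)
        · obtain ⟨⟨hc0, hb, hb'⟩, hcf⟩ := C.commTerms_cf hc
          exact Or.inr (hsub hq hk hne ⟨hc0, _, _, hb, hb', hcf⟩)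
      rho_f := fun {x} hx t => by
        rw [MonoidHom.comp_apply, Φ.p_Z (hcoef hx).1]
        exact (scFull C hA (F := K)).rho_f (r := x) (hcoef hx).1 t
      add := fun {x} hx t u => Φ.add (hcoef hx).1 t u
      comm := fun {q k} hq hk e1 e2 t u =>
        ih _ (hlt hq hk (Ne.symm e1)) q k rfl (hcoef hq).1 (hcoef hk).1 e1 e2 t u }
    set W : K → P := fun u => ((D.commWord K r s t u).map fun x => Φ.Z x.1 x.2).prod
    have hterm : ∀ {c}, c ∈ D.commTerms r s → c.1 ∈ combos C r s := fun {c} hc => by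
      obtain ⟨⟨hc0, hb, hb'⟩, hcf⟩ := C.commTerms_cf hc
      exact (mem_combos C).2 ⟨hc0, _, _, hb, hb', hcf⟩
    have hWmem : ∀ u, W u ∈ S.U lam 1 := fun u => by
      refine Subgroup.list_prod_mem _ fun x hx => ?_
      simp only [commWord, List.map_map, List.mem_map] at hx
      obtain ⟨c, hc, rfl⟩ := hx
      exact S.f_mem_U lam (Or.inr (hterm hc)) (hpos (Or.inr (hterm hc))) _
    have hpW : ∀ u, X.p (W u) = (D.scGen K s u)⁻¹ * (D.scGen K r t)⁻¹ * D.scGen K s u *
        D.scGen K r t := fun u => by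
      rw [sc_comm hr hs h1 h2, map_list_prod, List.map_map]
      congr 1
      refine List.map_congr_left fun x hx => ?_
      simp only [commWord, List.mem_map] at hx
      obtain ⟨c, hc, rfl⟩ := hx
      exact Φ.p_Z (C.commTerms_cf hc).1.1 _
    set b := Φ.Z r t
    set L : K → P := fun u => (Φ.Z s u)⁻¹ * b⁻¹ * Φ.Z s u * b
    set δ : K → P := fun u => L u * (W u)⁻¹
    have hpδ : ∀ u, X.p (δ u) = 1 := fun u => by
      simp only [δ, L, b, map_mul, map_inv, hpW, Φ.p_Z hr, Φ.p_Z hs, mul_inv_cancel]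
    have hLδ : ∀ u, L u = δ u * W u := fun u => by simp only [δ]; group
    have hW : ∀ u v, W (u + v) = (Φ.Z s v)⁻¹ * W u * Φ.Z s v * W v := fun u v => by
      have hmem := S.f_mem_U lam (c := 1) (s := s) (Or.inl rfl) (hpos (Or.inl rfl)) v
      refine S.eq_of_rho (hWmem _)
        (mul_mem (mul_mem (mul_mem (inv_mem hmem) (hWmem u)) hmem) (hWmem v)) ?_
      show (scFull C hA (F := K)).rho (X.p _) = (scFull C hA (F := K)).rho (X.p _)
      congr 1
      simp only [map_mul, map_inv, hpW, Φ.p_Z hs, ← sc_add hs u v]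
      group
    have hadd : ∀ u v, δ (u + v) = δ u * δ v := fun u v => by
      have e : L (u + v) = (Φ.Z s v)⁻¹ * L u * Φ.Z s v * L v := by
        simp only [L, ← Φ.add hs u v]
        group
      rw [hLδ, hLδ, hLδ, hW] at e
      set B := Φ.Z s v
      have c1 := (X.comm_ker (hpδ u) B⁻¹).eq
      have c2 := (X.comm_ker (hpδ v) (B⁻¹ * W u * B)).eq
      refine mul_right_cancel (b := B⁻¹ * W u * B * W v) (e.trans ?_)
      calc B⁻¹ * (δ u * W u) * B * (δ v * W v)
          = δ u * ((B⁻¹ * W u * B) * δ v) * W v := by rw [← mul_assoc B⁻¹, ← c1]; group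
        _ = δ u * δ v * (B⁻¹ * W u * B * W v) := by rw [← c2]; group
    obtain ⟨a, c, e0, hc⟩ := hsep
    obtain ⟨g, hg⟩ := exists_torus C hA a c
    set m := pairingSum D a s
    set β : K := ((c ^ m : Kˣ) : K)
    have hinv : ∀ u, δ (β * u) = δ u := fun u => by
      set G := X.lift g
      have eb : G * b * G⁻¹ = b := by
        simp only [b, G, Φ.conj (X.p_lift g) hg hr, e0, zpow_zero, Units.val_one, one_mul]
      have es : G * Φ.Z s u * G⁻¹ = Φ.Z s (β * u) := Φ.conj (X.p_lift g) hg hs u
      have eL : G * L u * G⁻¹ = L (β * u) := by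
        simp only [L]
        calc G * ((Φ.Z s u)⁻¹ * b⁻¹ * Φ.Z s u * b) * G⁻¹
            = (G * Φ.Z s u * G⁻¹)⁻¹ * (G * b * G⁻¹)⁻¹ * (G * Φ.Z s u * G⁻¹) * (G * b * G⁻¹) := by
              group
          _ = _ := by rw [eb, es]
      have eW : G * W u * G⁻¹ = W (β * u) := by
        rw [show G * W u * G⁻¹ = (MulAut.conj G).toMonoidHom (W u) from rfl]
        simp only [W, commWord, List.map_map, map_list_prod]
        congr 1
        refine List.map_congr_left fun d hd => ?_
        obtain ⟨⟨hd0, -, -⟩, hcf⟩ := C.commTerms_cf hd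
        show G * Φ.Z d.1 _ * G⁻¹ = Φ.Z d.1 _
        rw [Φ.conj (X.p_lift g) hg hd0]
        congr 1
        have hp : pairingSum D a d.1 = (d.2.2.2 : ℤ) * m := by
          show _ = _ * pairingSum D a s
          rw [pairing_lev C a hd0, lev_comb C _ hcf, ← pairing_lev C a hr, ← pairing_lev C a hs, e0]
          ring
        rw [hp, mul_comm (_ : ℤ) m, zpow_mul, zpow_natCast, Units.val_pow_eq_pow_val]
        dsimp only [β]
        ring
      calc δ (β * u) = G * δ u * G⁻¹ := by
            simp only [δ]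
            rw [show G * (L u * (W u)⁻¹) * G⁻¹ = (G * L u * G⁻¹) * (G * W u * G⁻¹)⁻¹ by group,
              eL, eW]
        _ = δ u := by rw [← (X.comm_ker (hpδ u) G).eq, mul_inv_cancel_right]
    have hβ : β - 1 ≠ 0 := sub_ne_zero.2 fun e => hc (Units.ext e)
    have key := hinv (u / (β - 1))
    rw [show β * (u / (β - 1)) = u + u / (β - 1) by field_simp; ring, hadd] at key
    show L u = W u
    rw [hLδ, mul_eq_right.1 key, one_mul]
  rcases h r hr s hs h1 h2 with hsep | hsep | hR
  · exact main r s rfl hn hr hs h1 h2 hlr hls hsep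
  · -- the other order, by injectivity on the positive combinations
    have hcomb : combos C s r = combos C r s := by
      ext x
      simp only [mem_combos, Pc]
      refine and_congr_right fun _ => ⟨?_, ?_⟩ <;>
        rintro ⟨i, j, hi, hj, e⟩ <;>
        exact ⟨j, i, hj, hi, fun k hk => by rw [e k hk]; ring⟩
    have h1' : r ≠ s := Ne.symm h1
    have h2' : r ≠ D.neg s := fun e => h2 (by rw [e, C.neg_neg hs])
    have hR := main s r rfl (hcomb ▸ hn) hs hr h1' h2' hls hlr hsep
    intro t u
    set Sub : ℕ → Prop := fun x => x ∈ combos C r s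
    have hsub : ∀ {q k x}, Sub q → Sub k → Pc C q k x → x ∈ combos C r s := by
      rintro q k x hq hk ⟨hx, b, c, hb, hc, h⟩
      obtain ⟨-, i, j, hi, hj, e⟩ := (mem_combos C).1 hq
      obtain ⟨-, i', j', -, -, e'⟩ := (mem_combos C).1 hk
      refine (mem_combos C).2 ⟨hx, b * i + c * i', b * j + c * j',
        Nat.add_pos_left (Nat.mul_pos hb hi) _, Nat.add_pos_left (Nat.mul_pos hb hj) _, fun l hl => ?_⟩
      rw [h l hl, e l hl, e' l hl]
      push_cast
      ring
    have hpos : ∀ {x}, Sub x → 0 < lev C lam x := by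
      intro x hx
      obtain ⟨-, i, j, hi, hj, h⟩ := (mem_combos C).1 hx
      rw [lev_comb C lam h]
      exact Int.add_pos (mul_pos (by exact_mod_cast hi) hlr) (mul_pos (by exact_mod_cast hj) hls)
    have hlt : ∀ {q k}, Sub q → Sub k → (combos C q k).card < n := by
      intro q k hq hk
      rw [← hn]
      refine Finset.card_lt_card ⟨fun x hx => hsub hq hk ((mem_combos C).1 hx), fun hcon => ?_⟩
      obtain ⟨y, hy, hmin⟩ := Finset.exists_min_image _ (lev C lam) ⟨q, hq⟩
      obtain ⟨-, b, c, hb, hc, h⟩ := (mem_combos C).1 (hcon hy)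
      have hl := lev_comb C lam h
      have e1 : lev C lam q ≤ (b : ℤ) * lev C lam q :=
        le_mul_of_one_le_left (hpos hq).le (by exact_mod_cast hb)
      have e2 : lev C lam k ≤ (c : ℤ) * lev C lam k :=
        le_mul_of_one_le_left (hpos hk).le (by exact_mod_cast hc)
      have := hmin q hq
      have := hpos hk
      omega
    let S : PSys C K P :=
    { Sub := Sub
      f := Φ.Z
      rho := (scFull C hA (F := K)).rho.comp X.p
      sub_lt := fun h => ((mem_combos C).1 h).1
      sub_comm := fun {q k} hq hk c hc => by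
        obtain ⟨⟨hc0, hb, hb'⟩, hcf⟩ := C.commTerms_cf hc
        exact hsub hq hk ⟨hc0, _, _, hb, hb', hcf⟩
      rho_f := fun {x} hx t => by
        rw [MonoidHom.comp_apply, Φ.p_Z ((mem_combos C).1 hx).1]
        exact (scFull C hA (F := K)).rho_f (r := x) ((mem_combos C).1 hx).1 t
      add := fun {x} hx t u => Φ.add ((mem_combos C).1 hx).1 t u
      comm := fun {q k} hq hk e1 e2 t u =>
        ih _ (hlt hq hk) q k rfl ((mem_combos C).1 hq).1 ((mem_combos C).1 hk).1 e1 e2 t u }
    have hWmem : ∀ (p q : ℕ) (v w : K), combos C p q = combos C r s →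
        ((D.commWord K p q v w).map fun x => Φ.Z x.1 x.2).prod ∈ S.U lam 1 := by
      intro p q v w he
      refine Subgroup.list_prod_mem _ fun x hx => ?_
      simp only [commWord, List.map_map, List.mem_map] at hx
      obtain ⟨c, hc, rfl⟩ := hx
      obtain ⟨⟨hc0, hb, hb'⟩, hcf⟩ := C.commTerms_cf hc
      have hm : Sub c.1 := by
        show c.1 ∈ combos C r s
        rw [← he]
        exact (mem_combos C).2 ⟨hc0, _, _, hb, hb', hcf⟩
      exact S.f_mem_U lam hm (hpos hm) _
    have hpW : ∀ (p q : ℕ) (v w : K), X.p ((D.commWord K p q v w).map fun x => Φ.Z x.1 x.2).prod =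
        ((D.commWord K p q v w).map fun x => D.scGen K x.1 x.2).prod := by
      intro p q v w
      simp only [map_list_prod, List.map_map]
      congr 1
      refine List.map_congr_left fun x hx => ?_
      simp only [commWord, List.mem_map] at hx
      obtain ⟨c, hc, rfl⟩ := hx
      exact Φ.p_Z (C.commTerms_cf hc).1.1 _
    rw [show (Φ.Z s u)⁻¹ * (Φ.Z r t)⁻¹ * Φ.Z s u * Φ.Z r t =
      ((Φ.Z r t)⁻¹ * (Φ.Z s u)⁻¹ * Φ.Z r t * Φ.Z s u)⁻¹ by group, hR u t]
    refine S.eq_of_rho (inv_mem (hWmem s r u t hcomb)) (hWmem r s t u rfl) ?_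
    show (scFull C hA (F := K)).rho (X.p _) = (scFull C hA (F := K)).rho (X.p _)
    congr 1
    rw [map_inv, hpW, hpW, ← sc_comm hs hr h1' h2', ← sc_comm hr hs h1 h2]
    group
  · exact hR

theorem exists_section (h : ∀ r < D.nroots, ∀ s < D.nroots, s ≠ r → s ≠ D.neg r →
      TSep D K r s ∨ TSep D K s r ∨ R2 D Φ.Z r s) :
    ∃ f : D.SteinbergCover K →* P, ∀ x, X.p (f x) = x := by
  have hrels : ∀ x ∈ D.steinbergRelsAB K,
      FreeGroup.lift (fun q : Fin D.nroots × K => Φ.Z q.1 q.2) x = 1 := by
    have hX : ∀ {r : ℕ}, r < D.nroots → ∀ t,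
        FreeGroup.lift (fun q : Fin D.nroots × K => Φ.Z q.1 q.2) (D.stX r t) = Φ.Z r t :=
      fun {r} hr t => lift_stX Φ.Z hr t
    rintro x (⟨r, t, u, hr, rfl⟩ | ⟨r, s, t, u, hr, hs, h1, h2, rfl⟩)
    · rw [map_mul, map_mul, map_inv, hX hr, hX hr, hX hr, mul_inv_eq_one]
      exact Φ.add hr t u
    · simp only [map_mul, map_inv, hX hr, hX hs, mul_inv_eq_one]
      rw [Φ.r2_all C hA hL h hr hs h1 h2, stWord, map_list_prod, List.map_map]
      congr 1
      refine List.map_congr_left fun y hy => ?_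
      simp only [commWord, List.mem_map] at hy
      obtain ⟨c, hc, rfl⟩ := hy
      exact (hX (C.commTerms_cf hc).1.1 _).symm
  refine ⟨PresentedGroup.toGroup hrels, fun x => ?_⟩
  have : X.p.comp (PresentedGroup.toGroup hrels) = MonoidHom.id _ := by
    refine PresentedGroup.ext fun q => ?_
    obtain ⟨⟨r, hr⟩, t⟩ := q
    rw [MonoidHom.comp_apply, PresentedGroup.toGroup.of, Φ.p_Z hr]
    simp [scGen, stX, hr]
    rfl
  exact DFunLike.congr_fun this x

end Fam

end Cfsg.Agent.H38.St
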