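/-
The finite facts of St/LiftCert for the seven data.
-/
import Cfsg.Agent.H38.St.LiftCert
import Cfsg.Agent.Chevalley.All

set_option autoImplicit false
set_option maxRecDepth 100000

namespace Cfsg.Agent.H38.St

open Cfsg.Lie Cfsg.Agent.Chevalley

theorem liftG2 : LiftOK chevG2 :=
  liftOK_of_check G2.cert (w := G2.tab.w) rfl (by decide +kernel) (by decide +kernel) (by decide +kernel)

theorem liftB2 : LiftOK chevB2 :=
  liftOK_of_check B2.cert (w := B2.tab.w) rfl (by decide +kernel) (by decide +kernel) (by decide +kernel)

theorem liftD4 : LiftOK chevD4 :=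
  liftOK_of_check D4.cert (w := D4.tab.w) rfl (by decide +kernel) (by decide +kernel) (by decide +kernel)

theorem liftF4 : LiftOK chevF4 :=
  liftOK_of_check F4.cert (w := F4.tab.w) rfl (by decide +kernel) (by decide +kernel) (by decide +kernel)

theorem liftE6 : LiftOK chevE6 :=
  liftOK_of_check E6.cert (w := E6.tab.w) rfl (by decide +kernel) (by decide +kernel) (by decide +kernel)

theorem liftE7 : LiftOK chevE7 :=
  liftOK_of_check E7.cert (w := E7.tab.w) rfl (by decide +kernel) (by decide +kernel) (by decide +kernel)

theorem liftE8 : LiftOK chevE8 :=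
  liftOK_of_check E8.cert (w := E8.tab.w) rfl (by decide +kernel) (by decide +kernel) (by decide +kernel)

theorem liftOK_of_mem {D : ChevalleyDatum}
    (hD : D ∈ [chevG2, chevB2, chevD4, chevF4, chevE6, chevE7, chevE8]) : LiftOK D := by
  simp only [List.mem_cons, List.not_mem_nil, or_false] at hD
  rcases hD with rfl | rfl | rfl | rfl | rfl | rfl | rfl
  exacts [liftG2, liftB2, liftD4, liftF4, liftE6, liftE7, liftE8]

end Cfsg.Agent.H38.St
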