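/-
Tools for splitting central extensions of Steinberg's cover over the fields with 2, 3 and 4
elements.
-/
import Cfsg.Agent.H38.St.Family

set_option autoImplicit false

namespace Cfsg.Agent.H38.St

open Cfsg.Lie Cfsg.Lie.ChevalleyDatum Cfsg.Agent.Chevalley Cfsg.Agent.H38.CT

variable {D : ChevalleyDatum} {K : Type*} [Field K] {P : Type*} [Group P]
  (X : CExt P (D.SteinbergCover K))

/-- the root groups commute -/
def ComK (D : ChevalleyDatum) (K : Type*) [Field K] (r s : ℕ) : Prop :=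
  ∀ t u : K, Commute (D.scGen K r t) (D.scGen K s u)

/-- the lifts of the root groups commute -/
def Triv (r s : ℕ) : Prop := ∀ t u : K, X.cm (D.scGen K r t) (D.scGen K s u) = 1

/-- every element is a multiple of one -/
def PrimeK (K : Type*) [Field K] : Prop := ∀ x : K, ∃ k : ℕ, x = k

theorem Triv.symm {r s : ℕ} (h : Triv X r s) : Triv X s r := fun t u => X.cm_swap (h u t)

theorem comK_free {r s : ℕ} (hr : r < D.nroots) (h : Free D r s) : ComK D K r s :=
  sc_comm_eq_one hr h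

theorem sc_gen_zero {r : ℕ} (hr : r < D.nroots) : D.scGen K r 0 = 1 := by
  have h0 := sc_add (F := K) hr 0 0
  rw [add_zero] at h0
  exact mul_eq_left.1 h0

theorem sc_gen_inv {r : ℕ} (hr : r < D.nroots) (t : K) :
    (D.scGen K r t)⁻¹ = D.scGen K r (-t) := by
  refine inv_eq_of_mul_eq_one_right ?_
  rw [sc_add hr, add_neg_cancel, sc_gen_zero hr]

theorem tsep_of {a r s : ℕ} {n : ℕ} (hK : ∃ t : Finset K, n + 1 < t.card)
    (e0 : pairingSum D a r = 0) (h0 : pairingSum D a s ≠ 0) (h : (pairingSum D a s).natAbs ≤ n) :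
    TSep D K r s := by
  obtain ⟨c, hc⟩ := exists_unit_zpow' hK h0 h
  exact ⟨a, c, e0, hc⟩

theorem triv_sep (C : Cert D) (hA : Adj D) {r s : ℕ} (hr : r < D.nroots) (hs : s < D.nroots)
    (h : TSep D K r s) (hco : ComK D K r s) : Triv X r s := by
  intro t u
  obtain ⟨a, c, e0, hc⟩ := h
  obtain ⟨g, hg⟩ := exists_torus C hA a c
  set φ : K → P := fun u => X.cm (D.scGen K r t) (D.scGen K s u)
  have hadd : ∀ u v, φ (u + v) = φ u * φ v := fun u v => by
    simp only [φ]
    rw [← sc_add hs, X.cm_mul_right_comm (hco t v)]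
  set b : K := ((c ^ pairingSum D a s : Kˣ) : K)
  have hinv : ∀ u, φ (b * u) = φ u := fun u => by
    have e := X.cm_conj (X.p_lift g) (D.scGen K r t) (D.scGen K s u)
    rw [hg r hr, hg s hs] at e
    dsimp only at e
    rw [e0, zpow_zero, Units.val_one, one_mul] at e
    simp only [φ, b]
    rw [← e, ← (X.comm_ker (X.p_cm_comm (hco t u)) (X.lift g)).eq, mul_inv_cancel_right]
  have hb : b - 1 ≠ 0 := sub_ne_zero.2 fun e => hc (Units.ext e)
  have key := hinv (u / (b - 1))
  rw [show b * (u / (b - 1)) = u + u / (b - 1) by field_simp; ring, hadd] at key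
  exact mul_eq_right.1 key

theorem triv_self_prime (hP : PrimeK K) {r : ℕ} (hr : r < D.nroots) : Triv X r r := by
  intro t u
  obtain ⟨k, rfl⟩ := hP t
  obtain ⟨m, rfl⟩ := hP u
  have hpow : ∀ k : ℕ, D.scGen K r (k : K) = D.scGen K r 1 ^ k := fun k => by
    induction k with
    | zero => rw [Nat.cast_zero, sc_gen_zero hr, pow_zero]
    | succ k ih => rw [Nat.cast_succ, ← sc_add hr, ih, pow_succ]
  refine X.cm_eq_one (A := X.lift (D.scGen K r 1) ^ k) (B := X.lift (D.scGen K r 1) ^ m) ?_ ?_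
    ((Commute.refl _).pow_pow k m)
  · rw [map_pow, X.p_lift, hpow]
  · rw [map_pow, X.p_lift, hpow]

/-- a root which is a commutator of two root groups commuting with `x_r` -/
theorem triv_decomp {r s p q : ℕ} {c : ℤ} (h : One D p q s c) (hc : (c : K) ≠ 0)
    (hp : ComK D K r p) (hq : ComK D K r q) : Triv X r s := by
  intro t u
  refine X.cm_decomp (a := D.scGen K q (-(u / (c : K)))) (b := D.scGen K p 1) ?_ (hq _ _) (hp _ _)
  rw [one_comm h]
  congr 1
  field_simp

/-- a long word: one coefficient invertible, the other roots trivial with `r` -/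
theorem triv_reach (C : Cert D) {r p q : ℕ} (hr : r < D.nroots) (hp : p < D.nroots)
    (hq : q < D.nroots) (h1 : q ≠ p) (h2 : q ≠ D.neg p) (hcp : ComK D K r p) (hcq : ComK D K r q)
    {l₁ l₂ : List (ℕ × ℤ × ℕ × ℕ)} {d : ℕ × ℤ × ℕ × ℕ} (hl : D.commTerms p q = l₁ ++ d :: l₂)
    (hd : d.1 = r) (hC : d.2.1 = 1 ∨ d.2.1 = -1) (hij : d.2.2.1 = 1 ∨ d.2.2.2 = 1)
    (hl₁ : ∀ e ∈ l₁, Triv X r e.1) (hl₂ : ∀ e ∈ l₂, Triv X r e.1) : Triv X r r := by
  intro t u
  obtain ⟨v, w, hvw⟩ : ∃ v w : K, (d.2.1 : K) * (-v) ^ d.2.2.1 * w ^ d.2.2.2 = u := by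
    have hCC : (d.2.1 : K) * (d.2.1 : K) = 1 := by rcases hC with e | e <;> simp [e]
    rcases hij with e | e
    · refine ⟨-((d.2.1 : K) * u), 1, ?_⟩
      rw [e, pow_one, one_pow, mul_one, _root_.neg_neg, ← mul_assoc, hCC, one_mul]
    · refine ⟨-1, (d.2.1 : K) * u, ?_⟩
      rw [e, pow_one, _root_.neg_neg, one_pow, mul_one, ← mul_assoc, hCC, one_mul]
  set A := X.lift (D.scGen K r t)
  have hA : X.p A = D.scGen K r t := X.p_lift _
  set W := (D.commWord K p q v w).map fun x => X.lift (D.scGen K x.1 x.2)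
  set Q₁ := D.scGen K q (-w)
  set Q₂ := D.scGen K p (-v)
  have hM : X.p (X.cm Q₁ Q₂) = X.p W.prod := by
    rw [X.p_cm, map_list_prod]
    simp only [W, List.map_map, Function.comp_def, X.p_lift, Q₁, Q₂, sc_gen_inv hq, sc_gen_inv hp,
      _root_.neg_neg]
    rw [← sc_comm hp hq h1 h2, sc_gen_inv hq, sc_gen_inv hp]
  obtain ⟨z, hz, ez⟩ := X.eq_mul_ker hM.symm
  have hAM : Commute A W.prod := by
    rw [ez]
    exact (X.comm_cm' (by rw [hA]; exact hcq _ _) (by rw [hA]; exact hcp _ _)).mul_right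
      (X.comm_ker hz A).symm
  have hside : ∀ l : List (ℕ × ℤ × ℕ × ℕ), (∀ c ∈ l, Triv X r c.1) →
      Commute A ((l.map fun c =>
        X.lift (D.scGen K c.1 ((c.2.1 : K) * (-v) ^ c.2.2.1 * w ^ c.2.2.2))).prod) := by
    intro l h
    refine Commute.list_prod_right _ _ fun x hx => ?_
    simp only [List.mem_map] at hx
    obtain ⟨c, hc, rfl⟩ := hx
    exact X.commute_of_cm hA (X.p_lift _) (h c hc t _)
  simp only [W, commWord, hl, List.map_append, List.map_cons, List.map_map, Function.comp_def,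
    List.prod_append, List.prod_cons, hvw, hd] at hAM
  refine X.cm_eq_one hA (X.p_lift _) ?_
  have := ((hside l₁ hl₁).inv_right.mul_right hAM).mul_right (hside l₂ hl₂).inv_right
  rwa [inv_mul_cancel_left, mul_inv_cancel_right] at this

section Weyl

variable (C : Cert D) (hA : Adj D)
include C hA

theorem triv_w {i r s : ℕ} (hi : i < D.rank) (hr : r < D.nroots) (hs : s < D.nroots)
    (hco : ComK D K r s) (h : Triv X (C.w i r) (C.w i s)) : Triv X r s := by
  intro t u
  set S := scFull C hA (F := K)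
  have e := X.cm_conj (X.p_lift (S.nn i)) (D.scGen K r t) (D.scGen K s u)
  rw [show S.nn i * D.scGen K r t * (S.nn i)⁻¹ = _ from S.nn_conj hi hr t,
    show S.nn i * D.scGen K s u * (S.nn i)⁻¹ = _ from S.nn_conj hi hs u] at e
  change _ = X.cm (D.scGen K (C.w i r) _) (D.scGen K (C.w i s) _) at e
  rwa [h, ← (X.comm_ker (X.p_cm_comm (hco t u)) _).eq, mul_inv_cancel_right] at e

omit hA in
theorem free_w {i r s : ℕ} (hi : i < D.rank) (hr : r < D.nroots) (h : Free D r s) :
    Free D (C.w i r) (C.w i s) := by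
  obtain ⟨hs, h1, h2, hT⟩ := h
  refine ⟨(C.w_lt i hi s hs).1, fun e => h1 (C.w_inj hi hs hr e),
    fun e => h2 (C.w_inj hi hs (C.neg_lt hr) (by rw [C.w_neg hi hr]; exact e)), ?_⟩
  rw [C.commTerms_w hi hr hs, hT, List.map_nil]

end Weyl

/-! ### root groups with an additive equivariant lift -/

/-- such a lift -/
def RootZ (r : ℕ) (z : K → P) : Prop :=
  (∀ t, X.p (z t) = D.scGen K r t) ∧ (∀ t u, z t * z u = z (t + u)) ∧
    ∀ (G : P) (g : D.SteinbergCover K) (e : ℕ → Kˣ), X.p G = g → Scl D g e →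
      ∀ t, G * z t * G⁻¹ = z ((e r : K) * t)

theorem fam_of_roots (h : ∀ r < D.nroots, ∃ z, RootZ X r z) : Nonempty (Fam X) := by
  classical
  choose z hz using fun r : {r // r < D.nroots} => h r r.2
  refine ⟨⟨fun r t => if hr : r < D.nroots then z ⟨r, hr⟩ t else 1, ?_, ?_, ?_⟩⟩
  · intro r hr t
    simp only [dif_pos hr]
    exact (hz ⟨r, hr⟩).1 t
  · intro r hr t u
    simp only [dif_pos hr]
    exact (hz ⟨r, hr⟩).2.1 t u
  · intro G g e hG hg r hr t
    simp only [dif_pos hr]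
    exact (hz ⟨r, hr⟩).2.2 G g e hG hg t

theorem rootZ_scaler {r : ℕ} (hr : r < D.nroots) {h : D.SteinbergCover K} {e₀ : ℕ → Kˣ}
    (hh : Scl D h e₀) (hne : (e₀ r : K) ≠ 1) (hself : Triv X r r) : ∃ z, RootZ X r z := by
  have h0 : (e₀ r : K) - 1 ≠ 0 := sub_ne_zero.2 hne
  set z : K → P := fun t => X.cm h (D.scGen K r (t / ((e₀ r : K) - 1))) with hzdef
  have hp : ∀ t, X.p (z t) = D.scGen K r t := fun t => by
    simp only [z]
    rw [X.p_cm, hh r hr, mul_inv_eq_iff_eq_mul, sc_add hr]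
    congr 1
    field_simp
    ring
  refine ⟨z, hp, fun t u => ?_, fun G g e hG hg t => ?_⟩
  · rw [show z (t + u) = X.cm h (D.scGen K r (t / ((e₀ r : K) - 1)) *
        D.scGen K r (u / ((e₀ r : K) - 1))) by simp only [z]; rw [sc_add hr, ← add_div],
      X.cm_mul_right (X.p_lift _)]
    have hco : Commute (X.lift (D.scGen K r (t / ((e₀ r : K) - 1)))) (z u) :=
      X.commute_of_cm (X.p_lift _) (hp u) (hself _ _)
    show _ = z t * (_ * z u * _)
    rw [hco.eq, mul_inv_cancel_right]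
  · obtain ⟨w, hw, e1⟩ := scl_comm hg hh
    simp only [hzdef]
    rw [X.cm_conj hG, e1, hg r hr, ← mul_div_assoc]
    set v : K := (e r : K) * t / ((e₀ r : K) - 1)
    set Y := X.lift (D.scGen K r v)
    set H := X.lift h
    obtain ⟨c, hc, ec⟩ := X.eq_mul_ker (A := Y) (B := z v) (by rw [hp, X.p_lift])
    have hco : Commute (X.lift w) Y := by
      rw [ec]
      exact (X.comm_cm (by rw [X.p_lift]; exact hw)).mul_right (X.comm_ker hc _).symm
    rw [X.cm_eq (A := H * X.lift w) (B := Y) (by simp [H, X.p_lift]) (X.p_lift _),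
      X.cm_eq (A := H) (B := Y) (X.p_lift _) (X.p_lift _), mul_inv_rev]
    calc H * X.lift w * Y * ((X.lift w)⁻¹ * H⁻¹) * Y⁻¹
        = H * (X.lift w * Y * (X.lift w)⁻¹) * H⁻¹ * Y⁻¹ := by group
      _ = _ := by rw [hco.eq, mul_inv_cancel_right]

theorem rootZ_dec (C : Cert D) (hA : Adj D) {r p q : ℕ} {c : ℤ} (h : One D p q r c) {k : K}
    (hck : -((c : K) * k) = 1) (hu : ∀ a : Kˣ, (a : K) = 1 ∨ (a : K) = -1)
    (hpr : Triv X p r) (hqr : Triv X q r) :
    ∃ z, RootZ X r z ∧ ∀ t, z t = X.cm (D.scGen K q t) (D.scGen K p k) := by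
  obtain ⟨hp, hq, -, -, hr, -⟩ := id h
  have hcomm : ∀ v w : K, D.scGen K q v * D.scGen K p (k * w) * (D.scGen K q v)⁻¹ *
      (D.scGen K p (k * w))⁻¹ = D.scGen K r (v * w) := fun v w => by
    rw [one_comm h]
    congr 1
    linear_combination (v * w) * hck
  set F : K → K → P := fun v w => X.cm (D.scGen K q v) (D.scGen K p (k * w))
  have hFp : ∀ v w, X.p (F v w) = D.scGen K r (v * w) := fun v w => (X.p_cm _ _).trans (hcomm v w)
  have hl : ∀ v v' w, F (v + v') w = F v' w * F v w := fun v v' w => by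
    simp only [F]
    rw [← sc_add hq, X.cm_mul_left_of (by rw [hcomm]; exact hqr _ _)]
  have hr' : ∀ v w w', F v (w + w') = F v w * F v w' := fun v w w' => by
    simp only [F]
    rw [mul_add, ← sc_add hp, X.cm_mul_right (X.p_lift _),
      (X.commute_of_cm (X.p_lift _) (hFp v w') (hpr _ _)).eq, mul_inv_cancel_right]
  have hF0 : ∀ v, F v 0 = 1 := fun v => (mul_eq_left (a := F v 0)).1 (by rw [← hr', add_zero])
  have hF0' : ∀ w, F 0 w = 1 := fun w => (mul_eq_left (a := F 0 w)).1 (by rw [← hl, add_zero])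
  have hneg : ∀ v, F v (-1) = F (-v) 1 := fun v => by
    have a := hr' v 1 (-1)
    rw [add_neg_cancel, hF0] at a
    have b := hl (-v) v 1
    rw [neg_add_cancel, hF0'] at b
    exact mul_left_cancel (a.symm.trans b)
  refine ⟨fun t => F t 1, ⟨fun t => by rw [hFp, mul_one], fun t u => ?_, fun G g e hG hg t => ?_⟩,
    fun t => by simp only [F, mul_one]⟩
  · show F t 1 * F u 1 = F (t + u) 1
    rw [add_comm, hl]
  · show G * F t 1 * G⁻¹ = F ((e r : K) * t) 1
    have e1 : G * F t 1 * G⁻¹ = F ((e q : K) * t) (e p : K) := by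
      simp only [F]
      rw [X.cm_conj hG, hg q hq, hg p hp, mul_one, mul_comm k]
    have e2 : (e q : K) * t * (e p : K) = (e r : K) * t := by
      refine (scFull C hA (F := K)).f_eq_of_rho hr (congrArg _ ?_)
      show D.scGen K r _ = D.scGen K r _
      rw [← hg r hr, ← hFp, ← e1, map_mul, map_mul, map_inv, hG, hFp, mul_one]
    rw [e1]
    rcases hu (e p) with h1 | h1 <;> rw [h1] at e2 ⊢
    · rw [mul_one] at e2
      rw [e2]
    · rw [hneg, ← e2, mul_neg, mul_one]

/-! ### commutator formula for single pairs -/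

theorem lhs_eq (Φ : Fam X) {r s : ℕ} (hr : r < D.nroots) (hs : s < D.nroots) (t u : K) :
    (Φ.Z s u)⁻¹ * (Φ.Z r t)⁻¹ * Φ.Z s u * Φ.Z r t =
      X.cm (D.scGen K s (-u)) (D.scGen K r (-t)) := by
  rw [X.cm_eq (A := (Φ.Z s u)⁻¹) (B := (Φ.Z r t)⁻¹) (by rw [map_inv, Φ.p_Z hs, sc_gen_inv hs])
    (by rw [map_inv, Φ.p_Z hr, sc_gen_inv hr]), inv_inv, inv_inv]

theorem r2_triv (Φ : Fam X) {r s : ℕ} (hr : r < D.nroots) (h : Free D r s) (hT : Triv X r s) :
    R2 D Φ.Z r s := fun t u => by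
  rw [lhs_eq X Φ hr h.1, hT.symm, commWord, h.2.2.2]
  simp

theorem eq_of_prime (hP : PrimeK K) {f g : K → K → P}
    (f1 : ∀ a a' b, f (a + a') b = f a b * f a' b) (f2 : ∀ a b b', f a (b + b') = f a b * f a b')
    (g1 : ∀ a a' b, g (a + a') b = g a b * g a' b) (g2 : ∀ a b b', g a (b + b') = g a b * g a b')
    (h : f 1 1 = g 1 1) (a b : K) : f a b = g a b := by
  have h1 : ∀ k : ℕ, f 1 k = g 1 k := fun k => by
    induction k with
    | zero =>
      have e1 : f 1 0 = 1 := (mul_eq_left (a := f 1 0)).1 (by rw [← f2, add_zero])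
      have e2 : g 1 0 = 1 := (mul_eq_left (a := g 1 0)).1 (by rw [← g2, add_zero])
      rw [Nat.cast_zero, e1, e2]
    | succ k ih => rw [Nat.cast_succ, f2, g2, ih, h]
  obtain ⟨m, rfl⟩ := hP b
  obtain ⟨n, rfl⟩ := hP a
  induction n with
  | zero =>
    have e1 : f 0 (m : K) = 1 := (mul_eq_left (a := f 0 (m : K))).1 (by rw [← f1, add_zero])
    have e2 : g 0 (m : K) = 1 := (mul_eq_left (a := g 0 (m : K))).1 (by rw [← g1, add_zero])
    rw [Nat.cast_zero, e1, e2]
  | succ n ih => rw [Nat.cast_succ, f1, g1, ih, h1]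

theorem r2_one (hP : PrimeK K) (Φ : Fam X) {r s ρ : ℕ} {c : ℤ} (h : One D r s ρ c)
    (hsρ : Triv X s ρ) (hrρ : Triv X r ρ)
    (hunit : X.cm (D.scGen K s 1) (D.scGen K r 1) = Φ.Z ρ (-(c : K))) : R2 D Φ.Z r s := by
  obtain ⟨hr, hs, h1, h2, hρ, hT⟩ := id h
  intro t u
  rw [lhs_eq X Φ hr hs, commWord, hT]
  simp only [List.map_cons, List.map_nil, List.prod_cons, List.prod_nil, mul_one, pow_one]
  have key : ∀ a b : K, X.cm (D.scGen K s a) (D.scGen K r b) = Φ.Z ρ (-((c : K) * (a * b))) := by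
    intro a b
    refine eq_of_prime (P := P) hP (f := fun a b => X.cm (D.scGen K s a) (D.scGen K r b))
      (g := fun a b => Φ.Z ρ (-((c : K) * (a * b)))) ?_ ?_ ?_ ?_ (by simpa using hunit) a b
    · intro a a' b
      rw [add_comm, ← sc_add hs, X.cm_mul_left_of (by rw [one_comm h]; exact hsρ _ _)]
    · intro a b b'
      rw [← sc_add hr, X.cm_mul_right (X.p_lift _),
        (X.commute_of_cm (X.p_lift _) ((X.p_cm _ _).trans (one_comm h a b')) (hrρ _ _)).eq,
        mul_inv_cancel_right]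
    · intro a a' b
      rw [Φ.add hρ]
      congr 1
      ring
    · intro a b b'
      rw [Φ.add hρ]
      congr 1
      ring
  rw [key]
  congr 1
  ring

end Cfsg.Agent.H38.St
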