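/-
Splitting of central extensions of Steinberg's cover over the fields with 2, 3 and 4 elements, from
kernel-checkable certificates.
-/
import Cfsg.Agent.H38.St.SmallQ

set_option autoImplicit false

namespace Cfsg.Agent.H38.St

open Cfsg.Lie Cfsg.Lie.ChevalleyDatum Cfsg.Agent.Chevalley Cfsg.Agent.H38.CT

variable {D : ChevalleyDatum}

/-! ### certificates -/

/-- a coroot orthogonal to `r`, with small non-zero value at `s` -/
def SepN (D : ChevalleyDatum) (n r s : ℕ) : Prop :=
  ∃ a < D.nroots, pairingSum D a r = 0 ∧ pairingSum D a s ≠ 0 ∧ (pairingSum D a s).natAbs ≤ n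

def sepB (D : ChevalleyDatum) (n r s : ℕ) : Bool :=
  (List.range D.nroots).any fun a => (pairL D a r == 0) && !(pairL D a s == 0) &&
    decide ((pairL D a s).natAbs ≤ n)

theorem sep_of_b {n r s : ℕ} (h : sepB D n r s = true) : SepN D n r s := by
  simp only [sepB, List.any_eq_true, List.mem_range, Bool.and_eq_true, Bool.not_eq_true',
    beq_eq_false_iff_ne, beq_iff_eq, decide_eq_true_eq, pairL_eq] at h
  obtain ⟨a, ha, ⟨e1, e2⟩, e3⟩ := h
  exact ⟨a, ha, e1, e2, e3⟩

theorem sepN_all (C : Cert D) {w : ℕ → ℕ → ℕ} (hw : C.w = w) {n : ℕ}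
    (h : topAll D w (sepB D n) = true) :
    ∀ r < D.nroots, ∀ s < D.nroots, s ≠ r → s ≠ D.neg r → SepN D n r s := by
  refine pair_descent C ?_ (of_topAll C hw (fun r s _ _ e => sep_of_b e) h)
  rintro i hi r hr s hs ⟨a, ha, e1, e2, e3⟩
  rw [← C.pairing_w hi ha hr] at e1
  rw [← C.pairing_w hi ha hs] at e2 e3
  exact ⟨C.w i a, (C.w_lt i hi a ha).1, e1, e2, e3⟩

/-- every root is moved by a fundamental torus element with a small exponent -/
def chkMoveN (D : ChevalleyDatum) (n : ℕ) : Bool :=
  (List.range D.nroots).all fun r => (List.range D.rank).any fun i =>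
    !(D.cartan i r == 0) && decide ((D.cartan i r).natAbs ≤ n)

/-- the coefficient is a sign -/
def one1B (D : ChevalleyDatum) (p q r : ℕ) : Bool := oneB D p q r 1 || oneB D p q r (-1)

theorem one1_of_b {p q r : ℕ} (h : one1B D p q r = true) :
    ∃ c : ℤ, (c = 1 ∨ c = -1) ∧ One D p q r c := by
  simp only [one1B, Bool.or_eq_true] at h
  rcases h with h | h
  · exact ⟨1, Or.inl rfl, one_of_b h⟩
  · exact ⟨-1, Or.inr rfl, one_of_b h⟩

/-- free, or all coefficients even -/
def free2B (D : ChevalleyDatum) (r s : ℕ) : Bool :=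
  decide (s < D.nroots) && !(s == r) && !(s == D.neg r) &&
    (D.commTerms r s).all fun c => c.2.1 % 2 == 0

def chkReach (D : ChevalleyDatum) (tab : List (ℕ × ℕ)) : Bool :=
  (List.range D.nroots).all fun r =>
    let p := (tab.getD r (0, 0)).1
    let q := (tab.getD r (0, 0)).2
    let L := D.commTerms p q
    decide (p < D.nroots) && decide (q < D.nroots) && !(q == p) && !(q == D.neg p) &&
    free2B D r p && free2B D r q &&
    (List.range L.length).any fun k =>
      let c := L.getD k (0, 0, 0, 0)
      (c.1 == r) && ((c.2.1 == 1) || (c.2.1 == -1)) && ((c.2.2.1 == 1) || (c.2.2.2 == 1)) &&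
        (L.take k).all (fun d => free2B D r d.1) && (L.drop (k + 1)).all fun d => free2B D r d.1

def chkDec (D : ChevalleyDatum) (tab : List (ℕ × ℕ)) : Bool :=
  (List.range D.nroots).all fun r =>
    let p := (tab.getD r (0, 0)).1
    let q := (tab.getD r (0, 0)).2
    one1B D p q r && freeB D r p && freeB D r q

/-- commuting lifts from a decomposition -/
def decB (D : ChevalleyDatum) (r s : ℕ) : Bool :=
  !(freeB D r s) || (List.range D.nroots).any fun p =>
    match D.chainRoot (D.neg p) s 1 with
    | none => false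
    | some q => freeB D r p && freeB D r q && one1B D p q s

/-- free, or a one-term word -/
def shapeB (D : ChevalleyDatum) (r s : ℕ) : Bool :=
  freeB D r s ||
    match D.commTerms r s with
    | [(ρ, c, _, _)] =>
      oneB D r s ρ c && ((c == 1) || (c == -1)) && freeB D s ρ && freeB D r ρ
    | _ => false

/-- a pair with the same commutator as the tabulated one -/
def compatB (D : ChevalleyDatum) (tab : List (ℕ × ℕ)) (ρ r s : ℕ) : Bool :=
  freeB D s ρ && freeB D r ρ &&
    let p := (tab.getD ρ (0, 0)).1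
    let q := (tab.getD ρ (0, 0)).2
    (((r == p) && (s == q)) || ((r == q) && (s == p)) ||
      [(r, s), (s, r)].any fun xz => [(p, q), (q, p)].any fun yb =>
        match D.chainRoot (D.neg xz.1) yb.1 1 with
        | none => false
        | some a => one1B D yb.2 a xz.2 && one1B D a xz.1 yb.1 && freeB D xz.1 yb.2 &&
            freeB D yb.1 xz.2)

/-- all commutator decompositions of the roots which no reflection moves up are compatible -/
def chkCompat (D : ChevalleyDatum) (w : ℕ → ℕ → ℕ) (tab : List (ℕ × ℕ)) : Bool :=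
  (List.range D.nroots).all fun ρ => ((List.range D.rank).any fun i => decide (ρ < w i ρ)) ||
    (List.range D.nroots).all fun r => (D.chain.getD r #[]).toList.all fun e =>
      !((e.2.toList.head?.map Prod.fst) == some ρ) || compatB D tab ρ r e.1

/-- free, with lifts commuting by a torus argument -/
def baseB (D : ChevalleyDatum) (r s : ℕ) : Bool :=
  freeB D r s && (sepB D 1 r s || sepB D 1 s r)

/-- a sign cycle killing the commutator of two lifts -/
def killB (D : ChevalleyDatum) (r s : ℕ) : Bool :=
  freeB D r s && (List.range D.nroots).any fun a =>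
    match D.chainRoot a r 1, D.chainRoot (D.neg a) s 1 with
    | some c, some b =>
      match D.chainRoot (D.neg c) s 1 with
      | none => false
      | some a' =>
        match D.commTerms b a, D.commTerms a r, D.commTerms c a', D.commTerms a' r with
        | [(_, C₁, _, _)], [(_, C₂, _, _)], [(_, C₃, _, _)], [(_, C₄, _, _)] =>
          oneB D b a s C₁ && oneB D a r c C₂ && oneB D c a' s C₃ && oneB D a' r b C₄ &&
            ((C₁ == 1) || (C₁ == -1)) && ((C₂ == 1) || (C₂ == -1)) &&
            ((C₃ == 1) || (C₃ == -1)) && ((C₄ == 1) || (C₄ == -1)) && (C₁ * C₂ == C₃ * C₄) &&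
            baseB D r b && baseB D c s && baseB D r c && baseB D b s && freeB D c b
        | _, _, _, _ => false
    | _, _ => false

def chkSepKill (D : ChevalleyDatum) : Bool :=
  (List.range D.nroots).all fun r => (List.range D.nroots).all fun s =>
    (s == r) || (s == D.neg r) || sepB D 1 r s || killB D r s

/-- equal, or free with lifts commuting by a torus argument -/
def base0B (D : ChevalleyDatum) (r s : ℕ) : Bool := ((r == s) && decide (r < D.nroots)) || baseB D r s

/-- lifts commute by a two-term step -/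
def kill2B (D : ChevalleyDatum) (r s : ℕ) : Bool :=
  freeB D r s && (List.range D.nroots).any fun a => (List.range D.nroots).any fun b =>
    (oneB D b a s 2 || oneB D b a s (-2)) && base0B D r b && !(r == a) && !(r == D.neg a) &&
      (D.commTerms a r).all fun d => base0B D d.1 s && base0B D d.1 b && decide (d.1 < D.nroots)

/-- the roots are moved by a torus element or are commutators of orthogonal short roots -/
def chkDec2 (D : ChevalleyDatum) (tab : List (ℕ × ℕ)) : Bool :=
  (List.range D.nroots).all fun r =>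
    ((List.range D.rank).any fun i => (D.cartan i r == 1) || (D.cartan i r == -1)) ||
    (let p := (tab.getD r (0, 0)).1
     let q := (tab.getD r (0, 0)).2
     oneB D p q r 2 && oneB D q p r (-2) && baseB D p r && baseB D q r)

def pairs2B (D : ChevalleyDatum) (tab : List (ℕ × ℕ)) (r s : ℕ) : Bool :=
  sepB D 1 r s || sepB D 1 s r || kill2B D r s ||
    match D.commTerms r s with
    | [(ρ, _, _, _)] =>
      !((List.range D.rank).any fun i => (D.cartan i ρ == 1) || (D.cartan i ρ == -1)) &&
      decide (ρ < D.nroots) &&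
        ((((tab.getD ρ (0, 0)).1 == r) && ((tab.getD ρ (0, 0)).2 == s)) ||
          (((tab.getD ρ (0, 0)).1 == s) && ((tab.getD ρ (0, 0)).2 == r)))
    | _ => false

def chkPairs2 (D : ChevalleyDatum) (tab : List (ℕ × ℕ)) : Bool :=
  (List.range D.nroots).all fun r => (List.range D.nroots).all fun s =>
    (s == r) || (s == D.neg r) || pairs2B D tab r s

/-! ### proofs -/

variable {K : Type*} [Field K] (C : Cert D) (hA : Adj D) (hL : LiftOK D) {P : Type*} [Group P]
  (X : CExt P (D.SteinbergCover K))

theorem cm_one_left (y : D.SteinbergCover K) : X.cm 1 y = 1 :=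
  X.cm_eq_one (map_one X.p) (X.p_lift y) (Commute.one_left _)

theorem cm_one_right (x : D.SteinbergCover K) : X.cm x 1 = 1 :=
  X.cm_eq_one (X.p_lift x) (map_one X.p) (Commute.one_right _)

theorem tsep_of_sepN {n r s : ℕ} (hK : ∃ t : Finset K, n + 1 < t.card) (h : SepN D n r s) :
    TSep D K r s := by
  obtain ⟨a, -, e1, e2, e3⟩ := h
  exact tsep_of hK e1 e2 e3

include C hA in
theorem exists_scaler_root {n : ℕ} (hK : ∃ t : Finset K, n + 1 < t.card) {r : ℕ}
    (hr : r < D.nroots) {i : ℕ} (hi : i < D.rank) (h0 : D.cartan i r ≠ 0)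
    (hn : (D.cartan i r).natAbs ≤ n) (hself : Triv X r r) : ∃ z, RootZ X r z := by
  obtain ⟨c, hc⟩ := exists_unit_zpow' hK h0 hn
  exact rootZ_scaler X hr (scl_hS C hA hi c) (fun e => hc (Units.ext e)) hself

include C hA hL in
/-- four elements -/
theorem split_four [CharP K 2] (hK : ∃ t : Finset K, 3 < t.card) {w : ℕ → ℕ → ℕ} (hw : C.w = w)
    {tab : List (ℕ × ℕ)} (h1 : chkMoveN D 2 = true) (h2 : topAll D w (sepB D 2) = true)
    (h3 : chkReach D tab = true) : ∃ f : D.SteinbergCover K →* P, ∀ x, X.p (f x) = x := by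
  have hsep : ∀ r < D.nroots, ∀ s < D.nroots, s ≠ r → s ≠ D.neg r → TSep D K r s :=
    fun r hr s hs a b => tsep_of_sepN hK (sepN_all C hw h2 r hr s hs a b)
  have hcom : ∀ {r s}, r < D.nroots → free2B D r s = true →
      ComK D K r s ∧ s < D.nroots ∧ s ≠ r ∧ s ≠ D.neg r := by
    intro r s hr h
    simp only [free2B, Bool.and_eq_true, decide_eq_true_eq, Bool.not_eq_true', beq_eq_false_iff_ne,
      List.all_eq_true, beq_iff_eq] at h
    obtain ⟨⟨⟨hs, a⟩, b⟩, hev⟩ := h
    refine ⟨sc_comm_of_zero hr hs a b C fun c hc => ?_, hs, a, b⟩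
    rw [CharP.intCast_eq_zero_iff K 2]
    exact Int.dvd_of_emod_eq_zero (hev c hc)
  have hself : ∀ r < D.nroots, Triv X r r := by
    intro r hr
    simp only [chkReach, List.all_eq_true, List.any_eq_true, List.mem_range, Bool.and_eq_true,
      Bool.or_eq_true, decide_eq_true_eq, Bool.not_eq_true', beq_eq_false_iff_ne, beq_iff_eq] at h3
    obtain ⟨⟨⟨⟨⟨⟨hp, hq⟩, a⟩, b⟩, fp⟩, fq⟩, k, hk, ⟨⟨⟨hc, hC⟩, hij⟩, hl⟩, hr'⟩ := h3 r hr
    have ht : ∀ e : ℕ, free2B D r e = true → Triv X r e := fun e he => by
      obtain ⟨hco, he', a', b'⟩ := hcom hr he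
      exact triv_sep X C hA hr he' (hsep r hr e he' a' b') hco
    refine triv_reach X C hr hp hq a b (hcom hr fp).1 (hcom hr fq).1
      (l₁ := (D.commTerms _ _).take k) (l₂ := (D.commTerms _ _).drop (k + 1)) ?_ hc hC hij
      (fun e he => ht _ (hl e he)) (fun e he => ht _ (hr' e he))
    rw [List.getD_eq_getElem _ _ hk, ← List.drop_eq_getElem_cons hk, List.take_append_drop]
  obtain ⟨Φ⟩ := fam_of_roots X fun r hr => by
    simp only [chkMoveN, List.all_eq_true, List.mem_range, List.any_eq_true, Bool.and_eq_true,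
      Bool.not_eq_true', beq_eq_false_iff_ne, decide_eq_true_eq] at h1
    obtain ⟨i, hi, a, b⟩ := h1 r hr
    exact exists_scaler_root C hA X hK hr hi a b (hself r hr)
  exact Φ.exists_section C hA hL fun r hr s hs a b => Or.inl (hsep r hr s hs a b)

include C hA in
theorem triv_base (hK : ∃ t : Finset K, 2 < t.card) {r s : ℕ} (hr : r < D.nroots)
    (h : baseB D r s = true) : Free D r s ∧ Triv X r s := by
  simp only [baseB, Bool.and_eq_true, Bool.or_eq_true] at h
  have hf := free_of_b h.1
  refine ⟨hf, ?_⟩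
  rcases h.2 with e | e
  · exact triv_sep X C hA hr hf.1 (tsep_of_sepN hK (sep_of_b e)) (comK_free hr hf)
  · exact (triv_sep X C hA hf.1 hr (tsep_of_sepN hK (sep_of_b e))
      fun t u => (comK_free hr hf u t).symm).symm

include C hA in
theorem triv_kill [CharP K 3] (hP : PrimeK K) (hK : ∃ t : Finset K, 2 < t.card) {r s : ℕ}
    (hr : r < D.nroots) (h : killB D r s = true) : Free D r s ∧ Triv X r s := by
  simp only [killB, Bool.and_eq_true, List.any_eq_true, List.mem_range] at h
  obtain ⟨hfree, a, -, h⟩ := h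
  have hf := free_of_b hfree
  refine ⟨hf, ?_⟩
  split at h
  · rename_i c b _ _
    split at h
    · simp at h
    · rename_i a' _
      split at h
      · rename_i x1 C₁ y1 z1 x2 C₂ y2 z2 x3 C₃ y3 z3 x4 C₄ y4 z4 _ _ _ _
        simp only [Bool.and_eq_true, Bool.or_eq_true, beq_iff_eq] at h
        obtain ⟨⟨⟨⟨⟨⟨⟨⟨⟨⟨⟨⟨⟨o1, o2⟩, o3⟩, o4⟩, s1⟩, s2⟩, s3⟩, s4⟩, hsign⟩, b1⟩, b2⟩, b3⟩, b4⟩,
          hcb⟩ := h
        have O1 := one_of_b o1
        have O2 := one_of_b o2
        have O3 := one_of_b o3
        have O4 := one_of_b o4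
        obtain ⟨hb', ha'⟩ : b < D.nroots ∧ c < D.nroots := ⟨O1.1, O3.1⟩
        have sq : ∀ {c : ℤ}, c = 1 ∨ c = -1 → (c : K) * (c : K) = 1 := fun h => by
          rcases h with rfl | rfl <;> simp
        have hone : ∀ {y b' : ℕ} (v w : K), y < D.nroots → Free D y b' →
            X.cm (D.scGen K s 1) (D.scGen K y v * D.scGen K b' w * (D.scGen K y v)⁻¹ *
              (D.scGen K b' w)⁻¹) = 1 := by
          intro y b' v w hy hfy
          rw [(comK_free hy hfy v w).eq, mul_inv_cancel_right, mul_inv_cancel, cm_one_right]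
        set e : K := (C₁ : K) * (C₂ : K)
        have e34 : e = (C₃ : K) * (C₄ : K) := by
          simp only [e, ← Int.cast_mul, hsign]
        -- the two ways
        have w1 : X.cm (D.scGen K r 1) (D.scGen K s 1) = X.cm (D.scGen K c 1) (D.scGen K b e) := by
          refine X.step (a := D.scGen K a (-(C₂ : K))) ?_ ?_
            ((triv_base C hA X hK hr b1).2 _ _) ((triv_base C hA X hK ha' b2).2 _ _)
            (hone _ _ ha' (free_of_b hcb))
          · rw [one_comm O2]
            congr 1
            linear_combination sq s2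
          · rw [one_comm O1]
            congr 1
            simp only [e]
            linear_combination (C₁ : K) * (C₁ : K) * sq s2 + sq s1
        have w2 : X.cm (D.scGen K r 1) (D.scGen K s 1) = X.cm (D.scGen K b e) (D.scGen K c 1) := by
          refine X.step (a := D.scGen K a' (-((C₄ : K) * e))) ?_ ?_
            ((triv_base C hA X hK hr b3).2 _ _) ((triv_base C hA X hK hb' b4).2 _ _) ?_
          · rw [one_comm O4]
            congr 1
            linear_combination e * sq s4
          · rw [one_comm O3]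
            congr 1
            rw [e34]
            linear_combination (C₃ : K) * (C₃ : K) * sq s4 + sq s3
          · have := (comK_free ha' (free_of_b hcb) (1 : K) e)
            rw [this.symm.eq, mul_inv_cancel_right, mul_inv_cancel, cm_one_right]
        have hco := comK_free (K := K) hr hf
        set δ := X.cm (D.scGen K r 1) (D.scGen K s 1)
        have hsq : δ * δ = 1 := by
          nth_rewrite 2 [w2]
          rw [← X.cm_inv, ← w1, mul_inv_cancel]
        have hcube : δ * δ * δ = 1 := by
          simp only [δ, ← X.cm_mul_right_comm (hco 1 1), sc_add hf.1]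
          rw [show (1 : K) + 1 + 1 = ((3 : ℕ) : K) by norm_num, CharP.cast_eq_zero, sc_gen_zero hf.1,
            cm_one_right]
        have hδ : δ = 1 := by rw [hsq, one_mul] at hcube; exact hcube
        intro t u
        refine eq_of_prime (P := P) hP (f := fun t u => X.cm (D.scGen K r t) (D.scGen K s u))
          (g := fun _ _ => 1) ?_ ?_ (fun _ _ _ => (mul_one 1).symm) (fun _ _ _ => (mul_one 1).symm)
          hδ t u
        · intro t t' u
          rw [← sc_add hr, X.cm_mul_left_comm (hco t u) (hco t' u)]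
        · intro t u u'
          rw [← sc_add hf.1, X.cm_mul_right_comm (hco t u')]
      · simp at h
  · simp at h

include C hA hL in
/-- three elements, every root moved -/
theorem split_three [CharP K 3] (hP : PrimeK K) (hK : ∃ t : Finset K, 2 < t.card)
    (h1 : chkMoveN D 1 = true)
    (h2 : ∀ r < D.nroots, ∀ s < D.nroots, s ≠ r → s ≠ D.neg r →
      SepN D 1 r s ∨ killB D r s = true) :
    ∃ f : D.SteinbergCover K →* P, ∀ x, X.p (f x) = x := by
  obtain ⟨Φ⟩ := fam_of_roots X fun r hr => by
    simp only [chkMoveN, List.all_eq_true, List.mem_range, List.any_eq_true, Bool.and_eq_true,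
      Bool.not_eq_true', beq_eq_false_iff_ne, decide_eq_true_eq] at h1
    obtain ⟨i, hi, a, b⟩ := h1 r hr
    exact exists_scaler_root C hA X hK hr hi a b (triv_self_prime X hP hr)
  refine Φ.exists_section C hA hL fun r hr s hs a b => ?_
  rcases h2 r hr s hs a b with h | h
  · exact Or.inl (tsep_of_sepN hK h)
  · have := triv_kill C hA X hP hK hr h
    exact Or.inr (Or.inr (r2_triv X Φ hr this.1 this.2))

include C hA hL in
/-- as `split_three`, with the pairs checked only up to the action of the Weyl group -/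
theorem split_three' [CharP K 3] (hP : PrimeK K) (hK : ∃ t : Finset K, 2 < t.card)
    {w : ℕ → ℕ → ℕ} (hw : C.w = w) (h1 : chkMoveN D 1 = true)
    (h2 : topAll D w (fun r s => sepB D 1 r s || killB D r s) = true) :
    ∃ f : D.SteinbergCover K →* P, ∀ x, X.p (f x) = x := by
  have hall : ∀ r < D.nroots, ∀ s < D.nroots, s ≠ r → s ≠ D.neg r →
      SepN D 1 r s ∨ (Free D r s ∧ Triv X r s) := by
    refine pair_descent C ?_ (of_topAll C hw ?_ h2)
    · rintro i hi r hr s hs (⟨a, ha, e1, e2, e3⟩ | ⟨hf, hT⟩)
      · rw [← C.pairing_w hi ha hr] at e1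
        rw [← C.pairing_w hi ha hs] at e2 e3
        exact Or.inl ⟨C.w i a, (C.w_lt i hi a ha).1, e1, e2, e3⟩
      · have hf' := free_w C hi (C.w_lt i hi r hr).1 hf
        rw [(C.w_lt i hi r hr).2, (C.w_lt i hi s hs).2] at hf'
        exact Or.inr ⟨hf', triv_w X C hA hi hr hs (comK_free hr hf') hT⟩
    · intro r s hr hs h
      simp only [Bool.or_eq_true] at h
      rcases h with h | h
      · exact Or.inl (sep_of_b h)
      · exact Or.inr (triv_kill C hA X hP hK hr h)
  obtain ⟨Φ⟩ := fam_of_roots X fun r hr => by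
    simp only [chkMoveN, List.all_eq_true, List.mem_range, List.any_eq_true, Bool.and_eq_true,
      Bool.not_eq_true', beq_eq_false_iff_ne, decide_eq_true_eq] at h1
    obtain ⟨i, hi, a, b⟩ := h1 r hr
    exact exists_scaler_root C hA X hK hr hi a b (triv_self_prime X hP hr)
  refine Φ.exists_section C hA hL fun r hr s hs a b => ?_
  rcases hall r hr s hs a b with h | ⟨hf, hT⟩
  · exact Or.inl (tsep_of_sepN hK h)
  · exact Or.inr (Or.inr (r2_triv X Φ hr hf hT))

theorem sepKill_of_check (h : chkSepKill D = true) :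
    ∀ r < D.nroots, ∀ s < D.nroots, s ≠ r → s ≠ D.neg r → SepN D 1 r s ∨ killB D r s = true := by
  intro r hr s hs a b
  simp only [chkSepKill, List.all_eq_true, List.mem_range, Bool.or_eq_true, beq_iff_eq] at h
  rcases h r hr s hs with ((e | e) | e) | e
  · exact absurd e a
  · exact absurd e b
  · exact Or.inl (sep_of_b e)
  · exact Or.inr e

/-- a family with prescribed further properties -/
theorem fam_of_roots' {Q : ℕ → (K → P) → Prop}
    (h : ∀ r < D.nroots, ∃ z, RootZ X r z ∧ Q r z) : ∃ Φ : Fam X, ∀ r < D.nroots, Q r (Φ.Z r) := by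
  classical
  choose z hz hq using fun r : {r // r < D.nroots} => h r r.2
  have e : ∀ r (hr : r < D.nroots), (fun t => if h : r < D.nroots then z ⟨r, h⟩ t else 1) =
      z ⟨r, hr⟩ := fun r hr => by funext t; rw [dif_pos hr]
  refine ⟨⟨fun r t => if hr : r < D.nroots then z ⟨r, hr⟩ t else 1, ?_, ?_, ?_⟩, fun r hr => ?_⟩
  · intro r hr t
    simp only [dif_pos hr]
    exact (hz ⟨r, hr⟩).1 t
  · intro r hr t u
    simp only [dif_pos hr]
    exact (hz ⟨r, hr⟩).2.1 t u
  · intro G g e hG hg r hr t
    simp only [dif_pos hr]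
    exact (hz ⟨r, hr⟩).2.2 G g e hG hg t
  · show Q r (fun t => if h : r < D.nroots then z ⟨r, h⟩ t else 1)
    rw [e r hr]
    exact hq ⟨r, hr⟩

include C hA hL in
/-- two elements -/
theorem split_two (hK : ∀ x : K, x = 0 ∨ x = 1) {w : ℕ → ℕ → ℕ} (hw : C.w = w)
    {tab : List (ℕ × ℕ)} (h1 : chkDec D tab = true) (h2 : topAll D w (decB D) = true)
    (h3 : topAll D w (shapeB D) = true) (h4 : chkCompat D w tab = true) :
    ∃ f : D.SteinbergCover K →* P, ∀ x, X.p (f x) = x := by
  have hu : ∀ a : Kˣ, (a : K) = 1 ∨ (a : K) = -1 := fun a =>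
    Or.inl ((hK a).resolve_left a.ne_zero)
  have hP : PrimeK K := fun x => by
    rcases hK x with rfl | rfl
    · exact ⟨0, Nat.cast_zero.symm⟩
    · exact ⟨1, Nat.cast_one.symm⟩
  have hm1 : (-1 : K) = 1 := (hK (-1)).resolve_left (neg_ne_zero.2 one_ne_zero)
  have hsgn : ∀ {c : ℤ}, c = 1 ∨ c = -1 → (c : K) = 1 := fun h => by
    rcases h with rfl | rfl <;> simp [hm1]
  -- free pairs
  have hfree : ∀ r < D.nroots, ∀ s < D.nroots, s ≠ r → s ≠ D.neg r → Free D r s → Triv X r s := by
    refine pair_descent C ?_ (of_topAll C hw ?_ h2)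
    · intro i hi r hr s hs hQ hf
      exact triv_w X C hA hi hr hs (comK_free hr hf) (hQ (free_w C hi hr hf))
    · intro r s hr hs h hf
      have hb : freeB D r s = true := by
        simp [freeB, hf.1, hf.2.1, hf.2.2.1, hf.2.2.2]
      simp only [decB, hb, Bool.not_true, Bool.false_or, List.any_eq_true, List.mem_range] at h
      obtain ⟨p, -, h⟩ := h
      split at h
      · simp at h
      · simp only [Bool.and_eq_true] at h
        obtain ⟨c, hc, ho⟩ := one1_of_b h.2
        exact triv_decomp X ho (by rw [hsgn hc]; exact one_ne_zero)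
          (comK_free hr (free_of_b h.1.1)) (comK_free hr (free_of_b h.1.2))
  have hT : ∀ {r s}, r < D.nroots → freeB D r s = true → Triv X r s := fun {r s} hr h =>
    hfree r hr s (free_of_b h).1 (free_of_b h).2.1 (free_of_b h).2.2.1 (free_of_b h)
  obtain ⟨Φ, hΦ⟩ := fam_of_roots' X (Q := fun r z => ∀ t,
      z t = X.cm (D.scGen K (tab.getD r (0, 0)).2 t) (D.scGen K (tab.getD r (0, 0)).1 1))
    fun r hr => by
      simp only [chkDec, List.all_eq_true, List.mem_range, Bool.and_eq_true] at h1
      obtain ⟨⟨h, fp⟩, fq⟩ := h1 r hr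
      obtain ⟨c, hc, ho⟩ := one1_of_b h
      exact rootZ_dec X C hA ho (k := 1) (by rw [hsgn hc, mul_one, hm1]) hu
        (hT hr fp).symm (hT hr fq).symm
  -- the shape of the words
  set One1 : ℕ → ℕ → ℕ → Prop := fun r s ρ => ∃ c : ℤ, (c = 1 ∨ c = -1) ∧ One D r s ρ c with hOne1
  have honew : ∀ {i r s ρ}, i < D.rank → One1 r s ρ → One1 (C.w i r) (C.w i s) (C.w i ρ) := by
    rintro i r s ρ hi ⟨c, hc, hr, hs, g1, g2, hρ, hT'⟩
    refine ⟨C.sg i ρ * C.sg i r * C.sg i s * c, ?_, (C.w_lt i hi r hr).1, (C.w_lt i hi s hs).1,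
      fun e => g1 (C.w_inj hi hs hr e),
      fun e => g2 (C.w_inj hi hs (C.neg_lt hr) (by rw [C.w_neg hi hr]; exact e)),
      (C.w_lt i hi ρ hρ).1, ?_⟩
    · rcases hc with rfl | rfl <;> rcases C.sg_pm i ρ with x | x <;>
        rcases C.sg_pm i r with y | y <;> rcases C.sg_pm i s with z | z <;> simp [x, y, z]
    · rw [C.commTerms_w hi hr hs, hT']
      simp [Cert.trTerm]
  have hfreew : ∀ {i r s}, i < D.rank → r < D.nroots → s < D.nroots →
      Free D (C.w i r) (C.w i s) → Free D r s := by
    intro i r s hi hr hs h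
    have := free_w C hi (C.w_lt i hi r hr).1 h
    rwa [(C.w_lt i hi r hr).2, (C.w_lt i hi s hs).2] at this
  have hshape : ∀ r < D.nroots, ∀ s < D.nroots, s ≠ r → s ≠ D.neg r →
      Free D r s ∨ ∃ ρ, One1 r s ρ ∧ Free D s ρ ∧ Free D r ρ := by
    refine pair_descent C ?_ (of_topAll C hw ?_ h3)
    · rintro i hi r hr s hs (h | ⟨ρ, h, g1, g2⟩)
      · exact Or.inl (hfreew hi hr hs h)
      · have hw' := honew hi h
        rw [(C.w_lt i hi r hr).2, (C.w_lt i hi s hs).2] at hw'
        have hρ : ρ < D.nroots := h.choose_spec.2.2.2.2.2.1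
        have e1 := free_w C hi (C.w_lt i hi s hs).1 g1
        have e2 := free_w C hi (C.w_lt i hi r hr).1 g2
        rw [(C.w_lt i hi s hs).2] at e1
        rw [(C.w_lt i hi r hr).2] at e2
        exact Or.inr ⟨_, hw', e1, e2⟩
    · intro r s hr hs h
      simp only [shapeB, Bool.or_eq_true] at h
      rcases h with h | h
      · exact Or.inl (free_of_b h)
      split at h
      · rename_i ρ c _ _ _
        simp only [Bool.and_eq_true, Bool.or_eq_true, beq_iff_eq] at h
        exact Or.inr ⟨ρ, ⟨c, h.1.1.2, one_of_b h.1.1.1⟩, free_of_b h.1.2, free_of_b h.2⟩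
      · simp at h
  set φ : ℕ → ℕ → P := fun x y => X.cm (D.scGen K x 1) (D.scGen K y 1)
  -- equal commutators have equal lifts
  have hcompat : ∀ ρ < D.nroots, ∀ r s r' s', One1 r s ρ → One1 r' s' ρ → φ s r = φ s' r' := by
    intro ρ
    induction hn : D.nroots - ρ using Nat.strong_induction_on generalizing ρ with
    | _ n ih =>
    intro hρ r s r' s' h h'
    by_cases htop : ∃ i < D.rank, ρ < C.w i ρ
    · obtain ⟨i, hi, hlt⟩ := htop
      have e := ih _ (by omega) (C.w i ρ) rfl (C.w_lt i hi ρ hρ).1 _ _ _ _ (honew hi h) (honew hi h')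
      set G := X.lift ((scFull C hA (F := K)).nn i)
      have hconj : ∀ {x y}, x < D.nroots → y < D.nroots →
          G * φ x y * G⁻¹ = φ (C.w i x) (C.w i y) := by
        intro x y hx hy
        have hsg : ∀ z, (C.sg i z : K) * 1 = 1 := fun z => by rw [mul_one]; exact hsgn (C.sg_pm i z)
        simp only [φ, G]
        rw [X.cm_conj (X.p_lift _)]
        refine congrArg₂ X.cm ?_ ?_
        · have := (scFull C hA (F := K)).nn_conj hi hx (1 : K)
          rw [hsg] at this
          exact this
        · have := (scFull C hA (F := K)).nn_conj hi hy (1 : K)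
          rw [hsg] at this
          exact this
      obtain ⟨c, -, O⟩ := h
      obtain ⟨c', -, O'⟩ := h'
      rw [← hconj O.2.1 O.1, ← hconj O'.2.1 O'.1] at e
      exact mul_left_cancel (mul_right_cancel e)
    · -- a root which no reflection moves up
      have hρ' := hρ
      set Z1 := Φ.Z ρ 1
      have hZ : Z1⁻¹ = Z1 := by
        refine inv_eq_of_mul_eq_one_right ?_
        rw [Φ.add hρ]
        have h0 := Φ.add hρ 0 0
        rw [add_zero] at h0
        rw [show (1 : K) + 1 = 0 by linear_combination -hm1]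
        exact mul_eq_left.1 h0
      have hsym : ∀ x y, φ x y = Z1 → φ y x = Z1 := fun x y h => by
        rw [← hZ, ← h]
        exact (X.cm_inv _ _).symm
      set p := (tab.getD ρ (0, 0)).1
      set q := (tab.getD ρ (0, 0)).2
      have hqp : φ q p = Z1 := (hΦ ρ hρ 1).symm
      have hpq : φ p q = Z1 := hsym q p hqp
      have hρgen : D.scGen K ρ 1 = X.p Z1 := (Φ.p_Z hρ 1).symm
      -- one step
      have hstep : ∀ x z y b' : ℕ, x < D.nroots → φ y b' = Z1 → Triv X z ρ →
          (match D.chainRoot (D.neg x) y 1 with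
            | none => false
            | some a => one1B D b' a z && one1B D a x y && freeB D x b' && freeB D y z) = true →
          φ x z = Z1 := by
        intro x z y b' hx hy hz h
        split at h
        · simp at h
        · rename_i a _
          simp only [Bool.and_eq_true] at h
          obtain ⟨⟨⟨h1', h2'⟩, h3'⟩, h4'⟩ := h
          obtain ⟨c1, hc1, O1⟩ := one1_of_b h1'
          obtain ⟨c2, hc2, O2⟩ := one1_of_b h2'
          rw [← hy]
          refine X.step (a := D.scGen K a 1) ?_ ?_ (hT hx h3' _ _)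
            (hT O2.2.2.2.2.1 h4' _ _) ?_
          · rw [one_comm O2, hsgn hc2, mul_one, mul_one, hm1]
          · rw [one_comm O1, hsgn hc1, mul_one, mul_one, hm1]
          · rw [← X.p_cm, show X.cm (D.scGen K y 1) (D.scGen K b' 1) = Z1 from hy, ← hρgen]
            exact hz _ _
      suffices key : ∀ {r s}, One1 r s ρ → φ s r = Z1 from (key h).trans (key h').symm
      rintro r s ⟨c, -, hr, hs, -, -, -, hT'⟩
      have hmem : ((ρ, c, 1, 1) : ℕ × ℤ × ℕ × ℕ) ∈ D.commTerms r s := by rw [hT']; simp
      have hroot : D.chainRoot r s 1 = some ρ := by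
        have h := mem_commTerms hmem
        simp only [cands, List.mem_cons, List.not_mem_nil, or_false, Prod.mk.injEq] at h
        rcases h with h | h | h | h | h | h | h <;> first | exact h.1.symm | omega
      obtain ⟨e, he, hes, hhead⟩ : ∃ e ∈ (D.chain.getD r #[]).toList, e.1 = s ∧
          e.2.toList.head?.map Prod.fst = some ρ := by
        unfold chainRoot chainEntry at hroot
        split at hroot
        · simp at hroot
        · rename_i e hfind
          refine ⟨e, List.mem_of_find?_eq_some hfind, by simpa using List.find?_some hfind, ?_⟩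
          rw [List.head?_eq_getElem?]
          exact hroot
      simp only [chkCompat, List.all_eq_true, List.any_eq_true, List.mem_range, Bool.or_eq_true,
        decide_eq_true_eq, Bool.not_eq_true', beq_eq_false_iff_ne] at h4
      have h4' := ((h4 ρ hρ).resolve_left (hw ▸ htop) r hr e he).resolve_left (not_not.2 hhead)
      rw [hes] at h4'
      simp only [compatB, Bool.and_eq_true, Bool.or_eq_true, beq_iff_eq, List.any_cons,
        List.any_nil, Bool.or_false] at h4'
      obtain ⟨⟨f1, f2⟩, e'⟩ := h4'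
      have t1 := hT hs f1
      have t2 := hT hr f2
      rcases e' with (⟨e1, e2⟩ | ⟨e1, e2⟩) | ((e' | e') | (e' | e'))
      · rw [e1, e2]; exact hqp
      · rw [e1, e2]; exact hpq
      · exact hsym _ _ (hstep r s p q hr hpq t1 e')
      · exact hsym _ _ (hstep r s q p hr hqp t1 e')
      · exact hstep s r p q hs hpq t2 e'
      · exact hstep s r q p hs hqp t2 e'
  refine Φ.exists_section C hA hL fun r hr s hs a b => Or.inr (Or.inr ?_)
  rcases hshape r hr s hs a b with h | ⟨ρ, hO, g1, g2⟩
  · exact r2_triv X Φ hr h (hfree r hr s hs a b h)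
  obtain ⟨c, hc, O⟩ := id hO
  have hρ : ρ < D.nroots := O.2.2.2.2.1
  refine r2_one X hP Φ O (hfree s hs ρ hρ g1.2.1 g1.2.2.1 g1) (hfree r hr ρ hρ g2.2.1 g2.2.2.1 g2) ?_
  rw [hsgn hc, hm1, hΦ ρ hρ 1]
  simp only [chkDec, List.all_eq_true, List.mem_range, Bool.and_eq_true] at h1
  exact hcompat ρ hρ r s _ _ hO (one1_of_b (h1 ρ hρ).1.1)

include C hA hL in
/-- three elements, long roots fixed by the torus -/
theorem split_three_B [CharP K 3] (hK' : ∀ x : K, x = 0 ∨ x = 1 ∨ x = -1)
    (hK : ∃ t : Finset K, 2 < t.card) {tab : List (ℕ × ℕ)} (h1 : chkDec2 D tab = true)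
    (h2 : chkPairs2 D tab = true) : ∃ f : D.SteinbergCover K →* P, ∀ x, X.p (f x) = x := by
  have h3 : ((3 : ℕ) : K) = 0 := CharP.cast_eq_zero K 3
  have h3' : (3 : K) = 0 := by exact_mod_cast h3
  have hP : PrimeK K := fun x => by
    rcases hK' x with rfl | rfl | rfl
    · exact ⟨0, Nat.cast_zero.symm⟩
    · exact ⟨1, Nat.cast_one.symm⟩
    · exact ⟨2, by push_cast; linear_combination -h3'⟩
  have hu : ∀ a : Kˣ, (a : K) = 1 ∨ (a : K) = -1 := fun a => (hK' a).resolve_left a.ne_zero
  have hb0 : ∀ {r s}, base0B D r s = true → r < D.nroots → Triv X r s := by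
    intro r s h hr
    simp only [base0B, Bool.or_eq_true, Bool.and_eq_true, beq_iff_eq] at h
    rcases h with ⟨rfl, -⟩ | h
    · exact triv_self_prime X hP hr
    · exact (triv_base C hA X hK hr h).2
  simp only [chkDec2, List.all_eq_true, List.mem_range, Bool.or_eq_true, Bool.and_eq_true] at h1
  obtain ⟨Φ, hΦ⟩ := fam_of_roots' X (Q := fun r z =>
      ((List.range D.rank).any fun i => (D.cartan i r == 1) || (D.cartan i r == -1)) = false →
      ∀ t, z t = X.cm (D.scGen K (tab.getD r (0, 0)).2 t) (D.scGen K (tab.getD r (0, 0)).1 1))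
    fun r hr => by
      by_cases hm : ((List.range D.rank).any fun i => (D.cartan i r == 1) || (D.cartan i r == -1)) = true
      · have hm' := hm
        simp only [List.any_eq_true, List.mem_range, Bool.or_eq_true, beq_iff_eq] at hm'
        obtain ⟨i, hi, hpm⟩ := hm'
        obtain ⟨z, hz⟩ := exists_scaler_root C hA X (n := 1) hK hr hi
          (by omega) (by omega) (triv_self_prime X hP hr)
        exact ⟨z, hz, fun h => absurd hm (by simp [h])⟩
      · obtain ⟨⟨⟨ho, -⟩, bp⟩, bq⟩ := (h1 r hr).resolve_left hm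
        obtain ⟨z, hz, hzv⟩ := rootZ_dec X C hA (one_of_b ho) (k := 1)
          (by push_cast; linear_combination -h3') hu
          (triv_base C hA X hK (one_of_b ho).1 bp).2 (triv_base C hA X hK (one_of_b ho).2.1 bq).2
        exact ⟨z, hz, fun _ => hzv⟩
  refine Φ.exists_section C hA hL fun r hr s hs a b => ?_
  simp only [chkPairs2, List.all_eq_true, List.mem_range, Bool.or_eq_true, beq_iff_eq] at h2
  rcases h2 r hr s hs with (e | e) | e
  · exact absurd e a
  · exact absurd e b
  simp only [pairs2B, Bool.or_eq_true] at e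
  rcases e with ((e | e) | e) | e
  · exact Or.inl (tsep_of_sepN hK (sep_of_b e))
  · exact Or.inr (Or.inl (tsep_of_sepN hK (sep_of_b e)))
  · refine Or.inr (Or.inr ?_)
    simp only [kill2B, Bool.and_eq_true, Bool.or_eq_true, List.any_eq_true, List.mem_range,
      List.all_eq_true, Bool.not_eq_true', beq_eq_false_iff_ne, decide_eq_true_eq] at e
    obtain ⟨hf, a', ha', b', hb', ⟨⟨⟨ho, hrb⟩, hne1⟩, hne2⟩, hterms⟩ := e
    have hf' := free_of_b hf
    refine r2_triv X Φ hr hf' ?_
    obtain ⟨c, hc, O⟩ : ∃ c : ℤ, (c : K) ≠ 0 ∧ One D b' a' s c := by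
      rcases ho with h | h
      · exact ⟨2, by push_cast; intro e; exact one_ne_zero (show (1 : K) = 0 by linear_combination h3' - e),
          one_of_b h⟩
      · exact ⟨-2, by push_cast; intro e; exact one_ne_zero (show (1 : K) = 0 by linear_combination h3' + e),
          one_of_b h⟩
    intro t u
    set v : K := -(u / (c : K))
    set y := D.scGen K r t * D.scGen K a' v * (D.scGen K r t)⁻¹ * (D.scGen K a' v)⁻¹ with hydef
    have hy : y = ((D.commWord K a' r (-v) (-t)).map fun x => D.scGen K x.1 x.2).prod := by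
      rw [← sc_comm ha' hr hne1 hne2, hydef, sc_gen_inv hr, sc_gen_inv ha', sc_gen_inv ha',
        sc_gen_inv hr, _root_.neg_neg, _root_.neg_neg]
    set Y := ((D.commWord K a' r (-v) (-t)).map fun x => X.lift (D.scGen K x.1 x.2)).prod
    have hYp : X.p Y = y := by
      rw [hy, map_list_prod, List.map_map]
      simp [Function.comp_def, X.p_lift]
    have hYc : ∀ z : ℕ, ∀ w : K, (∀ d ∈ D.commTerms a' r, base0B D d.1 z = true) →
        Commute Y (X.lift (D.scGen K z w)) := by
      intro z w hd
      refine Commute.list_prod_left _ _ fun x hx => ?_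
      simp only [commWord, List.map_map, List.mem_map] at hx
      obtain ⟨d, hd', rfl⟩ := hx
      exact X.commute_of_cm (X.p_lift _) (X.p_lift _) (hb0 (hd d hd') (hterms d hd').2 _ _)
    have hys : X.cm y (D.scGen K s u) = 1 :=
      X.cm_eq_one hYp (X.p_lift _) (hYc s u fun d hd => (hterms d hd).1.1)
    have hyb : X.cm y (D.scGen K b' 1) = 1 :=
      X.cm_eq_one hYp (X.p_lift _) (hYc b' 1 fun d hd => (hterms d hd).1.2)
    rw [X.step (y := y) rfl ?_ (hb0 hrb hr _ _) hys ?_, hyb]
    · rw [one_comm O]
      congr 1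
      simp only [v]
      field_simp
    · rw [← X.p_cm, hyb, map_one, cm_one_right]
  · refine Or.inr (Or.inr ?_)
    split at e
    · rename_i ρ c i j _
      simp only [Bool.and_eq_true, Bool.or_eq_true, Bool.not_eq_true', decide_eq_true_eq,
        beq_iff_eq] at e
      obtain ⟨⟨hm, hρ⟩, e⟩ := e
      obtain ⟨⟨⟨o1, o2⟩, bp⟩, bq⟩ :=
        (h1 ρ hρ).resolve_left (fun h => by simp [hm] at h)
      have hZ := hΦ ρ hρ hm 1
      set p := (tab.getD ρ (0, 0)).1
      set q := (tab.getD ρ (0, 0)).2
      have hp := (one_of_b o1).1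
      have hq := (one_of_b o1).2.1
      have tp := (triv_base C hA X hK hp bp).2
      have tq := (triv_base C hA X hK hq bq).2
      rcases e with ⟨e1, e2⟩ | ⟨e1, e2⟩
      · rw [← e1, ← e2]
        refine r2_one X hP Φ (one_of_b o1) tq tp ?_
        rw [← hZ]
        congr 1
        push_cast
        linear_combination h3'
      · rw [← e1, ← e2]
        refine r2_one X hP Φ (one_of_b o2) tp tq ?_
        rw [← X.cm_inv, ← hZ]
        refine inv_eq_of_mul_eq_one_right ?_
        rw [Φ.add hρ]
        have h0 := Φ.add hρ 0 0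
        rw [add_zero] at h0
        rw [show (1 : K) + -(((-2 : ℤ) : ℤ) : K) = 0 by push_cast; linear_combination h3']
        exact mul_eq_left.1 h0
    · simp at e

end Cfsg.Agent.H38.St
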