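/-
The certificates for the fields with 2, 3 and 4 elements.
-/
import Cfsg.Agent.H38.St.SmallCases
import Cfsg.Agent.Chevalley.All

set_option autoImplicit false
set_option maxRecDepth 100000

namespace Cfsg.Agent.H38.St

open Cfsg.Lie Cfsg.Agent.Chevalley

def tabD4 : List (ℕ × ℕ) :=
  [(1, 9), (0, 14), (0, 15), (0, 16), (0, 17), (1, 17), (0, 19), (0, 20), (0, 21), (0, 22),
    (1, 20), (1, 21), (2, 22), (3, 22), (1, 23), (2, 23), (3, 23), (4, 23), (6, 22), (6, 23),
    (7, 23), (8, 23), (9, 23), (14, 22)]

def tabE6 : List (ℕ × ℕ) :=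
  [(1, 25), (0, 46), (0, 47), (0, 48), (0, 49), (0, 50), (0, 51), (0, 52), (0, 53), (0, 54),
    (0, 55), (1, 53), (1, 54), (1, 55), (2, 55), (5, 55), (0, 61), (0, 62), (0, 63), (0, 64),
    (0, 65), (0, 66), (0, 67), (0, 68), (0, 69), (0, 70), (1, 64), (1, 65), (1, 66), (2, 66),
    (1, 67), (1, 68), (1, 69), (2, 67), (2, 68), (3, 67), (4, 68), (3, 69), (4, 69), (2, 70),
    (3, 70), (4, 70), (5, 69), (5, 70), (6, 70), (7, 70), (1, 71), (2, 71), (3, 71), (4, 71),
    (5, 71), (6, 71), (7, 71), (8, 71), (9, 71), (10, 71), (16, 66), (16, 69), (16, 70), (17, 70),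
    (18, 70), (16, 71), (17, 71), (18, 71), (19, 71), (20, 71), (21, 71), (22, 71), (23, 71), (24, 71),
    (25, 71), (46, 70)]

def tabE7 : List (ℕ × ℕ) :=
  [(1, 32), (0, 93), (0, 94), (0, 95), (0, 96), (0, 97), (0, 98), (0, 99), (0, 100), (0, 101),
    (0, 102), (0, 103), (0, 104), (0, 105), (0, 106), (0, 107), (0, 108), (0, 109), (0, 110), (0, 111),
    (0, 112), (0, 113), (0, 114), (0, 115), (0, 116), (0, 117), (0, 118), (0, 119), (0, 120), (0, 121),
    (0, 122), (0, 123), (0, 124), (1, 109), (1, 110), (1, 111), (1, 112), (1, 113), (1, 114), (1, 115),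
    (1, 116), (1, 117), (1, 118), (2, 115), (2, 116), (2, 117), (2, 118), (3, 118), (1, 119), (1, 120),
    (1, 121), (1, 122), (1, 123), (2, 119), (2, 120), (2, 121), (2, 122), (3, 119), (3, 120), (3, 121),
    (4, 119), (4, 120), (5, 119), (6, 120), (5, 121), (6, 121), (4, 122), (5, 122), (6, 122), (3, 123),
    (4, 123), (5, 123), (6, 123), (2, 124), (3, 124), (4, 124), (5, 124), (6, 124), (7, 122), (7, 123),
    (8, 123), (9, 123), (10, 123), (7, 124), (8, 124), (9, 124), (10, 124), (11, 124), (12, 124), (13, 124),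
    (14, 124), (15, 124), (16, 124), (1, 125), (2, 125), (3, 125), (4, 125), (5, 125), (6, 125), (7, 125),
    (8, 125), (9, 125), (10, 125), (11, 125), (12, 125), (13, 125), (14, 125), (15, 125), (16, 125), (17, 125),
    (18, 125), (19, 125), (20, 125), (21, 125), (22, 125), (23, 125), (24, 125), (25, 125), (26, 125), (27, 125),
    (28, 125), (29, 125), (30, 125), (31, 125), (32, 125), (93, 124)]

def tabB2four : List (ℕ × ℕ) := [(1, 4), (0, 5), (0, 6), (0, 5), (0, 6), (1, 7), (2, 7), (3, 6)]

def tabB2three : List (ℕ × ℕ) := [(1, 2), (0, 0), (0, 0), (5, 1), (6, 2), (0, 0), (0, 0), (5, 6)]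

theorem move2D4 : chkMoveN chevD4 2 = true := by decide +kernel
theorem sep2D4 : topAll chevD4 D4.tab.w (sepB chevD4 2) = true := by decide +kernel
theorem reachD4 : chkReach chevD4 tabD4 = true := by decide +kernel

theorem move2E6 : chkMoveN chevE6 2 = true := by decide +kernel
theorem sep2E6 : topAll chevE6 E6.tab.w (sepB chevE6 2) = true := by decide +kernel
theorem reachE6 : chkReach chevE6 tabE6 = true := by decide +kernel

theorem move2E7 : chkMoveN chevE7 2 = true := by decide +kernel
theorem sep2E7 : topAll chevE7 E7.tab.w (sepB chevE7 2) = true := by decide +kernel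
theorem reachE7 : chkReach chevE7 tabE7 = true := by decide +kernel

theorem move2B2 : chkMoveN chevB2 2 = true := by decide +kernel
theorem sep2B2 : topAll chevB2 B2.tab.w (sepB chevB2 2) = true := by decide +kernel
theorem reachB2 : chkReach chevB2 tabB2four = true := by decide +kernel

theorem move1D4 : chkMoveN chevD4 1 = true := by decide +kernel
theorem move1E6 : chkMoveN chevE6 1 = true := by decide +kernel
theorem move1E7 : chkMoveN chevE7 1 = true := by decide +kernel
theorem sepKillD4 : chkSepKill chevD4 = true := by decide +kernel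

theorem sep1E6 : topAll chevE6 E6.tab.w (sepB chevE6 1) = true := by decide +kernel
theorem decE6 : chkDec chevE6 tabE6 = true := by decide +kernel
theorem decompE6 : topAll chevE6 E6.tab.w (decB chevE6) = true := by decide +kernel
theorem shapeE6 : topAll chevE6 E6.tab.w (shapeB chevE6) = true := by decide +kernel
theorem compatE6 : chkCompat chevE6 E6.tab.w tabE6 = true := by decide +kernel

theorem sep1E7 : topAll chevE7 E7.tab.w (sepB chevE7 1) = true := by decide +kernel
theorem decE7 : chkDec chevE7 tabE7 = true := by decide +kernel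
theorem decompE7 : topAll chevE7 E7.tab.w (decB chevE7) = true := by decide +kernel
theorem shapeE7 : topAll chevE7 E7.tab.w (shapeB chevE7) = true := by decide +kernel
theorem compatE7 : chkCompat chevE7 E7.tab.w tabE7 = true := by decide +kernel

theorem dec2B2 : chkDec2 chevB2 tabB2three = true := by decide +kernel
theorem pairs2B2 : chkPairs2 chevB2 tabB2three = true := by decide +kernel

end Cfsg.Agent.H38.St
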