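/-
The certificates for E8 over the fields with at most four elements.
-/
import Cfsg.Agent.H38.St.SmallCases
import Cfsg.Agent.Chevalley.All

set_option autoImplicit false
set_option maxRecDepth 100000

namespace Cfsg.Agent.H38.St

open Cfsg.Lie Cfsg.Agent.Chevalley

def tabE8 : List (ℕ × ℕ) :=
  [(1, 119), (0, 120), (0, 122), (0, 125), (0, 129), (0, 134), (0, 140), (0, 146), (0, 151), (0, 155),
    (0, 158), (0, 160), (0, 161), (1, 161), (0, 168), (0, 173), (0, 177), (0, 180), (0, 182), (0, 183),
    (1, 183), (0, 187), (0, 190), (0, 192), (0, 193), (1, 193), (0, 196), (0, 198), (0, 199), (1, 199),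
    (0, 201), (0, 202), (1, 202), (0, 203), (1, 203), (2, 203), (0, 206), (0, 208), (0, 209), (1, 209),
    (0, 211), (0, 212), (1, 212), (0, 213), (1, 213), (2, 213), (0, 215), (0, 216), (1, 216), (0, 217),
    (1, 217), (2, 217), (0, 218), (1, 218), (2, 218), (3, 218), (0, 220), (0, 221), (1, 221), (0, 222),
    (1, 222), (2, 222), (0, 223), (1, 223), (2, 223), (3, 223), (0, 224), (1, 224), (2, 224), (3, 224),
    (4, 224), (0, 225), (1, 225), (2, 225), (3, 225), (4, 225), (5, 225), (6, 225), (0, 227), (0, 228),
    (1, 228), (0, 229), (1, 229), (2, 229), (0, 230), (1, 230), (2, 230), (3, 230), (0, 231), (1, 231),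
    (2, 231), (3, 231), (4, 231), (0, 232), (1, 232), (2, 232), (3, 232), (4, 232), (5, 232), (0, 233),
    (1, 233), (2, 233), (3, 233), (4, 233), (5, 233), (0, 234), (1, 234), (2, 234), (3, 234), (4, 234),
    (0, 235), (1, 235), (2, 235), (3, 235), (0, 236), (1, 236), (2, 236), (0, 237), (1, 237), (0, 238),
    (1, 239), (2, 238), (2, 239), (3, 237), (3, 238), (3, 239), (4, 236), (4, 237), (4, 238), (4, 239),
    (5, 235), (5, 236), (5, 237), (5, 238), (5, 239), (6, 234), (6, 235), (6, 236), (6, 237), (6, 238),
    (6, 239), (7, 234), (7, 235), (7, 236), (7, 237), (7, 238), (7, 239), (8, 235), (8, 236), (8, 237),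
    (8, 238), (8, 239), (9, 236), (9, 237), (9, 238), (9, 239), (10, 237), (10, 238), (10, 239), (11, 238),
    (11, 239), (12, 239), (14, 233), (14, 234), (14, 235), (14, 236), (14, 237), (14, 238), (14, 239), (15, 235),
    (15, 236), (15, 237), (15, 238), (15, 239), (16, 236), (16, 237), (16, 238), (16, 239), (17, 237), (17, 238),
    (17, 239), (18, 238), (18, 239), (19, 239), (21, 236), (21, 237), (21, 238), (21, 239), (22, 237), (22, 238),
    (22, 239), (23, 238), (23, 239), (24, 239), (26, 237), (26, 238), (26, 239), (27, 238), (27, 239), (28, 239),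
    (30, 238), (30, 239), (31, 239), (33, 239), (36, 237), (36, 238), (36, 239), (37, 238), (37, 239), (38, 239),
    (40, 238), (40, 239), (41, 239), (43, 239), (46, 238), (46, 239), (47, 239), (49, 239), (52, 239), (56, 238),
    (56, 239), (57, 239), (59, 239), (62, 239), (66, 239), (71, 239), (78, 238), (78, 239), (79, 239), (81, 239),
    (84, 239), (88, 239), (93, 239), (99, 239), (105, 239), (110, 239), (114, 239), (117, 239), (119, 239), (120, 238)]

theorem move2E8 : chkMoveN chevE8 2 = true := by decide +kernel
theorem sep2E8 : topAll chevE8 E8.tab.w (sepB chevE8 2) = true := by decide +kernel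
theorem reachE8 : chkReach chevE8 tabE8 = true := by decide +kernel
theorem move1E8 : chkMoveN chevE8 1 = true := by decide +kernel
theorem sep1E8 : topAll chevE8 E8.tab.w (sepB chevE8 1) = true := by decide +kernel
theorem decE8 : chkDec chevE8 tabE8 = true := by decide +kernel
theorem decompE8 : topAll chevE8 E8.tab.w (decB chevE8) = true := by decide +kernel
theorem shapeE8 : topAll chevE8 E8.tab.w (shapeB chevE8) = true := by decide +kernel
theorem compatE8 : chkCompat chevE8 E8.tab.w tabE8 = true := by decide +kernel

end Cfsg.Agent.H38.St
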