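/-
The certificates for F4 over the fields with at most four elements.
-/
import Cfsg.Agent.H38.St.SmallCases
import Cfsg.Agent.Chevalley.All

set_option autoImplicit false
set_option maxRecDepth 100000

namespace Cfsg.Agent.H38.St

open Cfsg.Lie Cfsg.Agent.Chevalley

def tabF4 : List (ℕ × ℕ) :=
  [(1, 23), (0, 24), (0, 26), (0, 29), (0, 31), (0, 32), (0, 29), (0, 36), (0, 38), (0, 39),
    (1, 39), (0, 40), (1, 40), (2, 40), (3, 40), (0, 42), (0, 43), (0, 36), (0, 44), (1, 44),
    (2, 44), (0, 45), (0, 38), (0, 46), (1, 47), (0, 39), (1, 39), (3, 45), (3, 46), (3, 47),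
    (0, 40), (1, 40), (2, 40), (7, 44), (7, 45), (7, 46), (7, 47), (8, 46), (8, 47), (9, 47),
    (11, 47), (0, 44), (1, 44), (2, 44), (18, 47), (4, 44), (5, 44), (6, 44)]

theorem move2F4 : chkMoveN chevF4 2 = true := by decide +kernel
theorem sep2F4 : topAll chevF4 F4.tab.w (sepB chevF4 2) = true := by decide +kernel
theorem reachF4 : chkReach chevF4 tabF4 = true := by decide +kernel
theorem move1F4 : chkMoveN chevF4 1 = true := by decide +kernel
theorem sepKillF4 : topAll chevF4 F4.tab.w (fun r s => sepB chevF4 1 r s || killB chevF4 r s) = true := by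
  decide +kernel

end Cfsg.Agent.H38.St
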