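/-
Central extensions of Steinberg's cover of type E6, E7, B2 or D4 over a finite field split, the
exceptional field with two elements aside for B2 and D4.
-/
import Cfsg.Agent.H38.St.SmallData
import Cfsg.Agent.H38.St.SmallDataE8
import Cfsg.Agent.H38.St.SmallDataF4
import Cfsg.Agent.H38.St.LiftData

set_option autoImplicit false

namespace Cfsg.Agent.H38.St

open Cfsg.Lie Cfsg.Lie.ChevalleyDatum Cfsg.Agent.Chevalley Cfsg.Agent.H38.CT

theorem charP_of_card {K : Type*} [Field K] [Fintype K] {q k : ℕ} (hq : q.Prime)
    (h : Fintype.card K = q ^ k) : CharP K q := by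
  obtain ⟨p, hp⟩ := CharP.exists K
  have hd : p ∣ q ^ k := by
    rw [← h, ← CharP.cast_eq_zero_iff K p, FiniteField.cast_card_eq_zero]
  have hp' : p.Prime := (CharP.char_is_prime_or_zero K p).resolve_right fun e => by
    subst e
    have : q ^ k = 0 := Nat.eq_zero_of_zero_dvd hd
    exact hq.ne_zero (eq_zero_of_pow_eq_zero this)
  rwa [← (Nat.prime_dvd_prime_iff_eq hp' hq).1 (hp'.dvd_of_dvd_pow hd)]

theorem two_cases {K : Type*} [Field K] [Fintype K] (h : Fintype.card K = 2) (x : K) :
    x = 0 ∨ x = 1 := by
  classical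
  have e : ({0, 1} : Finset K) = Finset.univ :=
    Finset.eq_univ_of_card _ (by rw [Finset.card_pair zero_ne_one, h])
  have := e ▸ Finset.mem_univ x
  simpa using this

theorem three_cases {K : Type*} [Field K] [Fintype K] [CharP K 3] (h : Fintype.card K = 3) (x : K) :
    x = 0 ∨ x = 1 ∨ x = -1 := by
  classical
  have hn : (1 : K) ≠ -1 := fun e => by
    have h3 : ((3 : ℕ) : K) = 0 := CharP.cast_eq_zero K 3
    push_cast at h3
    exact one_ne_zero (show (1 : K) = 0 by linear_combination h3 - e)
  have e : ({0, 1, -1} : Finset K) = Finset.univ := by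
    refine Finset.eq_univ_of_card _ ?_
    rw [h, Finset.card_eq_three]
    exact ⟨0, 1, -1, zero_ne_one, (neg_ne_zero.2 one_ne_zero).symm, hn, rfl⟩
  have := e ▸ Finset.mem_univ x
  simpa using this

theorem primeK_three {K : Type*} [Field K] [Fintype K] [CharP K 3] (h : Fintype.card K = 3) :
    PrimeK K := fun x => by
  rcases three_cases h x with rfl | rfl | rfl
  · exact ⟨0, Nat.cast_zero.symm⟩
  · exact ⟨1, Nat.cast_one.symm⟩
  · have h3 : ((3 : ℕ) : K) = 0 := CharP.cast_eq_zero K 3
    push_cast at h3
    exact ⟨2, by push_cast; linear_combination -h3⟩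

/-- every central extension splits -/
theorem exists_section_finite {K : Type*} [Field K] [Fintype K] (e : ChevalleyDatum × ℕ)
    (he : e ∈ [(chevE6, 0), (chevE7, 0), (chevB2, 2), (chevD4, 2)]) (hK : Fintype.card K ≠ e.2)
    {P : Type*} [Group P] (X : CExt P (e.1.SteinbergCover K)) :
    ∃ f : e.1.SteinbergCover K →* P, ∀ x, X.p (f x) = x := by
  have hmem : e.1 ∈ [chevG2, chevB2, chevD4, chevF4, chevE6, chevE7, chevE8] := by
    simp only [List.mem_cons, List.not_mem_nil, or_false] at he
    rcases he with rfl | rfl | rfl | rfl <;> simp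
  obtain ⟨Q, -, hA⟩ := exists_stData hmem K
  have hL := liftOK_of_mem hmem
  have hcard : 1 < Fintype.card K := Fintype.one_lt_card
  have hs : ∀ n, n < Fintype.card K → ∃ t : Finset K, n < t.card := fun n h =>
    ⟨Finset.univ, by rwa [Finset.card_univ]⟩
  by_cases h5 : 4 < Fintype.card K
  · obtain ⟨T⟩ := exists_scalers Q.K hA (hs 4 h5) hL
    exact T.exists_section X Q.K hA (hs 4 h5) hL
  have h234 : Fintype.card K = 2 ∨ Fintype.card K = 3 ∨ Fintype.card K = 4 := by omega
  simp only [List.mem_cons, List.not_mem_nil, or_false] at he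
  rcases h234 with h | h | h
  · -- two elements
    rcases he with rfl | rfl | rfl | rfl
    · exact split_two E6.cert hA hL X (two_cases h) (w := E6.tab.w) rfl decE6 decompE6 shapeE6
        compatE6
    · exact split_two E7.cert hA hL X (two_cases h) (w := E7.tab.w) rfl decE7 decompE7 shapeE7
        compatE7
    · exact absurd h hK
    · exact absurd h hK
  · -- three elements
    have := charP_of_card (K := K) (q := 3) (k := 1) (by norm_num) h
    have hP : PrimeK K := fun x => by
      rcases three_cases h x with rfl | rfl | rfl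
      · exact ⟨0, Nat.cast_zero.symm⟩
      · exact ⟨1, Nat.cast_one.symm⟩
      · have h3 : ((3 : ℕ) : K) = 0 := CharP.cast_eq_zero K 3
        push_cast at h3
        exact ⟨2, by push_cast; linear_combination -h3⟩
    rcases he with rfl | rfl | rfl | rfl
    · exact split_three E6.cert hA hL X hP (hs 2 (by omega)) move1E6
        fun r hr s hs a b => Or.inl (sepN_all E6.cert (w := E6.tab.w) rfl sep1E6 r hr s hs a b)
    · exact split_three E7.cert hA hL X hP (hs 2 (by omega)) move1E7
        fun r hr s hs a b => Or.inl (sepN_all E7.cert (w := E7.tab.w) rfl sep1E7 r hr s hs a b)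
    · exact split_three_B B2.cert hA hL X (three_cases h) (hs 2 (by omega)) dec2B2 pairs2B2
    · exact split_three D4.cert hA hL X hP (hs 2 (by omega)) move1D4 (sepKill_of_check sepKillD4)
  · -- four elements
    have := charP_of_card (K := K) (q := 2) (k := 2) (by norm_num) (by rw [h]; norm_num)
    rcases he with rfl | rfl | rfl | rfl
    · exact split_four E6.cert hA hL X (hs 3 (by omega)) (w := E6.tab.w) rfl move2E6 sep2E6 reachE6
    · exact split_four E7.cert hA hL X (hs 3 (by omega)) (w := E7.tab.w) rfl move2E7 sep2E7 reachE7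
    · exact split_four B2.cert hA hL X (hs 3 (by omega)) (w := B2.tab.w) rfl move2B2 sep2B2 reachB2
    · exact split_four D4.cert hA hL X (hs 3 (by omega)) (w := D4.tab.w) rfl move2D4 sep2D4 reachD4

/-- every central extension splits: type E8, all finite fields -/
theorem exists_section_finite_E8 {K : Type*} [Field K] [Fintype K]
    {P : Type*} [Group P] (X : CExt P (chevE8.SteinbergCover K)) :
    ∃ f : chevE8.SteinbergCover K →* P, ∀ x, X.p (f x) = x := by
  have hmem : chevE8 ∈ [chevG2, chevB2, chevD4, chevF4, chevE6, chevE7, chevE8] := by simp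
  obtain ⟨Q, -, hA⟩ := exists_stData hmem K
  have hL := liftOK_of_mem hmem
  have hcard : 1 < Fintype.card K := Fintype.one_lt_card
  have hs : ∀ n, n < Fintype.card K → ∃ t : Finset K, n < t.card := fun n h =>
    ⟨Finset.univ, by rwa [Finset.card_univ]⟩
  by_cases h5 : 4 < Fintype.card K
  · obtain ⟨T⟩ := exists_scalers Q.K hA (hs 4 h5) hL
    exact T.exists_section X Q.K hA (hs 4 h5) hL
  have h234 : Fintype.card K = 2 ∨ Fintype.card K = 3 ∨ Fintype.card K = 4 := by omega
  rcases h234 with h | h | h
  · exact split_two E8.cert hA hL X (two_cases h) (w := E8.tab.w) rfl decE8 decompE8 shapeE8 compatE8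
  · have := charP_of_card (K := K) (q := 3) (k := 1) (by norm_num) h
    exact split_three E8.cert hA hL X (primeK_three h) (hs 2 (by omega)) move1E8
      fun r hr s hs a b => Or.inl (sepN_all E8.cert (w := E8.tab.w) rfl sep1E8 r hr s hs a b)
  · have := charP_of_card (K := K) (q := 2) (k := 2) (by norm_num) (by rw [h]; norm_num)
    exact split_four E8.cert hA hL X (hs 3 (by omega)) (w := E8.tab.w) rfl move2E8 sep2E8 reachE8

/-- every central extension splits: type F4, more than two elements -/
theorem exists_section_finite_F4 {K : Type*} [Field K] [Fintype K] (hK : 3 ≤ Fintype.card K)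
    {P : Type*} [Group P] (X : CExt P (chevF4.SteinbergCover K)) :
    ∃ f : chevF4.SteinbergCover K →* P, ∀ x, X.p (f x) = x := by
  have hmem : chevF4 ∈ [chevG2, chevB2, chevD4, chevF4, chevE6, chevE7, chevE8] := by simp
  obtain ⟨Q, -, hA⟩ := exists_stData hmem K
  have hL := liftOK_of_mem hmem
  have hs : ∀ n, n < Fintype.card K → ∃ t : Finset K, n < t.card := fun n h =>
    ⟨Finset.univ, by rwa [Finset.card_univ]⟩
  by_cases h5 : 4 < Fintype.card K
  · obtain ⟨T⟩ := exists_scalers Q.K hA (hs 4 h5) hL
    exact T.exists_section X Q.K hA (hs 4 h5) hL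
  have h34 : Fintype.card K = 3 ∨ Fintype.card K = 4 := by omega
  rcases h34 with h | h
  · have := charP_of_card (K := K) (q := 3) (k := 1) (by norm_num) h
    exact split_three' F4.cert hA hL X (primeK_three h) (hs 2 (by omega)) (w := F4.tab.w) rfl move1F4
      sepKillF4
  · have := charP_of_card (K := K) (q := 2) (k := 2) (by norm_num) (by rw [h]; norm_num)
    exact split_four F4.cert hA hL X (hs 3 (by omega)) (w := F4.tab.w) rfl move2F4 sep2F4 reachF4

/-- a split central extension inside the derived group is an isomorphism -/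
theorem ker_eq_bot_of_section {P Δ : Type*} [Group P] [Group Δ] (X : CExt P Δ)
    (hd : X.p.ker ≤ commutator P) {f : Δ →* P} (hf : ∀ x, X.p (f x) = x) : X.p.ker = ⊥ := by
  have hle : commutator P ≤ f.range := by
    rw [commutator_eq_closure, Subgroup.closure_le]
    rintro _ ⟨a, b, rfl⟩
    refine ⟨X.p a * X.p b * (X.p a)⁻¹ * (X.p b)⁻¹, ?_⟩
    rw [map_mul, map_mul, map_mul, map_inv, map_inv, commutatorElement_def,
      ← X.cm_eq (hf (X.p a)) (hf (X.p b)), X.cm_eq rfl rfl]
  rw [eq_bot_iff]
  intro z hz
  obtain ⟨x, rfl⟩ := hle (hd hz)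
  have : x = 1 := by rw [← hf x]; exact hz
  rw [Subgroup.mem_bot, this, map_one]

end Cfsg.Agent.H38.St
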